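import Mathlib

set_option autoImplicit false
universe u
open MvPolynomial

namespace Groth.Agent.CA2H40

variable {K L Γ₀ Γ₁ : Type u} [Field K] [Field L] [Algebra K L]
  [LinearOrderedCommGroupWithZero Γ₀] [LinearOrderedCommGroupWithZero Γ₁]
  (vK : Valuation K Γ₀) (vL : Valuation L Γ₁) [vK.HasExtension vL]

/-- Gauss lemma: the value of a polynomial at elements with algebraically independent residues is
the value of one of its coefficients. -/
theorem exists_val_aeval_eq {J : Type u} (y : J → vL.valuationSubring)
    (hy : AlgebraicIndependent (IsLocalRing.ResidueField vK.valuationSubring)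
      (fun j => IsLocalRing.residue vL.valuationSubring (y j)))
    (Q : MvPolynomial J K) (hQ : Q ≠ 0) :
    ∃ d ∈ Q.support, vL (aeval (fun j => (y j : L)) Q) = vL (algebraMap K L (Q.coeff d)) := by
  obtain ⟨d, hd, hmax⟩ := Q.support.exists_max_image (fun d => vK (Q.coeff d))
    (Finset.nonempty_of_ne_empty (fun h => hQ (support_eq_empty.1 h)))
  refine ⟨d, hd, ?_⟩
  have hc : Q.coeff d ≠ 0 := mem_support_iff.1 hd
  set Q' := C (Q.coeff d)⁻¹ * Q with hQ'
  have hle : ∀ e, vK (Q'.coeff e) ≤ 1 := by
    intro e
    rw [hQ', coeff_C_mul, map_mul, map_inv₀, inv_mul_le_one₀ (zero_lt_iff.2 (vK.ne_zero_iff.2 hc))]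
    by_cases he : e ∈ Q.support
    · exact hmax e he
    · rw [notMem_support_iff.1 he, map_zero]; exact zero_le
  obtain ⟨Q'', hQ''⟩ : ∃ Q'' : MvPolynomial J vK.valuationSubring,
      MvPolynomial.map (algebraMap vK.valuationSubring K) Q'' = Q' := by
    apply (MvPolynomial.mem_range_map_iff_coeffs_subset).2
    intro c hc'
    obtain ⟨e, -, rfl⟩ := mem_coeffs_iff.1 hc'
    exact ⟨⟨Q'.coeff e, hle e⟩, rfl⟩
  have hne : MvPolynomial.map (IsLocalRing.residue vK.valuationSubring) Q'' ≠ 0 := by
    intro h0
    have h1 := congrArg (MvPolynomial.coeff d) h0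
    rw [coeff_map, coeff_zero] at h1
    have h2 : ((MvPolynomial.coeff d Q'' : vK.valuationSubring) : K) = 1 := by
      have := congrArg (MvPolynomial.coeff d) hQ''
      rw [coeff_map, hQ', coeff_C_mul, inv_mul_cancel₀ hc] at this
      exact this
    have h3 : Q''.coeff d = 1 := Subtype.ext h2
    rw [h3, map_one] at h1
    exact one_ne_zero h1
  have hev : aeval (fun j => IsLocalRing.residue vL.valuationSubring (y j))
      (MvPolynomial.map (IsLocalRing.residue vK.valuationSubring) Q'') =
      IsLocalRing.residue vL.valuationSubring (aeval y Q'') := by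
    rw [aeval_def, eval₂_map, aeval_def, eval₂_comp_left]
    rfl
  have hres : IsLocalRing.residue vL.valuationSubring (aeval y Q'') ≠ 0 := by
    rw [← hev]
    exact fun h => hne (hy.eq_zero_of_aeval_eq_zero _ h)
  have hunit : IsUnit (aeval y Q'') := (IsLocalRing.residue_ne_zero_iff_isUnit _).1 hres
  have hval : vL ((aeval y Q'' : vL.valuationSubring) : L) = 1 :=
    (Valuation.Integers.isUnit_iff_valuation_eq_one (Valuation.valuationSubring.integers vL)).1 hunit
  have hmap : ((aeval y Q'' : vL.valuationSubring) : L) = aeval (fun j => (y j : L)) Q' := by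
    rw [← hQ'', aeval_def, aeval_def, eval₂_map]
    show vL.valuationSubring.subtype _ = _
    rw [eval₂_comp_left]
    rfl
  rw [hmap, hQ', map_mul, aeval_C, map_mul, map_inv₀, map_inv₀,
    inv_mul_eq_one₀ (vL.ne_zero_iff.2 (by simpa using hc))] at hval
  exact hval.symm

/-- Elements with independent values modulo `K` together with elements with algebraically
independent residues are algebraically independent. -/
theorem algebraicIndependent_sum {I J : Type u} (x : I → Lˣ) (y : J → vL.valuationSubring)
    (hy : AlgebraicIndependent (IsLocalRing.ResidueField vK.valuationSubring)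
      (fun j => IsLocalRing.residue vL.valuationSubring (y j)))
    (hx : ∀ a b : I →₀ ℕ, ∀ c c' : Kˣ,
      vL ((a.prod fun i k => ((x i : L)) ^ k) * algebraMap K L c) =
        vL ((b.prod fun i k => ((x i : L)) ^ k) * algebraMap K L c') → a = b) :
    AlgebraicIndependent K (Sum.elim (fun i => (x i : L)) (fun j => (y j : L))) := by
  classical
  refine algebraicIndependent_iff.2 fun P hP => ?_
  by_contra hne
  set P' := sumAlgEquiv K I J P with hP'
  have hP'0 : P' ≠ 0 := by simpa [hP'] using hne
  let F : (I →₀ ℕ) → L := fun a =>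
    aeval (fun j => (y j : L)) (P'.coeff a) * a.prod fun i k => ((x i : L)) ^ k
  have hsum : aeval (Sum.elim (fun i => (x i : L)) (fun j => (y j : L))) P = ∑ a ∈ P'.support, F a := by
    have h1 : ∀ Q : MvPolynomial (I ⊕ J) K,
        aeval (Sum.elim (fun i => (x i : L)) (fun j => (y j : L))) Q =
          eval₂ (aeval (fun j => (y j : L)) : MvPolynomial J K →ₐ[K] L).toRingHom
            (fun i => (x i : L)) (sumAlgEquiv K I J Q) := by
      intro Q
      induction Q using MvPolynomial.induction_on with
      | C c => rw [sumAlgEquiv_C_inl, eval₂_C]; simp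
      | add p q hp hq => simp only [map_add, eval₂_add, hp, hq]
      | mul_X p i hp => cases i <;> simp [map_mul, eval₂_mul, hp]
    rw [h1]
    exact eval₂_eq _ _ _
  have hval : ∀ a ∈ P'.support, ∃ c : Kˣ, vL (F a) = vL ((a.prod fun i k => ((x i : L)) ^ k) * algebraMap K L c) := by
    intro a ha
    obtain ⟨d, hd, he⟩ := exists_val_aeval_eq vK vL y hy _ (mem_support_iff.1 ha)
    refine ⟨Units.mk0 _ (mem_support_iff.1 hd), ?_⟩
    simp only [F, map_mul, he, Units.val_mk0]
    exact mul_comm _ _
  choose! c hc using hval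
  obtain ⟨a, ha, hamax⟩ := P'.support.exists_max_image (fun a => vL (F a))
    (Finset.nonempty_of_ne_empty (fun h => hP'0 (support_eq_empty.1 h)))
  have hlt : ∀ b ∈ P'.support \ {a}, vL (F b) < vL (F a) := by
    intro b hb
    obtain ⟨hb, hba⟩ := Finset.mem_sdiff.1 hb
    refine lt_of_le_of_ne (hamax b hb) fun h => hba ?_
    rw [hc b hb, hc a ha] at h
    simp [hx b a _ _ h]
  have h0 := Valuation.map_sum_eq_of_lt vL ha hlt
  rw [← hsum, hP, map_zero, hc a ha] at h0
  have hprod : (a.prod fun i k => ((x i : L)) ^ k) ≠ 0 :=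
    Finset.prod_ne_zero_iff.2 fun i _ => pow_ne_zero _ (x i).ne_zero
  exact vL.ne_zero_iff.2 (mul_ne_zero hprod (by simp)) h0.symm

/-- The Abhyankar inequality. -/
theorem abhyankar :
    Module.rank ℤ (Additive Lˣ ⧸ Subgroup.toAddSubgroup
        (vL.valuationSubring.unitGroup ⊔ (Units.map (algebraMap K L).toMonoidHom).range)) +
      Algebra.trdeg (IsLocalRing.ResidueField vK.valuationSubring)
        (IsLocalRing.ResidueField vL.valuationSubring) ≤ Algebra.trdeg K L := by
  set H := vL.valuationSubring.unitGroup ⊔ (Units.map (algebraMap K L).toMonoidHom).range with hH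
  obtain ⟨s, hs, hli⟩ := exists_set_linearIndependent ℤ (Additive Lˣ ⧸ Subgroup.toAddSubgroup H)
  obtain ⟨t, ht⟩ := exists_isTranscendenceBasis (R := IsLocalRing.ResidueField vK.valuationSubring)
    (A := IsLocalRing.ResidueField vL.valuationSubring)
  rw [← hs, ← ht.cardinalMk_eq_trdeg]
  choose x hxq using fun q : s => QuotientAddGroup.mk_surjective (q : Additive Lˣ ⧸ Subgroup.toAddSubgroup H)
  choose y hyr using fun r : t => IsLocalRing.residue_surjective (r : IsLocalRing.ResidueField vL.valuationSubring)
  have hy : AlgebraicIndependent (IsLocalRing.ResidueField vK.valuationSubring)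
      (fun r : t => IsLocalRing.residue vL.valuationSubring (y r)) := by
    simp only [hyr]; exact ht.1
  have hindep := algebraicIndependent_sum vK vL (fun q => Additive.toMul (x q)) y hy (fun a b c c' h => by
    let φ : Lˣ →* Multiplicative (Additive Lˣ ⧸ Subgroup.toAddSubgroup H) :=
      AddMonoidHom.toMultiplicative (QuotientAddGroup.mk' (Subgroup.toAddSubgroup H))
    have hφH : ∀ g ∈ H, φ g = 1 := fun g hg => (QuotientAddGroup.eq_zero_iff (Additive.ofMul g)).2 hg
    set ua : Lˣ := a.prod fun i k => Additive.toMul (x i) ^ k with hua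
    set ub : Lˣ := b.prod fun i k => Additive.toMul (x i) ^ k with hub
    have hu : ∀ e : s →₀ ℕ, ((e.prod fun i k => Additive.toMul (x i) ^ k : Lˣ) : L) =
        e.prod fun i k => ((Additive.toMul (x i) : Lˣ) : L) ^ k := fun e => by
      simp [Finsupp.prod]
    rw [← hu, ← hu, ← hua, ← hub] at h
    have hmem : ua * Units.map (algebraMap K L).toMonoidHom c *
        (ub * Units.map (algebraMap K L).toMonoidHom c')⁻¹ ∈ vL.valuationSubring.unitGroup := by
      rw [ValuationSubring.mem_unitGroup_iff,
        ← (Valuation.isEquiv_valuation_valuationSubring vL).eq_one_iff_eq_one]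
      simp only [Units.val_mul, map_mul, Units.val_inv_eq_inv_val, map_inv₀]
      simp only [map_mul] at h
      simp only [Units.coe_map, MonoidHom.coe_coe, RingHom.toMonoidHom_eq_coe]
      rw [h]
      exact mul_inv_cancel₀ (mul_ne_zero (vL.ne_zero_iff.2 ub.ne_zero) (vL.ne_zero_iff.2 (by simp)))
    have h1 : φ (ua * Units.map (algebraMap K L).toMonoidHom c *
        (ub * Units.map (algebraMap K L).toMonoidHom c')⁻¹) = 1 :=
      hφH _ (Subgroup.mem_sup_left hmem)
    have hcanc : ∀ (g : Lˣ) (k : Kˣ), φ (g * Units.map (algebraMap K L).toMonoidHom k) = φ g := fun g k => by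
      rw [map_mul, hφH _ (Subgroup.mem_sup_right ⟨k, rfl⟩)]
      exact mul_one (φ g)
    rw [map_mul φ (ua * _), map_inv φ, hcanc, hcanc] at h1
    replace h1 : φ ua = φ ub := mul_inv_eq_one.1 h1
    have h2 : ∀ e : s →₀ ℕ, Multiplicative.toAdd (φ (e.prod fun i k => Additive.toMul (x i) ^ k)) =
        Finsupp.linearCombination ℤ (fun q : s => (q : Additive Lˣ ⧸ Subgroup.toAddSubgroup H))
          (e.mapRange (fun k : ℕ => (k : ℤ)) Nat.cast_zero) := by
      intro e
      rw [map_finsuppProd, Finsupp.linearCombination_apply,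
        Finsupp.sum_mapRange_index (fun i => by simp), Finsupp.prod, Finsupp.sum, toAdd_prod]
      refine Finset.sum_congr rfl fun i _ => ?_
      rw [map_pow, toAdd_pow, natCast_zsmul, ← hxq i]
      rfl
    have h3 := h2 a
    rw [← hua, h1, hub, h2 b] at h3
    exact (Finsupp.mapRange_injective _ Nat.cast_zero Nat.cast_injective (hli h3)).symm)
  have h4 := hindep.cardinalMk_le_trdeg
  rwa [Cardinal.mk_sum, Cardinal.lift_id, Cardinal.lift_id] at h4

end Groth.Agent.CA2H40
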