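import Mathlib

/-! Descent of finite projective modules along `A[1/t] → S[1/t]` when `A → S` is bijective modulo every power of `t`. -/

set_option autoImplicit false

universe u

open scoped TensorProduct

namespace Groth.Agent.CA2H40.AwayApprox

/-- `φ : A → S` is bijective modulo all powers of `t`, `t` in both radicals, and `L → L'` is the map away from `t`. -/
structure Setting {A S : Type u} [CommRing A] [CommRing S] (φ : A →+* S) (t : A)
    (L L' : Type u) [CommRing L] [CommRing L'] [Algebra A L] [Algebra S L'] [Algebra L L'] : Prop where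
  awayA : IsLocalization.Away t L
  awayS : IsLocalization.Away (φ t) L'
  comp : ∀ a, algebraMap L L' (algebraMap A L a) = algebraMap S L' (φ a)
  jacS : Ideal.span {φ t} ≤ Ideal.jacobson ⊥
  inj : ∀ (M : ℕ) x, φ x ∈ Ideal.span {φ t ^ M} → x ∈ Ideal.span {t ^ M}
  surj : ∀ (M : ℕ) s, ∃ a, s - φ a ∈ Ideal.span {φ t ^ M}
  jacA : Ideal.span {t} ≤ Ideal.jacobson ⊥

variable {A S : Type u} [CommRing A] [CommRing S] {φ : A →+* S} {t : A}
  {L L' : Type u} [CommRing L] [CommRing L'] [Algebra A L] [Algebra S L'] [Algebra L L']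

/-- The small elements of `L'`. -/
def small (S L' : Type u) [CommRing S] [CommRing L'] [Algebra S L'] (τ : S) : Submodule S L' :=
  LinearMap.range ((Algebra.linearMap S L').comp (LinearMap.mulLeft S τ))

theorem mem_small {τ : S} {x : L'} : x ∈ small S L' τ ↔ ∃ s, algebraMap S L' (τ * s) = x := Iff.rfl

namespace Setting

variable (h : Setting φ t L L')
include h

theorem exists_common_pow {ι : Type*} [Finite ι] (c : ι → L') :
    ∃ (k : ℕ) (d : ι → S), ∀ i, algebraMap S L' (d i) = algebraMap S L' (φ t) ^ k * c i := by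
  haveI := h.awayS
  classical
  haveI := Fintype.ofFinite ι
  choose k d hd using fun i => IsLocalization.Away.surj (S := L') (φ t) (c i)
  refine ⟨∑ i, k i, fun i => φ t ^ (∑ j, k j - k i) * d i, fun i => ?_⟩
  rw [map_mul, map_pow, ← hd, mul_left_comm, ← pow_add,
    Nat.sub_add_cancel (Finset.single_le_sum (f := k) (fun _ _ => Nat.zero_le _) (Finset.mem_univ i)), mul_comm]

/-- Simultaneous approximation. -/
theorem exists_approx {ι : Type*} [Finite ι] (c : ι → L') (y : L') :
    ∃ x : L, ∀ i, (algebraMap L L' x - y) * c i ∈ small S L' (φ t) := by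
  haveI := h.awayS; haveI := h.awayA
  obtain ⟨k, d, hd⟩ := h.exists_common_pow c
  obtain ⟨m, s, hs⟩ := IsLocalization.Away.surj (S := L') (φ t) y
  obtain ⟨a, ha⟩ := h.surj (m + k + 1) s
  obtain ⟨σ, hσ⟩ := Ideal.mem_span_singleton'.mp ha
  obtain ⟨ti, hti⟩ := (IsLocalization.Away.algebraMap_isUnit (S := L) t).exists_right_inv
  refine ⟨algebraMap A L a * ti ^ m, fun i => mem_small.mpr ⟨-(σ * d i), ?_⟩⟩
  have hu : IsUnit (algebraMap S L' (φ t)) := IsLocalization.Away.algebraMap_isUnit (φ t)
  have hx : algebraMap L L' (algebraMap A L a * ti ^ m) * algebraMap S L' (φ t) ^ m = algebraMap S L' (φ a) := by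
    rw [← h.comp t, ← map_pow, ← map_mul, mul_assoc, ← mul_pow, mul_comm ti, hti, one_pow, mul_one, h.comp]
  refine (hu.pow m).mul_right_cancel ?_
  have hσ' := congrArg (algebraMap S L') hσ
  simp only [map_mul, map_sub, map_pow, map_neg, hd] at hσ' hs hx ⊢
  linear_combination -(c i) * hx + (c i) * hs - (c i) * hσ'

theorem isUnit_one_add {ι : Type*} [Fintype ι] [DecidableEq ι] (E : Matrix ι ι L')
    (hE : ∀ i j, E i j ∈ small S L' (φ t)) : IsUnit (1 + E) := by
  choose E0 hE0 using fun i j => mem_small.mp (hE i j)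
  let F : Matrix ι ι S := Matrix.of fun i j => φ t * E0 i j
  have hF : E = (algebraMap S L').mapMatrix F := by
    ext i j; exact (hE0 i j).symm
  have hF1 : IsUnit (1 + F) := by
    rw [Matrix.isUnit_iff_isUnit_det]
    refine Ideal.isUnit_of_sub_one_mem_jacobson_bot _ (h.jacS ?_)
    rw [← Ideal.Quotient.eq_zero_iff_mem, map_sub, RingHom.map_det, map_add, map_one, map_one]
    have : (Ideal.Quotient.mk (Ideal.span {φ t})).mapMatrix F = 0 := by
      ext i j
      exact Ideal.Quotient.eq_zero_iff_mem.mpr (Ideal.mul_mem_right _ _ (Ideal.mem_span_singleton_self _))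
    rw [this, add_zero, Matrix.det_one, sub_self]
  rw [hF, ← map_one (algebraMap S L').mapMatrix, ← map_add]
  exact hF1.map _

/-- An endomorphism of a finite module close to the identity is bijective. -/
theorem bijective_one_add {V : Type u} [AddCommGroup V] [Module L' V] {ι : Type*} [Fintype ι]
    (v : ι → V) (hv : Submodule.span L' (Set.range v) = ⊤) (T : V →ₗ[L'] V)
    (hT : ∀ i, ∃ E : ι → L', (∀ j, E j ∈ small S L' (φ t)) ∧ T (v i) = ∑ j, E j • v j) :
    Function.Bijective ((LinearMap.id : V →ₗ[L'] V) + T) := by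
  classical
  haveI : Module.Finite L' V := ⟨hv ▸ Submodule.fg_span (Set.finite_range v)⟩
  choose E hE hT' using hT
  refine OrzechProperty.bijective_of_surjective_endomorphism _ (LinearMap.range_eq_top.mp (top_le_iff.mp ?_))
  rw [← hv, Submodule.span_le]
  rintro _ ⟨i, rfl⟩
  obtain ⟨U, hU⟩ := (h.isUnit_one_add (Matrix.of E) fun i j => hE i j).exists_left_inv
  refine ⟨∑ j, U i j • v j, ?_⟩
  have hj : ∀ j, (LinearMap.id + T : V →ₗ[L'] V) (v j) = ∑ l, (1 + Matrix.of E) j l • v l := fun j => by
    simp only [LinearMap.add_apply, LinearMap.id_apply, hT', Matrix.add_apply, Matrix.of_apply, add_smul,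
      Finset.sum_add_distrib, Matrix.one_apply, ite_smul, one_smul, zero_smul, Finset.sum_ite_eq,
      Finset.mem_univ, if_true]
  rw [map_sum]
  simp_rw [map_smul, hj, Finset.smul_sum, smul_smul]
  rw [Finset.sum_comm]
  have h1 : ∀ l, ∑ j, (U i j * (1 + Matrix.of E) j l) • v l = (1 : Matrix ι ι L') i l • v l := fun l => by
    rw [← Finset.sum_smul, ← Matrix.mul_apply, hU]
  simp_rw [h1, Matrix.one_apply, ite_smul, one_smul, zero_smul, Finset.sum_ite_eq, Finset.mem_univ, if_true]

/-- `L → L'` detects vanishing of finite modules. -/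
theorem subsingleton_of_tensor {C : Type u} [AddCommGroup C] [Module L C] [Module.Finite L C]
    (hC : Subsingleton (L' ⊗[L] C)) : Subsingleton C := by
  haveI := h.awayS; haveI := h.awayA
  by_contra hne
  rw [not_subsingleton_iff_nontrivial] at hne
  obtain ⟨K, hK, -⟩ := (eq_top_or_exists_le_coatom (⊥ : Submodule L C)).resolve_left bot_ne_top
  obtain ⟨m, hm, ⟨e⟩⟩ := isSimpleModule_iff_quot_maximal.mp (isSimpleModule_iff_isCoatom.mpr hK)
  -- `m` stays proper in `L'`
  have hm' : m.map (algebraMap L L') ≠ ⊤ := fun htop => by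
    have h1 : (1 : L') ∈ m.map (algebraMap L L') := htop ▸ Submodule.mem_top
    let I : Ideal A := m.comap (algebraMap A L)
    have hI : m = I.map (algebraMap A L) := (IsLocalization.map_comap (Submonoid.powers t) L m).symm
    have hI' : (1 : L') ∈ (I.map φ).map (algebraMap S L') := by
      rw [Ideal.map_map, show (algebraMap S L').comp φ = (algebraMap L L').comp (algebraMap A L) from
        RingHom.ext fun a => (h.comp a).symm, ← Ideal.map_map, ← hI]
      exact h1
    obtain ⟨⟨⟨z, hz⟩, ⟨_, k, rfl⟩⟩, hzk⟩ := (IsLocalization.mem_map_algebraMap_iff (Submonoid.powers (φ t)) L').mp hI'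
    rw [one_mul] at hzk
    obtain ⟨⟨_, j, rfl⟩, hj⟩ := (IsLocalization.eq_iff_exists (Submonoid.powers (φ t)) L').mp hzk
    have hmem : φ t ^ (j + k) ∈ I.map φ := by
      rw [pow_add]
      exact hj ▸ (I.map φ).mul_mem_left _ hz
    have hle : I.map φ ≤ (Ideal.span {φ t ^ (j + k + 1)} ⊔ Ideal.span (φ '' (I : Set A))) := le_sup_right
    have hex : ∀ x ∈ Ideal.span (φ '' (I : Set A)), ∃ a ∈ I, x - φ a ∈ Ideal.span {φ t ^ (j + k + 1)} := by
      intro x hx
      induction hx using Submodule.span_induction with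
      | mem y hy =>
        obtain ⟨a, ha, rfl⟩ := hy
        exact ⟨a, ha, by simp⟩
      | zero => exact ⟨0, I.zero_mem, by simp⟩
      | add y w _ _ hy hw =>
        obtain ⟨a, ha, ha'⟩ := hy
        obtain ⟨b, hb, hb'⟩ := hw
        exact ⟨a + b, I.add_mem ha hb, by
          rw [map_add, add_sub_add_comm]; exact Ideal.add_mem _ ha' hb'⟩
      | smul s y _ hy =>
        obtain ⟨a, ha, ha'⟩ := hy
        obtain ⟨b, hb⟩ := h.surj (j + k + 1) s
        refine ⟨b * a, I.mul_mem_left b ha, ?_⟩
        rw [smul_eq_mul, map_mul, show s * y - φ b * φ a = s * (y - φ a) + (s - φ b) * φ a by ring]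
        exact Ideal.add_mem _ (Ideal.mul_mem_left _ _ ha') (Ideal.mul_mem_right _ _ hb)
    obtain ⟨a, ha, ha'⟩ := hex _ hmem
    rw [← map_pow φ t (j + k), ← map_sub] at ha'
    obtain ⟨w, hw⟩ := Ideal.mem_span_singleton'.mp (h.inj _ _ ha')
    have hu : IsUnit (-(w * t) + 1) := by
      simpa using Ideal.mem_jacobson_bot.mp (h.jacA (neg_mem (Ideal.mul_mem_left _ w (Ideal.mem_span_singleton_self t)))) 1
    have htI : t ^ (j + k) ∈ I := by
      obtain ⟨r, hr⟩ := hu
      have heq : t ^ (j + k) = a * ↑r⁻¹ := by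
        rw [eq_comm, Units.mul_inv_eq_iff_eq_mul, hr]
        rw [pow_succ] at hw
        linear_combination hw
      rw [heq]
      exact I.mul_mem_right _ ha
    refine hm.ne_top (m.eq_top_of_isUnit_mem (x := algebraMap A L (t ^ (j + k))) htI ?_)
    rw [map_pow]
    exact (IsLocalization.Away.algebraMap_isUnit t).pow _
  let g : C →ₗ[L] L' ⧸ m.map (algebraMap L L') :=
    (Submodule.liftQ m (LinearMap.toSpanSingleton L _ 1) (fun x hx => by
      rw [LinearMap.mem_ker, LinearMap.toSpanSingleton_apply, Algebra.smul_def, mul_one,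
        IsScalarTower.algebraMap_apply L L' (L' ⧸ m.map (algebraMap L L'))]
      exact Ideal.Quotient.eq_zero_iff_mem.mpr (Ideal.mem_map_of_mem _ hx))).comp (e.toLinearMap.comp K.mkQ)
  obtain ⟨c, hc⟩ := (e.surjective.comp K.mkQ_surjective) (Submodule.Quotient.mk 1)
  have hg : g c = 1 := by
    simp only [g, LinearMap.comp_apply, LinearEquiv.coe_toLinearMap]
    rw [show e (K.mkQ c) = Submodule.Quotient.mk 1 from hc, Submodule.liftQ_apply, LinearMap.toSpanSingleton_apply,
      one_smul]
  have h0 : g.liftBaseChange L' ((1 : L') ⊗ₜ c) = 0 := by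
    rw [Subsingleton.elim ((1 : L') ⊗ₜ[L] c) 0, map_zero]
  rw [LinearMap.liftBaseChange_tmul, one_smul, hg] at h0
  haveI := Ideal.Quotient.nontrivial_iff.mpr hm'
  exact one_ne_zero h0

/-- Every map of base changes is approximated by a base change, up to a bijective correction. -/
theorem exists_hom_approx {M N : Type u} [AddCommGroup M] [Module L M] [Module.Finite L M] [Module.Projective L M]
    [AddCommGroup N] [Module L N] [Module.Finite L N]
    (ψ : L' ⊗[L] M →ₗ[L'] L' ⊗[L] N) (Q : L' ⊗[L] N →ₗ[L'] L' ⊗[L] M) :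
    ∃ f : M →ₗ[L] N, Function.Bijective ((LinearMap.id : L' ⊗[L] M →ₗ[L'] L' ⊗[L] M) + Q.comp (f.baseChange L' - ψ)) := by
  classical
  obtain ⟨m, p, hp⟩ := Module.Finite.exists_fin' L M
  obtain ⟨n, q, hq⟩ := Module.Finite.exists_fin' L N
  obtain ⟨i, hi⟩ := p.exists_rightInverse_of_surjective (LinearMap.range_eq_top.mpr hp)
  let v : Fin m → L' ⊗[L] M := fun a => 1 ⊗ₜ p (Pi.single a 1)
  let w : Fin n → L' ⊗[L] N := fun b => 1 ⊗ₜ q (Pi.single b 1)
  have hgen : ∀ {X : Type u} [AddCommGroup X] [Module L X] {d : ℕ} (r : (Fin d → L) →ₗ[L] X), Function.Surjective r →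
      Submodule.span L' (Set.range fun a => (1 : L') ⊗ₜ[L] r (Pi.single a 1)) = ⊤ := by
    intro X _ _ d r hr
    rw [← top_le_iff]
    rintro z -
    induction z using TensorProduct.induction_on with
    | zero => exact Submodule.zero_mem _
    | add z z' hz hz' => exact Submodule.add_mem _ hz hz'
    | tmul y x =>
      obtain ⟨x, rfl⟩ := hr x
      rw [pi_eq_sum_univ x, map_sum, TensorProduct.tmul_sum]
      refine Submodule.sum_mem _ fun a _ => ?_
      rw [map_smul, show (fun j => if a = j then (1 : L) else 0) = Pi.single a 1 from by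
        funext j; simp [Pi.single_apply, eq_comm]]
      rw [TensorProduct.tmul_smul, show y ⊗ₜ[L] r (Pi.single a 1) = y • ((1 : L') ⊗ₜ[L] r (Pi.single a 1)) by
        rw [TensorProduct.smul_tmul', smul_eq_mul, mul_one], ← IsScalarTower.algebraMap_smul L' (x a)]
      exact Submodule.smul_mem _ _ (Submodule.smul_mem _ _ (Submodule.subset_span ⟨a, rfl⟩))
  have hv := hgen p hp
  have hw := hgen q hq
  choose y hy using fun a => (Submodule.mem_span_range_iff_exists_fun L').mp (hw ▸ Submodule.mem_top : ψ (v a) ∈ Submodule.span L' (Set.range w))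
  let f' : Fin m → Fin n → M →ₗ[L] N := fun a b =>
    ((LinearMap.proj a).comp i).smulRight (q (Pi.single b 1))
  let g : Fin m → Fin n → (L' ⊗[L] M →ₗ[L'] L' ⊗[L] M) := fun a b => Q.comp ((f' a b).baseChange L')
  have hψ : ψ = ∑ a, ∑ b, y a b • (f' a b).baseChange L' := by
    refine TensorProduct.AlgebraTensorModule.ext fun z x => ?_
    rw [show z ⊗ₜ[L] x = z • ((1 : L') ⊗ₜ[L] x) by rw [TensorProduct.smul_tmul', smul_eq_mul, mul_one], map_smul, map_smul]
    refine congrArg (z • ·) ?_
    have hx : x = ∑ a, i x a • p (Pi.single a 1) := by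
      conv_lhs => rw [show x = p (i x) from (LinearMap.congr_fun hi x).symm, pi_eq_sum_univ (i x), map_sum]
      refine Finset.sum_congr rfl fun a _ => ?_
      rw [map_smul]; congr 2; funext j; simp [Pi.single_apply, eq_comm]
    conv_lhs => rw [hx, TensorProduct.tmul_sum, map_sum]
    simp only [LinearMap.sum_apply, LinearMap.smul_apply, LinearMap.baseChange_tmul]
    refine Finset.sum_congr rfl fun a _ => ?_
    rw [TensorProduct.tmul_smul, ← IsScalarTower.algebraMap_smul L' (i x a), map_smul,
      show ψ ((1 : L') ⊗ₜ[L] p (Pi.single a 1)) = _ from (hy a).symm, Finset.smul_sum]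
    refine Finset.sum_congr rfl fun b _ => ?_
    show _ = y a b • ((1 : L') ⊗ₜ[L] (i x a • q (Pi.single b 1)))
    rw [TensorProduct.tmul_smul, ← IsScalarTower.algebraMap_smul L' (i x a) ((1 : L') ⊗ₜ[L] q (Pi.single b 1)), smul_comm]
  choose C hC using fun a b c => (Submodule.mem_span_range_iff_exists_fun L').mp (hv ▸ Submodule.mem_top : g a b (v c) ∈ Submodule.span L' (Set.range v))
  choose x hx using fun a b => h.exists_approx (fun cd : Fin m × Fin m => C a b cd.1 cd.2) (y a b)
  refine ⟨∑ a, ∑ b, x a b • f' a b, h.bijective_one_add v hv _ fun c => ?_⟩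
  refine ⟨fun d => ∑ a, ∑ b, (algebraMap L L' (x a b) - y a b) * C a b c d,
    fun d => Submodule.sum_mem _ fun a _ => Submodule.sum_mem _ fun b _ => hx a b (c, d), ?_⟩
  have hΔ : (∑ a, ∑ b, x a b • f' a b).baseChange L' - ψ =
      ∑ a, ∑ b, (algebraMap L L' (x a b) - y a b) • (f' a b).baseChange L' := by
    refine TensorProduct.AlgebraTensorModule.ext fun z x' => ?_
    simp only [hψ, LinearMap.sub_apply, LinearMap.sum_apply, LinearMap.smul_apply, LinearMap.baseChange_tmul,
      TensorProduct.tmul_sum, sub_smul, Finset.sum_sub_distrib, TensorProduct.tmul_smul, IsScalarTower.algebraMap_smul]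
  rw [LinearMap.comp_apply, hΔ]
  simp only [LinearMap.sum_apply, LinearMap.smul_apply, map_sum, map_smul]
  have hC' : ∀ a b, Q ((f' a b).baseChange L' (v c)) = ∑ d, C a b c d • v d := fun a b => (hC a b c).symm
  simp only [hC', Finset.smul_sum, smul_smul, Finset.sum_smul]
  exact (Finset.sum_congr rfl fun a _ => Finset.sum_comm).trans Finset.sum_comm

/-- A map of finite modules with surjective base change is surjective. -/
theorem surjective_of_baseChange {M N : Type u} [AddCommGroup M] [Module L M]
    [AddCommGroup N] [Module L N] [Module.Finite L N] (f : M →ₗ[L] N)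
    (hf : Function.Surjective (f.baseChange L')) : Function.Surjective f := by
  have hs : Subsingleton (L' ⊗[L] (N ⧸ LinearMap.range f)) := by
    refine subsingleton_of_forall_eq 0 fun z => ?_
    induction z using TensorProduct.induction_on with
    | zero => rfl
    | add a b ha hb => rw [ha, hb, add_zero]
    | tmul y n =>
      obtain ⟨n, rfl⟩ := (LinearMap.range f).mkQ_surjective n
      obtain ⟨z, hz⟩ := hf (y ⊗ₜ n)
      have : ((LinearMap.range f).mkQ.baseChange L') ((f.baseChange L') z) = 0 := by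
        rw [← LinearMap.comp_apply, ← LinearMap.baseChange_comp,
          show (LinearMap.range f).mkQ.comp f = 0 from LinearMap.range_mkQ_comp f, LinearMap.baseChange_zero,
          LinearMap.zero_apply]
      rw [hz, LinearMap.baseChange_tmul] at this
      exact this
  haveI := h.subsingleton_of_tensor hs
  rw [← LinearMap.range_eq_top, ← Submodule.Quotient.subsingleton_iff]
  infer_instance

/-- Injectivity of base change on isomorphism classes of finite projective modules. -/
theorem nonempty_equiv {M N : Type u} [AddCommGroup M] [Module L M] [Module.Finite L M] [Module.Projective L M]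
    [AddCommGroup N] [Module L N] [Module.Finite L N] [Module.Projective L N]
    (ψ : L' ⊗[L] M ≃ₗ[L'] L' ⊗[L] N) : Nonempty (M ≃ₗ[L] N) := by
  have key : ∀ {M N : Type u} [AddCommGroup M] [Module L M] [Module.Finite L M] [Module.Projective L M]
      [AddCommGroup N] [Module L N] [Module.Finite L N] (ψ : L' ⊗[L] M ≃ₗ[L'] L' ⊗[L] N),
      ∃ f : M →ₗ[L] N, Function.Surjective f := by
    intro M N _ _ _ _ _ _ _ ψ
    obtain ⟨f, hf⟩ := h.exists_hom_approx ψ.toLinearMap ψ.symm.toLinearMap
    refine ⟨f, h.surjective_of_baseChange f ?_⟩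
    have heq : ⇑(f.baseChange L') = ⇑ψ ∘ ⇑((LinearMap.id : L' ⊗[L] M →ₗ[L'] L' ⊗[L] M) + ψ.symm.toLinearMap.comp (f.baseChange L' - ψ.toLinearMap)) := by
      funext z
      simp [map_sub]
    rw [heq]
    exact ψ.surjective.comp hf.2
  obtain ⟨f, hf⟩ := key ψ
  obtain ⟨g, hg⟩ := key ψ.symm
  have hb := OrzechProperty.bijective_of_surjective_endomorphism (g.comp f) (hg.comp hf)
  exact ⟨LinearEquiv.ofBijective f ⟨Function.Injective.of_comp (f := g) hb.1, hf⟩⟩

/-- Stably free modules descend. -/
theorem exists_stablyFree {M' : Type u} [AddCommGroup M'] [Module L' M'] {n m : ℕ}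
    (e : (M' × (Fin n → L')) ≃ₗ[L'] (Fin m → L')) :
    ∃ (M : Type u) (_ : AddCommGroup M) (_ : Module L M), Module.Finite L M ∧
      Nonempty ((M × (Fin n → L)) ≃ₗ[L] (Fin m → L)) ∧ Nonempty (L' ⊗[L] M ≃ₗ[L'] M') := by
  let αm := TensorProduct.piScalarRight L L' L' (Fin m)
  let αn := TensorProduct.piScalarRight L L' L' (Fin n)
  let P : L' ⊗[L] (Fin m → L) →ₗ[L'] L' ⊗[L] (Fin n → L) :=
    (αn.symm.toLinearMap.comp (LinearMap.snd L' M' (Fin n → L'))).comp (e.symm.toLinearMap.comp αm.toLinearMap)
  let Q : L' ⊗[L] (Fin n → L) →ₗ[L'] L' ⊗[L] (Fin m → L) :=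
    (αm.symm.toLinearMap.comp e.toLinearMap).comp ((LinearMap.inr L' M' (Fin n → L')).comp αn.toLinearMap)
  have hPQ : ∀ z, P (Q z) = z := fun z => by simp [P, Q]
  let J : M' →ₗ[L'] L' ⊗[L] (Fin m → L) := (αm.symm.toLinearMap.comp e.toLinearMap).comp (LinearMap.inl L' M' _)
  have hPJ : ∀ z, P z = 0 ↔ ∃ x, J x = z := fun z => by
    constructor
    · intro hz
      refine ⟨(e.symm (αm z)).1, αm.injective (e.symm.injective ?_)⟩
      have h2 : (e.symm (αm z)).2 = 0 := αn.symm.injective (hz.trans (map_zero _).symm)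
      simp [J, Prod.ext_iff, h2]
    · rintro ⟨x, rfl⟩
      simp [P, J]
  obtain ⟨f, hf⟩ := h.exists_hom_approx P Q
  let u := LinearEquiv.ofBijective _ hf
  have hfu : ∀ z, f.baseChange L' z = P (u z) := fun z => by
    simp [u, map_sub, hPQ]
  have hfs : Function.Surjective f := h.surjective_of_baseChange f fun z =>
    ⟨u.symm (Q z), by rw [hfu, u.apply_symm_apply, hPQ]⟩
  obtain ⟨s, hs⟩ := f.exists_rightInverse_of_surjective (LinearMap.range_eq_top.mpr hfs)
  have hs' : ∀ z, f (s z) = z := fun z => LinearMap.congr_fun hs z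
  let r : (Fin m → L) →ₗ[L] LinearMap.ker f := (LinearMap.id - s.comp f).codRestrict _ fun z => by
    simp [hs']
  have hr : ∀ x : LinearMap.ker f, r x = x := fun x => Subtype.ext (by
    have hx : f (x : Fin m → L) = 0 := x.2
    simp [r, hx])
  haveI : Module.Finite L (LinearMap.ker f) := Module.Finite.of_surjective r fun x => ⟨x, hr x⟩
  refine ⟨LinearMap.ker f, inferInstance, inferInstance, inferInstance, ⟨?_⟩, ⟨?_⟩⟩
  · refine LinearEquiv.ofLinear ((LinearMap.ker f).subtype.coprod s) (r.prod f) ?_ ?_
    · refine LinearMap.ext fun z => ?_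
      simp [r]
    · refine LinearMap.ext fun ⟨x, y⟩ => Prod.ext ?_ ?_
      · refine Subtype.ext ?_
        have hx : f (x : Fin m → L) = 0 := x.2
        simp [r, hx, hs']
      · have hx : f (x : Fin m → L) = 0 := x.2
        simp [hx, hs']
  · let ι := (LinearMap.ker f).subtype.baseChange L'
    have hι : ∀ z, (r.baseChange L') (ι z) = z := fun z => by
      rw [← LinearMap.comp_apply, ← LinearMap.baseChange_comp, show r.comp (LinearMap.ker f).subtype = LinearMap.id from
        LinearMap.ext hr, LinearMap.baseChange_id, LinearMap.id_apply]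
    have hdec : ∀ z, z = ι ((r.baseChange L') z) + (s.baseChange L') (f.baseChange L' z) := fun z => by
      rw [← LinearMap.comp_apply, ← LinearMap.comp_apply, ← LinearMap.baseChange_comp, ← LinearMap.baseChange_comp,
        ← LinearMap.add_apply, ← LinearMap.baseChange_add, show (LinearMap.ker f).subtype.comp r + s.comp f = LinearMap.id from
          LinearMap.ext fun z => by simp [r], LinearMap.baseChange_id, LinearMap.id_apply]
    have hzero : ∀ z, f.baseChange L' (ι z) = 0 := fun z => by
      rw [← LinearMap.comp_apply, ← LinearMap.baseChange_comp, LinearMap.comp_ker_subtype, LinearMap.baseChange_zero,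
        LinearMap.zero_apply]
    let K := u.toLinearMap.comp ι
    have hKinj : Function.Injective K := u.injective.comp (Function.LeftInverse.injective hι)
    have hJinj : Function.Injective J := fun a b hab => by
      have := e.injective (αm.symm.injective hab)
      simpa using this
    have hrange : LinearMap.range K = LinearMap.range J := by
      refine le_antisymm ?_ ?_
      · rintro _ ⟨z, rfl⟩
        exact (hPJ _).mp ((hfu _).symm.trans (hzero z))
      · rintro _ ⟨x, rfl⟩
        refine ⟨(r.baseChange L') (u.symm (J x)), ?_⟩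
        have h0 : f.baseChange L' (u.symm (J x)) = 0 := by
          rw [hfu, u.apply_symm_apply]
          exact (hPJ _).mpr ⟨x, rfl⟩
        have := hdec (u.symm (J x))
        rw [h0, map_zero, add_zero] at this
        show u (ι _) = J x
        rw [← this, u.apply_symm_apply]
    exact (LinearEquiv.ofInjective K hKinj).trans ((LinearEquiv.ofEq _ _ hrange).trans (LinearEquiv.ofInjective J hJinj).symm)

end Setting

end Groth.Agent.CA2H40.AwayApprox
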