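import Mathlib
import Groth.Agent.CA2H40.AwayApprox
import Groth.Agent.Hensel.PairBasic

/-! Finite projective modules over `S[1/t]` descend to `A[1/t]` when `(A, t)` is a henselian pair. -/

set_option autoImplicit false

universe u

open scoped TensorProduct

namespace Groth.Agent.CA2H40.AwayApprox

open Polynomial in
/-- A root of `y² + y + b` near `0`, for `b` in a deep multiple of `t`. -/
theorem exists_small_root {K : Type u} [CommRing K] (τ : K) [HenselianRing K (Ideal.span {τ})] (M : ℕ) (γ : K) :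
    ∃ y g : K, y ^ 2 + y + τ ^ (M + 1) * γ = 0 ∧ y = τ ^ (M + 1) * g := by
  have hb : τ ^ (M + 1) * γ ∈ Ideal.span {τ} := by
    rw [pow_succ', mul_assoc]; exact Ideal.mul_mem_right _ _ (Ideal.mem_span_singleton_self τ)
  obtain ⟨y, hy, hy0⟩ := HenselianRing.is_henselian (I := Ideal.span {τ}) (X ^ 2 + X + C (τ ^ (M + 1) * γ) : K[X])
    (by monicity!) 0 (by simpa using hb)
    (by rw [derivative_add, derivative_add, derivative_X_pow, derivative_X, derivative_C]; simp)
  rw [IsRoot, eval_add, eval_add, eval_pow, eval_X, eval_C] at hy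
  rw [sub_zero] at hy0
  obtain ⟨r, hr⟩ : IsUnit (y * 1 + 1) := Ideal.mem_jacobson_bot.1 (HenselianRing.jac (I := Ideal.span {τ}) hy0) 1
  refine ⟨y, -(γ * ↑r⁻¹), hy, ?_⟩
  have h1 : y * (r : K) = -(τ ^ (M + 1) * γ) := by rw [hr]; linear_combination hy
  calc y = y * (r : K) * ↑r⁻¹ := by rw [Units.mul_inv_cancel_right]
    _ = _ := by rw [h1]; ring

namespace Setting

variable {A S : Type u} [CommRing A] [CommRing S] {φ : A →+* S} {t : A}
  {L L' : Type u} [CommRing L] [CommRing L'] [Algebra A L] [Algebra S L'] [Algebra L L']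
variable (h : Setting φ t L L')
include h

/-- An idempotent matrix over `L'` is conjugate to one coming from `L`. -/
theorem exists_idempotent_matrix [HenselianRing A (Ideal.span {t})] {ι : Type} [Fintype ι] [DecidableEq ι]
    (e : Matrix ι ι L') (he : e * e = e) :
    ∃ (e₀ : Matrix ι ι L) (u : Matrix ι ι L'), IsUnit u ∧ e₀ * e₀ = e₀ ∧
      u * e = (algebraMap L L').mapMatrix e₀ * u := by
  haveI := h.awayS; haveI := h.awayA
  classical
  let ρ := (algebraMap S L').mapMatrix (m := ι)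
  let π := (algebraMap A L).mapMatrix (m := ι)
  let Ψ := (algebraMap L L').mapMatrix (m := ι)
  have hΨ : ∀ a : Matrix ι ι A, Ψ (π a) = ρ (φ.mapMatrix a) := fun a => Matrix.ext fun i j => h.comp (a i j)
  let T := algebraMap S L' (φ t)
  have hT : IsUnit T := IsLocalization.Away.algebraMap_isUnit (φ t)
  have hTL : IsUnit (algebraMap A L t) := IsLocalization.Away.algebraMap_isUnit t
  -- numerator of `e`
  obtain ⟨m, d, hd⟩ := h.exists_common_pow (fun ij : ι × ι => e ij.1 ij.2)
  let s : Matrix ι ι S := Matrix.of fun i j => d (i, j)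
  have hs : ρ s = T ^ m • e := Matrix.ext fun i j => hd (i, j)
  have h0 : ∀ i j, ∃ j₀ : ℕ, φ t ^ j₀ * (s * s - φ t ^ m • s) i j = 0 := fun i j => by
    have hz : ρ (s * s - φ t ^ m • s) i j = 0 := by
      have : ρ (φ t ^ m • s) = T ^ m • ρ s := Matrix.ext fun i j => by simp [ρ, T]
      rw [map_sub, map_mul, this, hs, Matrix.smul_mul, Matrix.mul_smul, he, sub_self]; rfl
    obtain ⟨⟨_, j₀, rfl⟩, hj⟩ := (IsLocalization.map_eq_zero_iff (Submonoid.powers (φ t)) L' _).1 hz
    exact ⟨j₀, hj⟩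
  choose j₀ hj₀ using h0
  let j := ∑ ij : ι × ι, j₀ ij.1 ij.2
  have hj : φ t ^ j • (s * s - φ t ^ m • s) = 0 := Matrix.ext fun a b => by
    obtain ⟨k, hk⟩ : ∃ k, j = k + j₀ a b := ⟨j - j₀ a b, (Nat.sub_add_cancel
      (Finset.single_le_sum (f := fun ij : ι × ι => j₀ ij.1 ij.2) (fun _ _ => Nat.zero_le _) (Finset.mem_univ (a, b)))).symm⟩
    rw [Matrix.smul_apply, hk, pow_add, smul_eq_mul, mul_assoc, hj₀, mul_zero, Matrix.zero_apply]
  -- approximation
  let M := j + 4 * m + 1
  choose a hσ using fun i k => h.surj M (s i k)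
  choose σ hσ using fun i k => Ideal.mem_span_singleton'.mp (hσ i k)
  let am : Matrix ι ι A := Matrix.of a
  let σm : Matrix ι ι S := Matrix.of σ
  have hsa : s = φ.mapMatrix am + φ t ^ M • σm := Matrix.ext fun i k => by
    simp [am, σm, mul_comm (φ t ^ M), hσ]
  have hdvd : ∀ i k, (t ^ j • (am * am - t ^ m • am)) i k ∈ Ideal.span {t ^ M} := fun i k => by
    refine h.inj M _ ?_
    have hφ : (Ideal.Quotient.mk (Ideal.span {φ t ^ M})).mapMatrix (φ.mapMatrix am) =
        (Ideal.Quotient.mk (Ideal.span {φ t ^ M})).mapMatrix s := Matrix.ext fun a' b' => by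
      refine Ideal.Quotient.eq.mpr (Ideal.mem_span_singleton'.mpr ⟨-σ a' b', ?_⟩)
      rw [hsa]; simp [σm, mul_comm]
    have h1 := congrArg (fun x : Matrix ι ι _ => (Ideal.Quotient.mk (Ideal.span {φ t ^ M}) (φ t ^ j) •
      (x * x - Ideal.Quotient.mk (Ideal.span {φ t ^ M}) (φ t ^ m) • x)) i k) hφ
    have h2 : ∀ x : Matrix ι ι S, (Ideal.Quotient.mk (Ideal.span {φ t ^ M}) (φ t ^ j) •
      ((Ideal.Quotient.mk (Ideal.span {φ t ^ M})).mapMatrix x * (Ideal.Quotient.mk (Ideal.span {φ t ^ M})).mapMatrix x -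
        Ideal.Quotient.mk (Ideal.span {φ t ^ M}) (φ t ^ m) • (Ideal.Quotient.mk (Ideal.span {φ t ^ M})).mapMatrix x)) i k =
        Ideal.Quotient.mk _ ((φ t ^ j • (x * x - φ t ^ m • x)) i k) := fun x => by
      simp [Matrix.mul_apply]
    rw [h2, h2, hj, Matrix.zero_apply, map_zero, Ideal.Quotient.eq_zero_iff_mem] at h1
    convert h1 using 1
    simp [Matrix.mul_apply]
  choose c hc using fun i k => Ideal.mem_span_singleton'.mp (hdvd i k)
  let cm : Matrix ι ι A := Matrix.of c
  have hcm : t ^ j • (am * am - t ^ m • am) = t ^ M • cm := Matrix.ext fun i k => by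
    rw [← hc i k]; simp [cm, mul_comm]
  -- near-idempotent over `L`
  obtain ⟨ti, hti⟩ := hTL.exists_right_inv
  let τ := algebraMap A L t
  obtain ⟨x₀, hx₀⟩ : ∃ x₀, τ ^ m • x₀ = π am :=
    ⟨ti ^ m • π am, by rw [smul_smul, ← mul_pow, hti, one_pow, one_smul]⟩
  have hπs : ∀ (r : A) (x : Matrix ι ι A), π (r • x) = algebraMap A L r • π x := fun r x =>
    Matrix.ext fun i k => by simp [π]
  have hw : x₀ * x₀ - x₀ = τ ^ (2 * m + 1) • π cm := by
    refine (hTL.pow (j + 2 * m)).smul_left_cancel.mp ?_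
    have h1 := congrArg π hcm
    simp only [hπs, map_sub, map_mul, map_pow] at h1
    rw [← hx₀] at h1
    simp only [Matrix.smul_mul, Matrix.mul_smul, smul_smul, smul_sub] at h1
    rw [smul_sub, smul_smul, ← pow_add, show j + 2 * m + (2 * m + 1) = M by omega, ← h1]
    congr 2 <;> ring
  have hcomm : π cm * x₀ = x₀ * π cm := by
    refine (hTL.pow (2 * m + 1)).smul_left_cancel.mp ?_
    rw [← Matrix.smul_mul, ← Matrix.mul_smul, ← hw, sub_mul, mul_sub, mul_assoc]
  -- the commutative ring generated by `cm`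
  let C₀ := Algebra.adjoin A {cm}
  letI : CommRing C₀ := inferInstance
  haveI : Module.Finite A C₀ :=
    ⟨(Submodule.fg_top _).mpr (Algebra.IsIntegral.isIntegral cm).fg_adjoin_singleton⟩
  let τ₀ : C₀ := algebraMap A C₀ t
  haveI : HenselianRing C₀ (Ideal.span {τ₀}) := by
    have := Hensel.henselianRing_of_isIntegral' (Ideal.span {t}) C₀
    rwa [Ideal.map_span, Set.image_singleton] at this
  let c₀ : C₀ := ⟨cm, Algebra.subset_adjoin rfl⟩
  obtain ⟨q, hq⟩ : IsUnit (τ₀ ^ (2 * m + 1) * c₀ * 4 + 1) := Ideal.mem_jacobson_bot.1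
    (HenselianRing.jac (I := Ideal.span {τ₀}) (by
      rw [pow_succ', mul_assoc]; exact Ideal.mul_mem_right _ _ (Ideal.mem_span_singleton_self τ₀))) 4
  obtain ⟨y, g, hy, hyg⟩ := exists_small_root τ₀ (2 * m) (c₀ * ↑q⁻¹)
  have hkey : τ₀ ^ (2 * m + 1) * c₀ + (τ₀ ^ (2 * m + 1) * c₀ * 4 + 1) * (y ^ 2 + y) = 0 := by
    rw [← hq]
    linear_combination (q : C₀) * hy - τ₀ ^ (2 * m + 1) * c₀ * q.mul_inv
  let J : C₀ →+* Matrix ι ι L := π.comp C₀.val.toRingHom
  have hJτ : ∀ (k : ℕ) (z : C₀), J (τ₀ ^ k * z) = τ ^ k • J z := fun k z => by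
    show π ((τ₀ ^ k * z : C₀) : Matrix ι ι A) = _
    simp [τ₀, ← map_pow, ← Algebra.smul_def, hπs, τ, J]
  have hJc : ∀ z : C₀, J z * x₀ = x₀ * J z := fun z => by
    obtain ⟨z, hz⟩ := z
    show π z * x₀ = x₀ * π z
    induction hz using Algebra.adjoin_induction with
    | mem v hv => rw [Set.mem_singleton_iff.mp hv, hcomm]
    | algebraMap r =>
      rw [Algebra.algebraMap_eq_smul_one, hπs, map_one, Matrix.smul_mul, Matrix.mul_smul, one_mul, mul_one]
    | add v w _ _ hv hw => rw [map_add, add_mul, mul_add, hv, hw]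
    | mul v w _ _ hv hw => rw [map_mul, mul_assoc, hw, ← mul_assoc, hv, mul_assoc]
  have hw' : x₀ * x₀ = x₀ + J (τ₀ ^ (2 * m + 1) * c₀) := by
    rw [hJτ]
    show _ = _ + τ ^ (2 * m + 1) • π cm
    rw [← hw]; abel
  let e₀ : Matrix ι ι L := x₀ + (2 * x₀ - 1) * J y
  have hJy : J y * x₀ = x₀ * J y := hJc y
  have he₀ : e₀ * e₀ = e₀ := by
    have hk := congrArg J hkey
    rw [map_zero, map_add, map_mul J (_ + 1), map_add, map_mul J _ 4, map_one, map_add, map_pow, map_ofNat] at hk
    have hY : J y * J (τ₀ ^ (2 * m + 1) * c₀) = J (τ₀ ^ (2 * m + 1) * c₀) * J y := by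
      rw [← map_mul, ← map_mul, mul_comm]
    have hy' : ∀ z : Matrix ι ι L, J y * (x₀ * z) = x₀ * (J y * z) := fun z => by
      rw [← mul_assoc, hJy, mul_assoc]
    have hxx : ∀ z : Matrix ι ι L, x₀ * (x₀ * z) = x₀ * z + J (τ₀ ^ (2 * m + 1) * c₀) * z := fun z => by
      rw [← mul_assoc, hw', add_mul]
    generalize hW : J (τ₀ ^ (2 * m + 1) * c₀) = W at hk hw' hY hxx
    have e4 : ∀ z : Matrix ι ι L, (4 : Matrix ι ι L) * z = z + z + z + z := fun z => by
      rw [show (4 : Matrix ι ι L) = 1 + 1 + 1 + 1 by norm_num, add_mul, add_mul, add_mul, one_mul]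
    have e4' : ∀ z : Matrix ι ι L, z * (4 : Matrix ι ι L) = z + z + z + z := fun z => by
      rw [show (4 : Matrix ι ι L) = 1 + 1 + 1 + 1 by norm_num, mul_add, mul_add, mul_add, mul_one]
    simp only [e₀, two_mul, pow_two, mul_add, add_mul, sub_mul, mul_sub, one_mul, mul_one, mul_assoc,
      e4, e4', hJy, hy', hxx, hw'] at hk ⊢
    rw [← sub_eq_zero]
    rw [← hk]
    abel
  -- close to `e`
  obtain ⟨Ti, hTi⟩ := hT.exists_right_inv
  have hTx : Ψ x₀ = Ti ^ m • ρ (φ.mapMatrix am) := by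
    have h1 : T ^ m • Ψ x₀ = ρ (φ.mapMatrix am) := by
      rw [← hΨ am, ← hx₀]
      exact Matrix.ext fun i k => by simp [Ψ, τ, T, h.comp]
    rw [← h1, smul_smul, ← mul_pow, mul_comm Ti, hTi, one_pow, one_smul]
  have hTy : Ψ (J y) = T ^ (2 * m + 1) • ρ (φ.mapMatrix (g : Matrix ι ι A)) := by
    rw [hyg, hJτ, ← hΨ]
    exact Matrix.ext fun i k => by simp [Ψ, τ, T, J, h.comp]
  let E := (2 * Ψ e₀ - 1) * (e - Ψ e₀)
  have hu : IsUnit (1 + E) := by
    refine h.isUnit_one_add _ fun i k => mem_small.mpr ?_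
    let X : Matrix ι ι S := φ.mapMatrix am
    let G : Matrix ι ι S := φ.mapMatrix (g : Matrix ι ι A)
    let Y : Matrix ι ι S := φ t ^ (2 * m + 1) • G
    let P : Matrix ι ι S := X + (2 * X - φ t ^ m • 1) * Y
    let D : Matrix ι ι S := φ t ^ (j + 2 * m) • σm - (2 * X - φ t ^ m • 1) * G
    have hD : s - P = φ t ^ (2 * m + 1) • D := by
      simp only [P, D, Y, smul_sub, smul_smul, ← pow_add, Matrix.mul_smul]
      rw [show 2 * m + 1 + (j + 2 * m) = M by omega, hsa]
      abel
    have hρs : ∀ (r : S) (x : Matrix ι ι S), ρ (r • x) = algebraMap S L' r • ρ x := fun r x =>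
      Matrix.ext fun i k => by simp [ρ]
    have hP : T ^ m • Ψ e₀ = ρ P := by
      simp only [e₀, P, Y, map_add, map_mul, map_sub, map_ofNat, map_one, hρs, map_pow, hTy, hTx, smul_add, smul_smul,
        Matrix.mul_smul, sub_mul, mul_sub, Matrix.smul_mul, one_mul, smul_sub, two_mul, add_mul]
      rw [← mul_pow, hTi, one_pow, one_smul]
      have hTi' : Ti * algebraMap S L' (φ t) = 1 := (mul_comm _ _).trans hTi
      simp only [← mul_assoc, ← mul_pow, hTi', one_pow, one_mul, T, G, X]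
      congr 3 <;> first | rfl | (simp [mul_comm]; done) | rw [mul_right_comm, ← mul_pow, hTi, one_pow, one_mul]
    have hmain : T ^ (2 * m) • E = ρ (φ t ^ (2 * m) • (φ t • ((2 * P - φ t ^ m • 1) * D))) := by
      have h1 : T ^ m • (2 * Ψ e₀ - 1) = ρ (2 * P - φ t ^ m • 1) := by
        rw [smul_sub, ← Matrix.mul_smul, hP, map_sub, map_mul, map_ofNat, hρs, map_one, map_pow]
      have h2 : T ^ m • (e - Ψ e₀) = ρ (φ t ^ (2 * m + 1) • D) := by
        rw [smul_sub, ← hs, hP, ← map_sub, hD]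
      rw [two_mul m, pow_add, mul_smul]
      show T ^ m • (T ^ m • ((2 * Ψ e₀ - 1) * (e - Ψ e₀))) = _
      rw [← Matrix.mul_smul, ← Matrix.smul_mul, h1, h2, ← map_mul, Matrix.mul_smul, smul_smul]
      congr 2; ring
    refine ⟨(((2 * P - φ t ^ m • 1) * D : Matrix ι ι S)) i k, (hT.pow (2 * m)).mul_left_cancel ?_⟩
    have := congrFun (congrFun hmain i) k
    rw [Matrix.smul_apply] at this
    rw [smul_eq_mul] at this
    rw [this]
    simp [ρ, T, mul_assoc]
  refine ⟨e₀, 1 + E, hu, he₀, ?_⟩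
  have he' : Ψ e₀ * Ψ e₀ = Ψ e₀ := by rw [← map_mul, he₀]
  show (1 + E) * e = Ψ e₀ * (1 + E)
  have he'' : ∀ z : Matrix ι ι L', Ψ e₀ * (Ψ e₀ * z) = Ψ e₀ * z := fun z => by rw [← mul_assoc, he']
  simp only [E, two_mul, mul_add, add_mul, sub_mul, mul_sub, one_mul, mul_one, mul_assoc, he, he', he'']
  abel

/-- Finite projective modules descend. -/
theorem exists_projective [HenselianRing A (Ideal.span {t})] {M' : Type u} [AddCommGroup M'] [Module L' M']
    [Module.Finite L' M'] [Module.Projective L' M'] :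
    ∃ (M : Type u) (_ : AddCommGroup M) (_ : Module L M),
      Module.Finite L M ∧ Module.Projective L M ∧ Nonempty (L' ⊗[L] M ≃ₗ[L'] M') := by
  classical
  obtain ⟨n, p, hp⟩ := Module.Finite.exists_fin' L' M'
  obtain ⟨i, hi⟩ := p.exists_rightInverse_of_surjective (LinearMap.range_eq_top.mpr hp)
  let E := i.comp p
  have hE : E.comp E = E := LinearMap.ext fun z => congrArg i (LinearMap.congr_fun hi (p z))
  obtain ⟨e₀, u, hu, he₀, hue⟩ := h.exists_idempotent_matrix (LinearMap.toMatrix' E)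
    (by rw [← LinearMap.toMatrix'_comp, hE])
  let f := Matrix.toLin' e₀
  have hff : ∀ z, f (f z) = f z := fun z => by
    rw [← LinearMap.comp_apply, ← Matrix.toLin'_mul, he₀]
  let f' := Matrix.toLin' ((algebraMap L L').mapMatrix e₀)
  let U : (Fin n → L') ≃ₗ[L'] (Fin n → L') := LinearEquiv.ofBijective (Matrix.toLin' u) (by
    obtain ⟨u, rfl⟩ := hu
    refine ⟨fun a b hab => ?_, fun b => ⟨Matrix.toLin' ((u⁻¹ : (Matrix (Fin n) (Fin n) L')ˣ) : Matrix (Fin n) (Fin n) L') b, ?_⟩⟩
    · simpa [← LinearMap.comp_apply, ← Matrix.toLin'_mul] using congrArg (Matrix.toLin' ((u⁻¹ : (Matrix (Fin n) (Fin n) L')ˣ) : Matrix (Fin n) (Fin n) L')) hab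
    · rw [← LinearMap.comp_apply, ← Matrix.toLin'_mul, Units.mul_inv, Matrix.toLin'_one, LinearMap.id_apply])
  have hU : ∀ z, U (E z) = f' (U z) := fun z => by
    have := congrArg (fun x => Matrix.toLin' x z) hue
    simp only [Matrix.toLin'_mul, Matrix.toLin'_toMatrix', LinearMap.comp_apply] at this
    exact this
  haveI : Module.Finite L (LinearMap.range f) := Module.Finite.of_surjective f.rangeRestrict f.surjective_rangeRestrict
  haveI : Module.Projective L (LinearMap.range f) :=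
    Module.Projective.of_split (LinearMap.range f).subtype f.rangeRestrict (LinearMap.ext fun ⟨_, z, hz⟩ => by
      subst hz; exact Subtype.ext (hff z))
  refine ⟨LinearMap.range f, inferInstance, inferInstance, inferInstance, inferInstance, ?_⟩
  let θ : LinearMap.range f →ₗ[L] (Fin n → L') :=
    ((Algebra.linearMap L L').compLeft (Fin n)).comp (LinearMap.range f).subtype
  let Θ := θ.liftBaseChange L'
  let r : Fin n → L' ⊗[L] LinearMap.range f := fun a => 1 ⊗ₜ f.rangeRestrict (Pi.single a 1)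
  let Γ : (Fin n → L') →ₗ[L'] L' ⊗[L] LinearMap.range f :=
    ∑ a, (LinearMap.proj a).smulRight (r a)
  have hΓΘ : Γ.comp Θ = LinearMap.id := by
    refine TensorProduct.AlgebraTensorModule.ext fun z x => ?_
    have hx : x = ∑ a, (x : Fin n → L) a • f.rangeRestrict (Pi.single a 1) := by
      have key : ∀ v, f v = ∑ a, v a • f (Pi.single a 1) := fun v => by
        conv_lhs => rw [pi_eq_sum_univ v, map_sum]
        refine Finset.sum_congr rfl fun a _ => ?_
        rw [map_smul]
        congr 2; funext b; simp [Pi.single_apply, eq_comm]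
      obtain ⟨v, hv⟩ := x
      obtain ⟨w, rfl⟩ := hv
      refine Subtype.ext ?_
      rw [Submodule.coe_sum]
      exact ((hff w).symm.trans (key (f w))).trans (Finset.sum_congr rfl fun a _ => rfl)
    conv_rhs => rw [LinearMap.id_apply, hx, TensorProduct.tmul_sum]
    simp only [LinearMap.comp_apply, Γ, Θ, LinearMap.liftBaseChange_tmul, map_smul, LinearMap.sum_apply,
      LinearMap.smulRight_apply, LinearMap.proj_apply, Finset.smul_sum]
    refine Finset.sum_congr rfl fun a _ => ?_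
    show z • (algebraMap L L' ((x : Fin n → L) a) • ((1 : L') ⊗ₜ[L] f.rangeRestrict (Pi.single a 1))) = _
    rw [TensorProduct.tmul_smul, IsScalarTower.algebraMap_smul, smul_comm, TensorProduct.smul_tmul', smul_eq_mul, mul_one]
  have hrange : LinearMap.range Θ = LinearMap.range f' := by
    have hθ : ∀ w : Fin n → L, θ (f.rangeRestrict w) = f' (fun a => algebraMap L L' (w a)) := fun w => by
      funext a
      show algebraMap L L' (f w a) = _
      simp [f, f', Matrix.toLin'_apply, Matrix.mulVec, dotProduct]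
    refine le_antisymm ?_ ?_
    · rintro _ ⟨z, rfl⟩
      induction z using TensorProduct.induction_on with
      | zero => rw [map_zero]; exact Submodule.zero_mem _
      | add a b ha hb => rw [map_add]; exact Submodule.add_mem _ ha hb
      | tmul y x =>
        obtain ⟨w, rfl⟩ := f.surjective_rangeRestrict x
        rw [LinearMap.liftBaseChange_tmul, hθ]
        exact Submodule.smul_mem _ _ ⟨_, rfl⟩
    · rintro _ ⟨z, rfl⟩
      rw [pi_eq_sum_univ z, map_sum]
      refine Submodule.sum_mem _ fun a _ => ?_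
      rw [map_smul]
      refine Submodule.smul_mem _ _ ⟨r a, ?_⟩
      rw [LinearMap.liftBaseChange_tmul, one_smul, hθ]
      congr 1; funext b; simp [Pi.single_apply, eq_comm]
  have hinj : Function.Injective Θ := Function.LeftInverse.injective (LinearMap.congr_fun hΓΘ)
  have hrU : (LinearMap.range E).map U.toLinearMap = LinearMap.range f' := by
    refine le_antisymm ?_ ?_
    · rintro _ ⟨_, ⟨z, rfl⟩, rfl⟩
      exact ⟨U z, (hU z).symm⟩
    · rintro _ ⟨z, rfl⟩
      exact ⟨E (U.symm z), ⟨_, rfl⟩, (hU _).trans (by rw [U.apply_symm_apply])⟩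
  have hrE : LinearMap.range E = LinearMap.range i := by
    rw [LinearMap.range_comp, LinearMap.range_eq_top.mpr hp, Submodule.map_top]
  have hiinj : Function.Injective i := Function.LeftInverse.injective (LinearMap.congr_fun hi)
  exact ⟨(((LinearEquiv.ofInjective Θ hinj).trans (LinearEquiv.ofEq _ _ hrange)).trans
    ((LinearEquiv.ofEq _ _ hrU.symm).trans (Submodule.equivMapOfInjective U.toLinearMap U.injective _).symm)).trans
    ((LinearEquiv.ofEq _ _ hrE).trans (LinearEquiv.ofInjective i hiinj).symm)⟩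

end Setting

end Groth.Agent.CA2H40.AwayApprox
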