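import Mathlib
import Groth.Agent.CA2H40.AwayApprox
import Groth.Agent.Hensel.NoethPair

/-! The standard instances of `AwayApprox.Setting`. -/

set_option autoImplicit false

universe u

namespace Groth.Agent.CA2H40.AwayApprox

/-- The completion along an element of the radical. -/
theorem setting_completion (A : Type u) [CommRing A] (t : A) (ht : t ∈ (⊥ : Ideal A).jacobson)
    [Algebra (Localization.Away t) (Localization.Away (algebraMap A (AdicCompletion (Ideal.span {t}) A) t))]
    (halg : algebraMap (Localization.Away t) (Localization.Away (algebraMap A (AdicCompletion (Ideal.span {t}) A) t)) =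
      Localization.awayMap (algebraMap A (AdicCompletion (Ideal.span {t}) A)) t) :
    Setting (algebraMap A (AdicCompletion (Ideal.span {t}) A)) t (Localization.Away t)
      (Localization.Away (algebraMap A (AdicCompletion (Ideal.span {t}) A) t)) := by
  have hfg : (Ideal.span {t}).FG := ⟨{t}, by simp⟩
  refine ⟨inferInstance, inferInstance, fun a => ?_, ?_, ?_, ?_, (Ideal.span_singleton_le_iff_mem _).mpr ht⟩
  · rw [halg]; exact IsLocalization.map_eq _ a
  · haveI : IsAdicComplete ((Ideal.span {t}).map (algebraMap A (AdicCompletion (Ideal.span {t}) A)))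
        (AdicCompletion (Ideal.span {t}) A) :=
      (IsAdicComplete.map_algebraMap_iff _ _).mpr (AdicCompletion.isAdicComplete hfg)
    have := IsAdicComplete.le_jacobson_bot ((Ideal.span {t}).map (algebraMap A (AdicCompletion (Ideal.span {t}) A)))
    rwa [Ideal.map_span, Set.image_singleton] at this
  · intro M x hx
    obtain ⟨c, hc⟩ := Ideal.mem_span_singleton'.1 hx
    have h := congrArg (AdicCompletion.evalₐ (Ideal.span {t}) M) hc
    simp only [map_mul, map_pow, AlgHom.commutes] at h
    rw [Ideal.Quotient.algebraMap_eq] at h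
    rw [← map_pow (Ideal.Quotient.mk _), show Ideal.Quotient.mk (Ideal.span {t} ^ M) (t ^ M) = 0 from
      Ideal.Quotient.eq_zero_iff_mem.2 (Ideal.pow_mem_pow (Ideal.mem_span_singleton_self t) M), mul_zero] at h
    rw [← Ideal.span_singleton_pow]
    exact Ideal.Quotient.eq_zero_iff_mem.1 h.symm
  · intro M s
    obtain ⟨f, rfl⟩ := AdicCompletion.mk_surjective (Ideal.span {t}) A s
    refine ⟨f M, ?_⟩
    have h : AdicCompletion.mk (Ideal.span {t}) A f - algebraMap A _ (f M) ∈
        (Ideal.span {t} ^ M • ⊤ : Submodule A (AdicCompletion (Ideal.span {t}) A)) := by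
      rw [AdicCompletion.pow_smul_top_eq_ker_eval hfg, LinearMap.mem_ker, map_sub, sub_eq_zero,
        AdicCompletion.algebraMap_apply]
      rfl
    rw [Ideal.smul_top_eq_map, Submodule.restrictScalars_mem, Ideal.map_pow, Ideal.map_span, Set.image_singleton,
      Ideal.span_singleton_pow] at h
    exact h

open PowerSeries in
/-- A ring between `R[X]` and `R⟦X⟧`, congruent to both modulo each power of `X`. -/
theorem setting_powerSeries {R B L L' : Type u} [CommRing R] [CommRing B] [Algebra (Polynomial R) B] [CommRing L]
    [CommRing L'] [Algebra B L] [Algebra L L'] [Algebra (PowerSeries R) L'] (g : B →+* PowerSeries R)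
    (hg : ∀ p : Polynomial R, g (algebraMap (Polynomial R) B p) = (p : PowerSeries R))
    (hB : ∀ (M : ℕ) x, ∃ p : Polynomial R, x - algebraMap (Polynomial R) B p ∈
      Ideal.span {algebraMap (Polynomial R) B Polynomial.X ^ M})
    (hjac : Ideal.span {algebraMap (Polynomial R) B Polynomial.X} ≤ Ideal.jacobson ⊥)
    [IsLocalization.Away (algebraMap (Polynomial R) B Polynomial.X) L]
    [IsLocalization.Away (PowerSeries.X : PowerSeries R) L']
    (hcomp : ∀ a, algebraMap L L' (algebraMap B L a) = algebraMap (PowerSeries R) L' (g a)) :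
    Setting g (algebraMap (Polynomial R) B Polynomial.X) L L' := by
  have hgX : g (algebraMap (Polynomial R) B Polynomial.X) = PowerSeries.X := by rw [hg]; simp
  refine ⟨inferInstance, by rw [hgX]; infer_instance, hcomp, ?_, ?_, ?_, hjac⟩
  · rw [hgX, Ideal.span_singleton_le_iff_mem, Ideal.mem_jacobson_bot]
    intro y
    rw [PowerSeries.isUnit_iff_constantCoeff]
    simp
  · intro M x hx
    obtain ⟨p, hp⟩ := hB M x
    have h1 : (p : PowerSeries R) ∈ Ideal.span {(PowerSeries.X : PowerSeries R) ^ M} := by
      have h2 := Ideal.mem_map_of_mem g hp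
      rw [Ideal.map_span, Set.image_singleton, map_pow, hgX, map_sub, hg] at h2
      rw [hgX] at hx
      simpa using Ideal.sub_mem _ hx h2
    rw [Ideal.mem_span_singleton, PowerSeries.X_pow_dvd_iff] at h1
    obtain ⟨c, hc⟩ : (Polynomial.X : Polynomial R) ^ M ∣ p :=
      Polynomial.X_pow_dvd_iff.2 fun d hd => by simpa using h1 d hd
    rw [← sub_add_cancel x (algebraMap (Polynomial R) B p)]
    exact Ideal.add_mem _ hp (Ideal.mem_span_singleton.2 ⟨algebraMap (Polynomial R) B c, by rw [hc, map_mul, map_pow]⟩)
  · intro M s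
    refine ⟨algebraMap (Polynomial R) B (PowerSeries.trunc M s), ?_⟩
    rw [hgX, hg, Ideal.mem_span_singleton, PowerSeries.X_pow_dvd_iff]
    intro d hd
    rw [map_sub, Polynomial.coeff_coe, PowerSeries.coeff_trunc, if_pos hd, sub_self]

end Groth.Agent.CA2H40.AwayApprox
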