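import Mathlib
import Groth.Agent.LocalCrit.Flatness

/-! `M' = S' ⊗_S M`, with `S'` a localization of `S ⊗_R R'`, compared with localizations of `X ⊗_R M`. -/

set_option autoImplicit false

universe u

open TensorProduct

namespace Groth.Agent.CA2H40.BaseChangeFlat

variable {R S R' S' : Type u} [CommRing R] [CommRing S] [CommRing R'] [CommRing S']
  [Algebra R S] [Algebra R R'] [Algebra S S'] [Algebra R' S']
  {M M' : Type u} [AddCommGroup M] [Module S M] [Module R M] [IsScalarTower R S M]
  [AddCommGroup M'] [Module S' M'] [Module R' M'] [IsScalarTower R' S' M']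
  [Module S M'] [IsScalarTower S S' M'] [Module R M'] [IsScalarTower R R' M'] [IsScalarTower R S M']

variable (R S R') in
/-- The action of `S ⊗ R'` on `X ⊗ M`. -/
noncomputable def act (X : Type u) [AddCommGroup X] [Module R X] [Module R' X] [IsScalarTower R R' X]
    (M : Type u) [AddCommGroup M] [Module S M] [Module R M] [IsScalarTower R S M] :
    (S ⊗[R] R') →ₐ[R] Module.End R (X ⊗[R] M) :=
  let f₁ : S →ₐ[R] Module.End R (X ⊗[R] M) := (Module.End.lTensorAlgHom R M X).comp (Algebra.lsmul R R M)
  let g₁ : R' →ₐ[R] Module.End R (X ⊗[R] M) := (Module.End.rTensorAlgHom R X M).comp (Algebra.lsmul R R X)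
  Algebra.TensorProduct.lift f₁ g₁
    (fun s r => TensorProduct.ext' fun x m => rfl)

theorem act_tmul {X : Type u} [AddCommGroup X] [Module R X] [Module R' X] [IsScalarTower R R' X]
    (s : S) (r : R') (x : X) (m : M) : act R S R' X M (s ⊗ₜ r) (x ⊗ₜ m) = (r • x) ⊗ₜ (s • m) := by
  show ((Module.End.lTensorAlgHom R M X) (Algebra.lsmul R R M s) * (Module.End.rTensorAlgHom R X M) (Algebra.lsmul R R X r)) (x ⊗ₜ m) = _
  rfl

theorem act_natural {X Y : Type u} [AddCommGroup X] [Module R X] [Module R' X] [IsScalarTower R R' X]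
    [AddCommGroup Y] [Module R Y] [Module R' Y] [IsScalarTower R R' Y] (g : X →ₗ[R'] Y)
    (t : S ⊗[R] R') (z : X ⊗[R] M) :
    (g.restrictScalars R).rTensor M (act R S R' X M t z) = act R S R' Y M t ((g.restrictScalars R).rTensor M z) := by
  induction z using TensorProduct.induction_on with
  | zero => simp
  | add a b ha hb => simp only [map_add, ha, hb]
  | tmul x m =>
    induction t using TensorProduct.induction_on with
    | zero => simp
    | add a b ha hb => simp only [map_add, LinearMap.add_apply, ha, hb]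
    | tmul s r =>
      rw [act_tmul, LinearMap.rTensor_tmul, LinearMap.rTensor_tmul, act_tmul]
      simp

/-- The action of `S'` on `X ⊗ M'`. -/
noncomputable def actS (X : Type u) [AddCommGroup X] [Module R' X] (s : S') :
    X ⊗[R'] M' →ₗ[R'] X ⊗[R'] M' :=
  (Algebra.lsmul R' R' M' s).lTensor X

@[simp] theorem actS_tmul {X : Type u} [AddCommGroup X] [Module R' X] (s : S') (x : X) (y : M') :
    actS X s (x ⊗ₜ[R'] y) = x ⊗ₜ[R'] (s • y) := rfl

theorem actS_mul {X : Type u} [AddCommGroup X] [Module R' X] (s t : S') (z : X ⊗[R'] M') :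
    actS X (s * t) z = actS X s (actS X t z) := by
  induction z using TensorProduct.induction_on with
  | zero => simp
  | add a b ha hb => simp only [map_add, ha, hb]
  | tmul x y => simp [mul_smul]

theorem actS_one {X : Type u} [AddCommGroup X] [Module R' X] (z : X ⊗[R'] M') : actS X (1 : S') z = z := by
  induction z using TensorProduct.induction_on with
  | zero => simp
  | add a b ha hb => simp only [map_add, ha, hb]
  | tmul x y => simp

theorem eq_zero_of_actS {X : Type u} [AddCommGroup X] [Module R' X] {s : S'} (hs : IsUnit s)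
    {z : X ⊗[R'] M'} (h : actS X s z = 0) : z = 0 := by
  obtain ⟨u, rfl⟩ := hs
  have h1 : z = actS X ((↑u⁻¹ : S') * ↑u) z := by rw [Units.inv_mul, actS_one]
  rw [h1, actS_mul, h, map_zero]

theorem actS_natural {X Y : Type u} [AddCommGroup X] [Module R' X] [AddCommGroup Y] [Module R' Y]
    (g : X →ₗ[R'] Y) (s : S') (z : X ⊗[R'] M') :
    g.rTensor M' (actS X s z) = actS Y s (g.rTensor M' z) := by
  induction z using TensorProduct.induction_on with
  | zero => simp
  | add a b ha hb => simp only [map_add, ha, hb]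
  | tmul x y => simp

variable (f : M →ₗ[S] M')

variable (R R') in
/-- The comparison `X ⊗_R M → X ⊗_R' M'`. -/
noncomputable def xi (X : Type u) [AddCommGroup X] [Module R X] [Module R' X] [IsScalarTower R R' X] :
    X ⊗[R] M →ₗ[R] X ⊗[R'] M' :=
  (TensorProduct.mapOfCompatibleSMul R' R R X M').restrictScalars R ∘ₗ (f.restrictScalars R).lTensor X

theorem xi_tmul {X : Type u} [AddCommGroup X] [Module R X] [Module R' X] [IsScalarTower R R' X] (x : X) (m : M) :
    xi R R' f X (x ⊗ₜ[R] m) = x ⊗ₜ[R'] f m := rfl

theorem xi_natural {X Y : Type u} [AddCommGroup X] [Module R X] [Module R' X] [IsScalarTower R R' X]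
    [AddCommGroup Y] [Module R Y] [Module R' Y] [IsScalarTower R R' Y] (g : X →ₗ[R'] Y) (z : X ⊗[R] M) :
    xi R R' f Y ((g.restrictScalars R).rTensor M z) = g.rTensor M' (xi R R' f X z) := by
  induction z using TensorProduct.induction_on with
  | zero => simp
  | add a b ha hb => simp only [map_add, ha, hb]
  | tmul x m => rfl

variable [Algebra (S ⊗[R] R') S']
  (hσ : ∀ s r, algebraMap (S ⊗[R] R') S' (s ⊗ₜ r) = algebraMap S S' s * algebraMap R' S' r)
include hσ

theorem xi_act {X : Type u} [AddCommGroup X] [Module R X] [Module R' X] [IsScalarTower R R' X]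
    (t : S ⊗[R] R') (z : X ⊗[R] M) :
    xi R R' f X (act R S R' X M t z) = actS X (algebraMap (S ⊗[R] R') S' t) (xi R R' f X z) := by
  induction z using TensorProduct.induction_on with
  | zero => simp
  | add a b ha hb => simp only [map_add, ha, hb]
  | tmul x m =>
    induction t using TensorProduct.induction_on with
    | zero => simp [actS]
    | add a b ha hb =>
      rw [map_add, map_add, LinearMap.add_apply, map_add, ha, hb, xi_tmul, actS_tmul, actS_tmul, actS_tmul,
        add_smul, tmul_add]
    | tmul s r =>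
      rw [act_tmul, xi_tmul, xi_tmul, actS_tmul, hσ, map_smul, mul_smul, IsScalarTower.algebraMap_smul,
        IsScalarTower.algebraMap_smul, TensorProduct.smul_tmul]
      congr 1
      rw [← IsScalarTower.algebraMap_smul S' r, ← IsScalarTower.algebraMap_smul S' s, smul_comm,
        IsScalarTower.algebraMap_smul, IsScalarTower.algebraMap_smul]

variable (W : Submonoid (S ⊗[R] R')) [IsLocalization W S'] (hf : IsBaseChange S' f)
include hf W

theorem exists_lift {X : Type u} [AddCommGroup X] [Module R X] [Module R' X] [IsScalarTower R R' X]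
    (z : X ⊗[R'] M') : ∃ w ∈ W, ∃ z₀, actS X (algebraMap (S ⊗[R] R') S' w) z = xi R R' f X z₀ := by
  induction z using TensorProduct.induction_on with
  | zero => exact ⟨1, W.one_mem, 0, by simp⟩
  | add a b ha hb =>
    obtain ⟨w, hw, a₀, ha⟩ := ha
    obtain ⟨v, hv, b₀, hb⟩ := hb
    refine ⟨w * v, W.mul_mem hw hv, act R S R' X M v a₀ + act R S R' X M w b₀, ?_⟩
    rw [map_add, map_add, xi_act f hσ, xi_act f hσ, ← ha, ← hb, ← actS_mul, ← actS_mul, ← map_mul, ← map_mul,
      mul_comm v w]
  | tmul x y =>
    induction y using hf.inductionOn with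
    | zero => exact ⟨1, W.one_mem, 0, by simp⟩
    | tmul m => exact ⟨1, W.one_mem, x ⊗ₜ m, by simp [xi_tmul]⟩
    | smul s' n hn =>
      obtain ⟨w, hw, n₀, hn⟩ := hn
      obtain ⟨⟨t, v⟩, hv⟩ := IsLocalization.surj W s'
      refine ⟨v * w, W.mul_mem v.2 hw, act R S R' X M t n₀, ?_⟩
      rw [xi_act f hσ, ← hn, ← actS_mul, actS_tmul, actS_tmul, ← mul_smul, map_mul, ← hv]
      congr 2
      simp only
      ring
    | add a b ha hb =>
      obtain ⟨w, hw, a₀, ha⟩ := ha
      obtain ⟨v, hv, b₀, hb⟩ := hb
      refine ⟨w * v, W.mul_mem hw hv, act R S R' X M v a₀ + act R S R' X M w b₀, ?_⟩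
      rw [tmul_add, map_add, map_add, xi_act f hσ, xi_act f hσ, ← ha, ← hb, ← actS_mul, ← actS_mul, ← map_mul, ← map_mul,
        mul_comm v w]

theorem exists_kill {X : Type u} [AddCommGroup X] [Module R X] [Module R' X] [IsScalarTower R R' X]
    (z : X ⊗[R] M) (hz : xi R R' f X z = 0) : ∃ w ∈ W, act R S R' X M w z = 0 := by
  letI : Module (S ⊗[R] R') (X ⊗[R] M) := Module.compHom _ (act R S R' X M).toRingHom
  let L := LocalizedModule W (X ⊗[R] M)
  letI : Module S' L := LocalizedModule.moduleOfIsLocalization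
  letI : Module S L := Module.compHom L (algebraMap S S')
  haveI : IsScalarTower S S' L := IsScalarTower.of_algebraMap_smul fun _ _ => rfl
  let mk₀ : (X ⊗[R] M) →ₗ[S ⊗[R] R'] L := LocalizedModule.mkLinearMap W _
  have hmk : ∀ (t : S ⊗[R] R') (v : X ⊗[R] M), mk₀ (act R S R' X M t v) = algebraMap (S ⊗[R] R') S' t • mk₀ v :=
    fun t v => (map_smul mk₀ t v).trans (IsScalarTower.algebraMap_smul S' t (mk₀ v)).symm
  let g : X → (M →ₗ[S] L) := fun x =>
    { toFun := fun m => mk₀ (x ⊗ₜ m)
      map_add' := fun a b => by rw [tmul_add, map_add]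
      map_smul' := fun s m => by
        show mk₀ (x ⊗ₜ (s • m)) = algebraMap S S' s • mk₀ (x ⊗ₜ m)
        have := hmk (s ⊗ₜ (1 : R')) (x ⊗ₜ m)
        rw [act_tmul, one_smul, hσ, map_one, mul_one] at this
        exact this }
  have hgm : ∀ x m, hf.lift (g x) (f m) = mk₀ (x ⊗ₜ m) := fun x m => hf.lift_eq (g x) m
  let G : X →+ M' →+ L :=
    { toFun := fun x => (hf.lift (g x)).toAddMonoidHom
      map_zero' := by
        refine AddMonoidHom.ext fun y => ?_
        show hf.lift (g 0) y = 0
        induction y using hf.inductionOn with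
        | zero => rw [map_zero]
        | tmul m => rw [hgm, zero_tmul, map_zero]
        | smul s n hn => rw [map_smul, hn, smul_zero]
        | add a b ha hb => rw [map_add, ha, hb, add_zero]
      map_add' := fun x x' => by
        refine AddMonoidHom.ext fun y => ?_
        show hf.lift (g (x + x')) y = hf.lift (g x) y + hf.lift (g x') y
        induction y using hf.inductionOn with
        | zero => simp
        | tmul m => rw [hgm, hgm, hgm, add_tmul, map_add]
        | smul s n hn => rw [map_smul, map_smul, map_smul, hn, smul_add]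
        | add a b ha hb => rw [map_add, map_add, map_add, ha, hb, add_add_add_comm] }
  have hG : ∀ (r : R') (x : X) (y : M'), G (r • x) y = G x (r • y) := by
    intro r x y
    show hf.lift (g (r • x)) y = hf.lift (g x) (r • y)
    rw [← IsScalarTower.algebraMap_smul S' r y, map_smul]
    induction y using hf.inductionOn with
    | zero => simp
    | tmul m =>
      rw [hgm, hgm]
      have := hmk ((1 : S) ⊗ₜ r) (x ⊗ₜ m)
      rwa [act_tmul, one_smul, hσ, map_one, one_mul] at this
    | smul s n hn => rw [map_smul, hn, map_smul, smul_comm]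
    | add a b ha hb => rw [map_add, ha, hb, map_add, smul_add]
  let Λ : X ⊗[R'] M' →+ L := TensorProduct.liftAddHom G hG
  have hΛ : ∀ v, Λ (xi R R' f X v) = mk₀ v := fun v => by
    induction v using TensorProduct.induction_on with
    | zero => simp
    | add a b ha hb => simp only [map_add, ha, hb]
    | tmul x m =>
      rw [xi_tmul, TensorProduct.liftAddHom_tmul]
      exact hgm x m
  have h0 := hΛ z
  rw [hz, map_zero] at h0
  rw [LocalizedModule.mkLinearMap_apply, ← LocalizedModule.zero_mk (1 : W), eq_comm, LocalizedModule.mk_eq] at h0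
  obtain ⟨w, hw⟩ := h0
  simp only [one_smul, smul_zero] at hw
  exact ⟨w, w.2, hw⟩

/-- Tensoring with `M'` keeps injectivity of maps of modules killed by `I R'`. -/
theorem keepsInjective (I : Ideal R) (hK : LocalCrit.KeepsInjective I M) :
    LocalCrit.KeepsInjective (I.map (algebraMap R R')) M' := by
  intro N N' _ _ _ _ g hN hN' hg
  letI : Module R N := Module.compHom N (algebraMap R R')
  letI : Module R N' := Module.compHom N' (algebraMap R R')
  haveI : IsScalarTower R R' N := IsScalarTower.of_algebraMap_smul fun _ _ => rfl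
  haveI : IsScalarTower R R' N' := IsScalarTower.of_algebraMap_smul fun _ _ => rfl
  rw [injective_iff_map_eq_zero]
  intro z hz
  obtain ⟨w, hw, z₀, hz₀⟩ := exists_lift f hσ W hf z
  have h1 : xi R R' f N' ((g.restrictScalars R).rTensor M z₀) = 0 := by
    rw [xi_natural, ← hz₀, actS_natural, hz, map_zero]
  obtain ⟨v, hv, hv'⟩ := exists_kill f hσ W hf _ h1
  rw [← act_natural] at hv'
  have h2 : act R S R' N M v z₀ = 0 :=
    hK (g.restrictScalars R) (fun x a => hN (a := ⟨algebraMap R R' a, Ideal.mem_map_of_mem _ a.2⟩))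
      (fun x a => hN' (a := ⟨algebraMap R R' a, Ideal.mem_map_of_mem _ a.2⟩)) hg
      (by rw [hv', map_zero])
  have h3 := congrArg (xi R R' f N) h2
  rw [map_zero, xi_act f hσ, ← hz₀, ← actS_mul, ← map_mul] at h3
  exact eq_zero_of_actS (IsLocalization.map_units S' (⟨v * w, W.mul_mem hv hw⟩ : W)) h3

/-- `I R' ⊗ M' → M'` is injective when the image of `ker (I ⊗ M → M)` vanishes. -/
theorem injective_rTensor (I : Ideal R) (hK : LocalCrit.KeepsInjective I M)
    (h3 : ∀ c : ↥I ⊗[R] M, (Submodule.subtype I).rTensor M c = 0 →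
      (TensorProduct.mapOfCompatibleSMul R' R R ↥(I.map (algebraMap R R')) M')
        ((TensorProduct.map (Algebra.idealMap R' I) (f.restrictScalars R)) c) = 0) :
    Function.Injective ((I.map (algebraMap R R')).subtype.rTensor M') := by
  classical
  let I' := I.map (algebraMap R R')
  rw [injective_iff_map_eq_zero]
  intro z hz
  obtain ⟨w, hw, z₀, hz₀⟩ := exists_lift f hσ W hf (X := I') z
  have h1 : xi R R' f R' ((I'.subtype.restrictScalars R).rTensor M z₀) = 0 := by
    rw [xi_natural, ← hz₀, actS_natural, hz, map_zero]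
  obtain ⟨v, hv, hv'⟩ := exists_kill f hσ W hf _ h1
  rw [← act_natural] at hv'
  generalize hz₁ : act R S R' I' M v z₀ = z₁ at hv'
  suffices hkey : xi R R' f I' z₁ = 0 by
    rw [← hz₁, xi_act f hσ, ← hz₀, ← actS_mul, ← map_mul] at hkey
    exact eq_zero_of_actS (IsLocalization.map_units S' (⟨v * w, W.mul_mem hv hw⟩ : W)) hkey
  -- present `R'` by a free `R`-module
  let α : (R' →₀ R) →ₗ[R] R' := Finsupp.linearCombination R (id : R' → R')
  have hα : Function.Surjective α := Finsupp.linearCombination_id_surjective R R'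
  let Q : Submodule R (R' →₀ R) := (I'.restrictScalars R).comap α
  letI instP : AddCommGroup (R' →₀ R) := inferInstance
  letI instQ : AddCommGroup Q := inferInstance
  let q : Q →ₗ[R] I' :=
    { toFun := fun x => ⟨α x.1, x.2⟩
      map_add' := fun x y => Subtype.ext (map_add α x.1 y.1)
      map_smul' := fun c x => Subtype.ext (map_smul α c x.1) }
  have hq : Function.Surjective q := fun x => by
    obtain ⟨y, hy⟩ := hα x.1
    exact ⟨⟨y, show α y ∈ I' from hy ▸ x.2⟩, Subtype.ext hy⟩
  obtain ⟨x', rfl⟩ := LinearMap.rTensor_surjective M hq z₁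
  -- adjust the lift so that it vanishes in `P ⊗ M`
  have h4 : α.rTensor M (Q.subtype.rTensor M x') = 0 := by
    rw [← LinearMap.rTensor_comp_apply] at hv' ⊢
    exact hv'
  have hex : Function.Exact (LinearMap.ker α).subtype α :=
    LinearMap.exact_iff.mpr (Submodule.range_subtype (LinearMap.ker α)).symm
  obtain ⟨y, hy⟩ := (rTensor_exact (M := ↥(LinearMap.ker α)) M hex hα _).mp h4
  let k : LinearMap.ker α →ₗ[R] Q := Submodule.inclusion (fun p hp => by
    show α p ∈ I'
    rw [LinearMap.mem_ker.mp hp]; exact zero_mem _)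
  have hqk : q.comp k = 0 := LinearMap.ext fun p => Subtype.ext (LinearMap.mem_ker.mp p.2)
  obtain ⟨x'', rfl⟩ : ∃ x'', x' = x'' + k.rTensor M y := ⟨x' - k.rTensor M y, by abel⟩
  have hx'' : Q.subtype.rTensor M x'' = 0 := by
    rw [map_add, ← LinearMap.rTensor_comp_apply _ Q.subtype k, Submodule.subtype_comp_inclusion] at hy
    exact left_eq_add.mp (by rw [add_comm]; exact hy)
  have hqy : q.rTensor M (k.rTensor M y) = 0 := by
    rw [← LinearMap.rTensor_comp_apply, hqk, LinearMap.rTensor_zero, LinearMap.zero_apply]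
  rw [map_add, hqy, add_zero]
  clear hy h4 hv' hz₁
  -- work modulo `I P`
  let T : Submodule R (R' →₀ R) := LinearMap.ker (Finsupp.mapRange.linearMap (Submodule.mkQ I))
  have hT : ∀ p, p ∈ T ↔ ∀ r, p r ∈ I := fun p => by
    simp [T, Finsupp.ext_iff, Ideal.Quotient.eq_zero_iff_mem]
  let gQ : (↥Q ⧸ T.comap Q.subtype) →ₗ[R] (R' →₀ R) ⧸ T := Submodule.mapQ _ _ Q.subtype le_rfl
  have hg : Function.Injective gQ := by
    rw [← LinearMap.ker_eq_bot]
    simp [gQ, Submodule.ker_mapQ]
  have hTt : Module.IsTorsionBySet R ((R' →₀ R) ⧸ T) I := by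
    rintro p ⟨a, ha⟩
    obtain ⟨p, rfl⟩ := T.mkQ_surjective p
    rw [← map_smul, Submodule.mkQ_apply, Submodule.Quotient.mk_eq_zero, hT]
    exact fun r => I.mul_mem_right _ ha
  have hTt' : Module.IsTorsionBySet R (↥Q ⧸ T.comap Q.subtype) I := fun p a =>
    hg (by rw [map_smul, map_zero]; exact @hTt (gQ p) a)
  have h5 : (T.comap Q.subtype).mkQ.rTensor M x'' = 0 := by
    apply hK gQ hTt' hTt hg
    rw [map_zero, ← LinearMap.rTensor_comp_apply, Submodule.mapQ_mkQ, LinearMap.rTensor_comp_apply, hx'', map_zero]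
  obtain ⟨u, hu⟩ := (rTensor_exact M (LinearMap.exact_subtype_mkQ _) (Submodule.mkQ_surjective _) x'').mp h5
  have hmemQ : ∀ (r : R') (i : I), Finsupp.single r (i : R) ∈ Q := fun r i => by
    show α _ ∈ I'
    rw [Finsupp.linearCombination_single, Algebra.smul_def, id]
    exact Ideal.mul_mem_right _ _ (Ideal.mem_map_of_mem _ i.2)
  let ir : R' → (I →ₗ[R] Q) := fun r =>
    ((Finsupp.lsingle r).comp I.subtype).codRestrict Q (hmemQ r)
  let Ψ : (R' →₀ ↥I ⊗[R] M) →ₗ[R] Q ⊗[R] M := Finsupp.lsum R fun r => (ir r).rTensor M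
  obtain ⟨c, rfl⟩ : ∃ c, Ψ c = x'' := by
    rw [← hu]
    clear hu h5
    induction u using TensorProduct.induction_on with
    | zero => exact ⟨0, by simp⟩
    | add a b ha hb =>
      obtain ⟨c, hc⟩ := ha; obtain ⟨d, hd⟩ := hb
      exact ⟨c + d, by rw [map_add, hc, hd, map_add]⟩
    | tmul p m =>
      have hp : ∀ r, (p.1.1 : R' →₀ R) r ∈ I := (hT _).mp p.2
      refine ⟨∑ r ∈ p.1.1.support, Finsupp.single r ((⟨p.1.1 r, hp r⟩ : I) ⊗ₜ m), ?_⟩
      rw [map_sum, LinearMap.rTensor_tmul]
      simp only [Ψ, Finsupp.lsum_single, LinearMap.rTensor_tmul, ← TensorProduct.sum_tmul]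
      congr 1
      refine Subtype.ext ?_
      rw [Submodule.coe_sum]
      exact Finsupp.sum_single p.1.1
  have hc : ∀ r, (Submodule.subtype I).rTensor M (c r) = 0 := by
    intro r
    have key : ∀ d : R' →₀ ↥I ⊗[R] M, ((Finsupp.lapply r).comp Q.subtype).rTensor M (Ψ d) = (Submodule.subtype I).rTensor M (d r) := fun d => by
      induction d using Finsupp.induction_linear with
      | zero => simp
      | add a b ha hb => simp only [map_add, ha, hb, Finsupp.add_apply]
      | single r' v =>
        rw [Finsupp.lsum_single, ← LinearMap.rTensor_comp_apply]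
        by_cases h : r' = r
        · subst h
          rw [Finsupp.single_eq_same]
          congr 2
          refine LinearMap.ext fun i => ?_
          simp [ir]
        · rw [Finsupp.single_eq_of_ne (Ne.symm h), map_zero]
          rw [show ((Finsupp.lapply r).comp Q.subtype).comp (ir r') = 0 from LinearMap.ext fun i => by simp [ir, h],
            LinearMap.rTensor_zero, LinearMap.zero_apply]
    rw [← key, LinearMap.rTensor_comp_apply, hx'', map_zero]
  have hfin : ∀ d : R' →₀ ↥I ⊗[R] M, xi R R' f I' (q.rTensor M (Ψ d)) = d.sum fun r v => r •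
      (TensorProduct.mapOfCompatibleSMul R' R R ↥(I.map (algebraMap R R')) M')
        ((TensorProduct.map (Algebra.idealMap R' I) (f.restrictScalars R)) v) := fun d => by
    induction d using Finsupp.induction_linear with
    | zero => simp
    | add a b ha hb =>
      rw [map_add, map_add, map_add, ha, hb, Finsupp.sum_add_index' (by simp) (by simp)]
    | single r v =>
      rw [Finsupp.lsum_single, Finsupp.sum_single_index (by simp)]
      induction v using TensorProduct.induction_on with
      | zero => simp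
      | add a b ha hb => simp only [map_add, smul_add, ha, hb]
      | tmul i m =>
        rw [LinearMap.rTensor_tmul, LinearMap.rTensor_tmul, xi_tmul, TensorProduct.map_tmul]
        show _ = r • ((Algebra.idealMap R' I i) ⊗ₜ[R'] f m)
        rw [TensorProduct.smul_tmul']
        congr 1
        refine Subtype.ext ?_
        show α (Finsupp.single r (i : R)) = r * algebraMap R R' i
        rw [Finsupp.linearCombination_single, Algebra.smul_def, id, mul_comm]
  rw [hfin]
  exact Finset.sum_eq_zero fun r _ => by simp only; rw [h3 _ (hc r), smul_zero]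

end Groth.Agent.CA2H40.BaseChangeFlat
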