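import Mathlib
import Groth.Agent.DimFormula.Trdeg
import Groth.Agent.DimFormula.Catenary
import Groth.Agent.Cat15.Order

/-! The dimension formula from catenarity of a few localisations of polynomial rings. -/

set_option autoImplicit false
set_option linter.style.haveILetI false

open Order

namespace Groth.Agent.CA2H40.DimFormulaCat

universe u

open DimFormula

theorem height_val_Iic {α : Type u} [PartialOrder α] {M : α} (a : ↥(Set.Iic M)) :
    height a = height (a : α) :=
  height_eq_of_strictMono (fun x : ↥(Set.Iic M) => x.1) (fun _ _ h => h)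
    (fun a b hb => ⟨⟨b, hb.le.trans a.2⟩, hb, rfl⟩) a

/-- Heights add below a prime with catenary local ring. -/
theorem height_add_eq {T : Type u} [CommRing T] [IsDomain T] [IsNoetherianRing T]
    {Q P M : PrimeSpectrum T} (hQP : Q ≤ P) (hPM : P ≤ M)
    (hM : CAlg.IsCatenary (Localization.AtPrime M.asIdeal)) :
    height Q + height (⟨P, hQP⟩ : ↥(Set.Ici Q)) = height P := by
  have hc : Cat15.PCat ↥(Set.Iic M) :=
    (Cat15.pcat_congr (IsLocalization.AtPrime.primeSpectrumOrderIso (Localization.AtPrime M.asIdeal) M.asIdeal)).1 hM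
  let Q' : ↥(Set.Iic M) := ⟨Q, hQP.trans hPM⟩
  let P' : ↥(Set.Iic M) := ⟨P, hPM⟩
  obtain ⟨n, hn⟩ := ENat.ne_top_iff_exists.1 (DimFormula.height_ne_top P)
  have h := height_add_height_eq hc.2 (fun a b ha hb => ?_) (show Q' ≤ P' from hQP)
    ((height_val_Iic P').trans hn.symm)
  · rw [height_val_Iic, height_val_Iic] at h
    refine Eq.trans ?_ h
    congr 1
    exact (height_eq_of_strictMono
      (fun R : ↥(Set.Ici Q') => (⟨R.1.1, R.2⟩ : ↥(Set.Ici Q))) (fun _ _ h => h)
      (fun a b hb => ⟨⟨⟨b.1, show b.1 ≤ M from le_trans (show b.1 ≤ a.1.1 from hb.le) a.1.2⟩, b.2⟩, hb, rfl⟩) ⟨P', hQP⟩).symm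
  · have hb' : ∀ a : ↥(Set.Iic M), height a = 0 → a.1 = ⟨⊥, Ideal.isPrime_bot⟩ := fun a ha => by
      rw [height_val_Iic, height_eq_zero] at ha
      exact le_antisymm (ha (show ⊥ ≤ a.1.asIdeal from bot_le)) (show ⊥ ≤ a.1.asIdeal from bot_le)
    exact Subtype.ext ((hb' a ha).trans (hb' b hb).symm)

/-- The dimension formula for a quotient of a polynomial ring, with one catenary local ring. -/
theorem dim_eq_of_quotient {A B : Type u} [CommRing A] [CommRing B] [IsDomain A] [IsDomain B]
    [IsNoetherianRing A] [Algebra A B] [Algebra.FiniteType A B] [FaithfulSMul A B] {m : ℕ}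
    (π : MvPolynomial (Fin m) A →ₐ[A] B) (hπ : Function.Surjective π) (P : PrimeSpectrum B)
    (M : PrimeSpectrum (MvPolynomial (Fin m) A)) (hPM : PrimeSpectrum.comap π.toRingHom P ≤ M)
    (hM : CAlg.IsCatenary (Localization.AtPrime M.asIdeal)) :
    height P + (fd A P.asIdeal : ℕ∞) =
      height (PrimeSpectrum.comap (algebraMap A B) P) + (fd A (⊥ : Ideal B) : ℕ∞) := by
  let Q := PrimeSpectrum.comap π.toRingHom ⟨⊥, Ideal.isPrime_bot⟩
  let P₀ := PrimeSpectrum.comap π.toRingHom P
  have hQP : Q ≤ P₀ := Ideal.comap_mono bot_le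
  have hover : ∀ R : PrimeSpectrum B, PrimeSpectrum.comap (algebraMap A _) (PrimeSpectrum.comap π.toRingHom R) =
      PrimeSpectrum.comap (algebraMap A B) R := fun R => by
    rw [← PrimeSpectrum.comap_comp_apply, AlgHom.toRingHom_eq_coe, AlgHom.comp_algebraMap]
  have hQA : height (PrimeSpectrum.comap (algebraMap A (MvPolynomial (Fin m) A)) Q) = 0 := by
    rw [hover, show PrimeSpectrum.comap (algebraMap A B) ⟨⊥, Ideal.isPrime_bot⟩ = ⟨⊥, Ideal.isPrime_bot⟩ from
      PrimeSpectrum.ext ((RingHom.ker_eq_comap_bot _).symm.trans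
        ((RingHom.injective_iff_ker_eq_bot _).1 (FaithfulSMul.algebraMap_injective A B))), height_bot_eq_zero]
  have e1 := height_add_fd_mvPolynomial A Q
  rw [hQA, zero_add, show fd A Q.asIdeal = fd A (⊥ : Ideal B) from fd_comap_of_surjective A π hπ ⊥] at e1
  have e2 := height_add_fd_mvPolynomial A P₀
  rw [show fd A P₀.asIdeal = fd A P.asIdeal from fd_comap_of_surjective A π hπ P.asIdeal, hover] at e2
  have heq := height_add_eq hQP hPM hM
  rw [height_Ici_comap π.toRingHom hπ Q (RingHom.ker_eq_comap_bot _) P hQP] at heq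
  apply ENat.add_left_injective_of_ne_top (DimFormula.height_ne_top Q) |>.eq_iff.1
  show height P + (fd A P.asIdeal : ℕ∞) + height Q =
    height (PrimeSpectrum.comap (algebraMap A B) P) + (fd A (⊥ : Ideal B) : ℕ∞) + height Q
  rw [add_comm _ (height Q), ← add_assoc, heq, e2, add_assoc, add_comm (fd A (⊥ : Ideal B) : ℕ∞), e1]

/-- Transcendence degrees add in towers. -/
theorem fd_add {A A' B : Type u} [CommRing A] [CommRing A'] [CommRing B] [Algebra A A'] [Algebra A' B]
    [Algebra A B] [IsScalarTower A A' B] [Algebra.FiniteType A A'] [Algebra.FiniteType A' B]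
    [Algebra.FiniteType A B] (q : Ideal B) [q.IsPrime] :
    fd A q = fd A (q.under A') + fd A' q := by
  let q' := q.under A'
  let p := q.under A
  haveI : q.LiesOver p := ⟨rfl⟩
  haveI : q.LiesOver q' := ⟨rfl⟩
  haveI : q'.LiesOver p := ⟨(Ideal.under_under q).symm⟩
  haveI : IsScalarTower (A ⧸ p) (A' ⧸ q') (B ⧸ q) := IsScalarTower.of_algebraMap_eq fun x => by
    obtain ⟨a, rfl⟩ := Ideal.Quotient.mk_surjective x
    exact congrArg (Ideal.Quotient.mk q) (IsScalarTower.algebraMap_apply A A' B a)
  have e1 := fd_eq_trdeg A p (Ideal.Quotient.mkₐ A q) Ideal.Quotient.mk_surjective q Ideal.mk_ker rfl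
  have e2 := fd_eq_trdeg A p (Ideal.Quotient.mkₐ A q') Ideal.Quotient.mk_surjective q' Ideal.mk_ker
    (Ideal.under_under q)
  have e3 := fd_eq_trdeg A' q' (Ideal.Quotient.mkₐ A' q) Ideal.Quotient.mk_surjective q Ideal.mk_ker rfl
  have h := trdeg_add_eq (R := A ⧸ p) (S := A' ⧸ q') (A := B ⧸ q)
  rw [← e1, ← e2, ← e3] at h
  exact_mod_cast h.symm

/-- The formula at all primes over the maximal ideal. -/
def Good (R : Type u) [CommRing R] [IsLocalRing R] (B : Type u) [CommRing B] [IsDomain B] [Algebra R B]
    [Algebra.FiniteType R B] : Prop :=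
  ∀ q : PrimeSpectrum B, PrimeSpectrum.comap (algebraMap R B) q = IsLocalRing.closedPoint R →
    height q + (fd R q.asIdeal : ℕ∞) = height (IsLocalRing.closedPoint R) + (fd R (⊥ : Ideal B) : ℕ∞)

theorem Good.congr {R B C : Type u} [CommRing R] [IsLocalRing R] [CommRing B] [IsDomain B] [Algebra R B]
    [Algebra.FiniteType R B] [CommRing C] [IsDomain C] [Algebra R C] [Algebra.FiniteType R C] (e : B ≃ₐ[R] C)
    (h : Good R B) : Good R C := fun q hq => by
  have h' := h (PrimeSpectrum.comap e.toAlgHom.toRingHom q)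
    (by rw [← PrimeSpectrum.comap_comp_apply, AlgHom.toRingHom_eq_coe, AlgHom.comp_algebraMap, hq])
  have e1 : fd R (PrimeSpectrum.comap e.toAlgHom.toRingHom q).asIdeal = fd R q.asIdeal :=
    fd_comap_of_surjective R e.toAlgHom e.surjective q.asIdeal
  have e2 : fd R (⊥ : Ideal B) = fd R (⊥ : Ideal C) := by
    rw [← fd_comap_of_surjective R e.toAlgHom e.surjective (⊥ : Ideal C)]
    congr 1
    exact (((RingHom.injective_iff_ker_eq_bot _).1 e.injective).symm.trans (RingHom.ker_eq_comap_bot _))
  have e3 : height (PrimeSpectrum.comap e.toAlgHom.toRingHom q) = height q :=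
    height_orderIso (PrimeSpectrum.comapEquiv e.toRingEquiv).symm q
  rwa [e1, e2, e3] at h'

theorem good {R : Type u} [CommRing R] [IsDomain R] [IsNoetherianRing R] [IsLocalRing R]
    {S : Type u} [CommRing S] [IsDomain S] [Algebra R S] [FaithfulSMul R S] [Algebra.FiniteType R S]
    (hcat : ∀ A' : Subalgebra R (Polynomial S), A'.FG →
      ∀ (m' : Ideal A') [m'.IsMaximal], m'.LiesOver (IsLocalRing.maximalIdeal R) →
        CAlg.IsCatenary (Localization.AtPrime m')) : Good R S := by
  classical
  suffices key : ∀ s : Finset S, ∀ B : Subalgebra R S, B = Algebra.adjoin R (s : Set S) →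
      ∀ [Algebra.FiniteType R B], Good R B by
    obtain ⟨s, hs⟩ := ‹Algebra.FiniteType R S›.out
    haveI : Algebra.FiniteType R (⊤ : Subalgebra R S) := ‹Algebra.FiniteType R S›.equiv Subalgebra.topEquiv.symm
    exact (key s ⊤ hs.symm).congr Subalgebra.topEquiv
  intro s
  induction s using Finset.induction with
  | empty =>
    intro B hB _ q hq
    rw [Finset.coe_empty, Algebra.adjoin_empty] at hB
    subst hB
    have hsur : Function.Surjective (Algebra.ofId R (⊥ : Subalgebra R S)) := fun x => by
      obtain ⟨r, hr⟩ := Algebra.mem_bot.1 x.2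
      exact ⟨r, Subtype.ext hr⟩
    have hinj : Function.Injective (Algebra.ofId R (⊥ : Subalgebra R S)) := fun a b h =>
      FaithfulSMul.algebraMap_injective R S (congrArg Subtype.val h)
    let e : R ≃ₐ[R] (⊥ : Subalgebra R S) := AlgEquiv.ofBijective _ ⟨hinj, hsur⟩
    refine Good.congr e (fun q hq => ?_) q hq
    have hq' : q = IsLocalRing.closedPoint R := by
      rw [Algebra.algebraMap_self] at hq
      exact PrimeSpectrum.ext ((Ideal.comap_id q.asIdeal).symm.trans (congrArg PrimeSpectrum.asIdeal hq))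
    have h0 : ∀ P : PrimeSpectrum R, fd R P.asIdeal = 0 := fun P => by
      have h1 := fd_eq_trdeg R P.asIdeal (Ideal.Quotient.mkₐ R P.asIdeal) Ideal.Quotient.mk_surjective P.asIdeal
        Ideal.mk_ker (Ideal.comap_id _)
      rw [trdeg_eq_zero] at h1
      exact_mod_cast h1
    rw [h0, h0 ⟨⊥, Ideal.isPrime_bot⟩, hq']
  | insert x s hx ih =>
    intro B hB hBft
    let A' := Algebra.adjoin R (s : Set S)
    haveI : Algebra.FiniteType R A' := (Subalgebra.fg_iff_finiteType _).1 (Subalgebra.fg_adjoin_finset s)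
    haveI : IsNoetherianRing A' := Algebra.FiniteType.isNoetherianRing R A'
    have hle : A' ≤ B := by rw [hB]; exact Algebra.adjoin_mono (by simp)
    letI : Algebra A' B := (Subalgebra.inclusion hle).toRingHom.toAlgebra
    haveI : IsScalarTower R A' B := IsScalarTower.of_algebraMap_eq fun r => rfl
    haveI : Algebra.FiniteType A' B := Algebra.FiniteType.of_restrictScalars_finiteType R A' B
    haveI : FaithfulSMul A' B :=
      (faithfulSMul_iff_algebraMap_injective _ _).2 (Subalgebra.inclusion_injective hle)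
    have hxB : x ∈ B := by rw [hB]; exact Algebra.subset_adjoin (by simp)
    let π : MvPolynomial (Fin 1) A' →ₐ[A'] B := MvPolynomial.aeval fun _ => ⟨x, hxB⟩
    have hπ : Function.Surjective π := by
      have : B ≤ ((π.restrictScalars R).range).map B.val := by
        conv_lhs => rw [hB]
        rw [Algebra.adjoin_le_iff, Finset.coe_insert, Set.insert_subset_iff]
        refine ⟨⟨⟨x, hxB⟩, ⟨MvPolynomial.X 0, MvPolynomial.aeval_X _ _⟩, rfl⟩, fun y hy => ?_⟩
        exact ⟨algebraMap A' B ⟨y, Algebra.subset_adjoin hy⟩,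
          ⟨MvPolynomial.C ⟨y, Algebra.subset_adjoin hy⟩, MvPolynomial.aeval_C _ _⟩, rfl⟩
      intro b
      obtain ⟨b', ⟨G, rfl⟩, hb'⟩ := this b.2
      exact ⟨G, Subtype.ext hb'⟩
    intro q hq
    -- the localisation of `A'[X]` at a maximal ideal above `q`
    let P₀ := PrimeSpectrum.comap π.toRingHom q
    obtain ⟨M, hMmax, hM⟩ := Ideal.exists_le_maximal P₀.asIdeal P₀.2.ne_top
    have hPR : P₀.asIdeal.under R = IsLocalRing.maximalIdeal R := by
      show (q.asIdeal.comap π.toRingHom).comap (algebraMap R _) = _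
      rw [Ideal.comap_comap, show π.toRingHom.comp (algebraMap R (MvPolynomial (Fin 1) A')) = algebraMap R B from
        (π.restrictScalars R).comp_algebraMap]
      exact congrArg PrimeSpectrum.asIdeal hq
    have hcatM : CAlg.IsCatenary (Localization.AtPrime M) := by
      let φ : MvPolynomial (Fin 1) A' →ₐ[R] Polynomial S :=
        (Polynomial.mapAlgHom A'.val).comp ((MvPolynomial.uniqueAlgEquiv A' (Fin 1)).toAlgHom.restrictScalars R)
      have hφ : Function.Injective φ :=
        (Polynomial.map_injective A'.val.toRingHom Subtype.val_injective).comp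
          (MvPolynomial.uniqueAlgEquiv A' (Fin 1)).injective
      let e := AlgEquiv.ofInjective φ hφ
      haveI : Algebra.FiniteType R (MvPolynomial (Fin 1) A') := Algebra.FiniteType.trans (S := A') ‹_› inferInstance
      let N : Ideal φ.range := M.comap e.symm.toRingEquiv
      haveI : N.IsMaximal := Ideal.comap_isMaximal_of_surjective _ e.symm.surjective
      have hN : N.LiesOver (IsLocalRing.maximalIdeal R) := ⟨by
        have hu : N.under R = M.comap (algebraMap R (MvPolynomial (Fin 1) A')) := by
          ext r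
          show e.symm (algebraMap R φ.range r) ∈ M ↔ _
          rw [e.symm.commutes]
          exact Ideal.mem_comap.symm
        rw [hu]
        exact (IsLocalRing.maximalIdeal.isMaximal R).eq_of_le (Ideal.comap_ne_top _ hMmax.ne_top)
          (hPR.ge.trans (Ideal.comap_mono hM))⟩
      have h := hcat φ.range ((Subalgebra.fg_iff_finiteType _).2
        (Algebra.FiniteType.equiv inferInstance e)) N hN
      have he : N.primeCompl.map e.symm.toRingEquiv.toMonoidHom = M.primeCompl := by
        ext y
        constructor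
        · rintro ⟨z, hz, rfl⟩; exact hz
        · intro hy
          refine ⟨e y, ?_, e.symm_apply_apply y⟩
          show ¬ e.symm (e y) ∈ M
          rw [e.symm_apply_apply]; exact hy
      exact (Cat15.pcat_congr (PrimeSpectrum.comapEquiv
        (IsLocalization.ringEquivOfRingEquiv (Localization.AtPrime N) (Localization.AtPrime M) e.symm.toRingEquiv he))).1 h
    have hstep := dim_eq_of_quotient π hπ q ⟨M, hMmax.isPrime⟩ hM hcatM
    have hq' : PrimeSpectrum.comap (algebraMap R A') (PrimeSpectrum.comap (algebraMap A' B) q) =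
        IsLocalRing.closedPoint R := by
      rw [← PrimeSpectrum.comap_comp_apply, ← IsScalarTower.algebraMap_eq, hq]
    have hA' := ih A' rfl (PrimeSpectrum.comap (algebraMap A' B) q) hq'
    have hbot : (⊥ : Ideal B).under A' = ⊥ :=
      (RingHom.ker_eq_comap_bot _).symm.trans ((RingHom.injective_iff_ker_eq_bot _).1
        (FaithfulSMul.algebraMap_injective A' B))
    have a1 := fd_add (A := R) (A' := A') q.asIdeal
    have a2 := fd_add (A := R) (A' := A') (⊥ : Ideal B)
    rw [a1, a2]
    simp only [hbot]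
    push_cast
    calc height q + ((fd R (q.asIdeal.under A') : ℕ∞) + fd A' q.asIdeal)
        = height q + (fd A' q.asIdeal : ℕ∞) + fd R (q.asIdeal.under A') := by ring
      _ = height (PrimeSpectrum.comap (algebraMap A' B) q) + (fd R (q.asIdeal.under A') : ℕ∞)
            + fd A' (⊥ : Ideal B) := by rw [hstep]; ring
      _ = height (IsLocalRing.closedPoint R) + ((fd R (⊥ : Ideal A') : ℕ∞) + fd A' (⊥ : Ideal B)) := by
        rw [← add_assoc]
        exact congrArg (· + (fd A' (⊥ : Ideal B) : ℕ∞)) hA'

end Groth.Agent.CA2H40.DimFormulaCat
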