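import Mathlib

/-! Eakin–Nagata: a subring over which a Noetherian ring is finite is Noetherian. -/

set_option autoImplicit false

universe u v

namespace Groth.Agent.CA2H40

variable {B : Type u} {A : Type v} [CommRing B] [CommRing A] [Algebra B A] [Module.Finite B A] [IsNoetherianRing A]

/-- A finite extension ring that is Noetherian is a Noetherian module (Eakin–Nagata). -/
theorem isNoetherian_of_finite_ext : IsNoetherian B A := by
  classical
  suffices h : ∀ I : Ideal B, IsNoetherian B (A ⧸ (I.map (algebraMap B A)).restrictScalars B) by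
    have := h ⊥
    rw [Ideal.map_bot] at this
    exact isNoetherian_of_linearEquiv (Submodule.quotEquivOfEqBot (Submodule.restrictScalars B (⊥ : Ideal A)) rfl)
  by_contra hcon
  push Not at hcon
  obtain ⟨I₀, hI₀⟩ := hcon
  obtain ⟨J₀, ⟨I, rfl, hI⟩, hmax⟩ := (wellFounded_gt (α := Ideal A)).has_min
    {J | ∃ I : Ideal B, J = I.map (algebraMap B A) ∧ ¬ IsNoetherian B (A ⧸ (I.map (algebraMap B A)).restrictScalars B)}
    ⟨_, I₀, rfl, hI₀⟩
  set J := (I.map (algebraMap B A)).restrictScalars B with hJ
  obtain ⟨F, hF⟩ := (Module.finite_def.mp ‹_› : (⊤ : Submodule B A).FG)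
  let Good : Set (Submodule B A) := {N | J ≤ N ∧ ∀ b : B, algebraMap B A b ∉ J → ∃ g ∈ F, b • g ∉ N}
  have hJgood : J ∈ Good := by
    refine ⟨le_rfl, fun b hb => ?_⟩
    by_contra h
    push Not at h
    refine hb ?_
    have hle : Submodule.span B (F : Set A) ≤ J.comap (LinearMap.lsmul B A b) := Submodule.span_le.mpr h
    rw [Algebra.algebraMap_eq_smul_one]
    exact hle (hF ▸ Submodule.mem_top : (1 : A) ∈ Submodule.span B (F : Set A))
  obtain ⟨N, -, hNmax⟩ := zorn_le_nonempty₀ Good (fun c hc hch y hy => by
    refine ⟨sSup c, ⟨(hc hy).1.trans (le_sSup hy), fun b hb => ?_⟩, fun z hz => le_sSup hz⟩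
    by_contra h
    push Not at h
    obtain ⟨z, hz, hzle⟩ : ∃ z ∈ c, ∀ g ∈ F, b • g ∈ z := by
      have hd : DirectedOn (· ≤ ·) c := hch.directedOn
      have hmem : ∀ g ∈ F, ∃ z ∈ c, b • g ∈ z := fun g hg => (Submodule.mem_sSup_of_directed ⟨y, hy⟩ hd).mp (h g hg)
      have key : ∀ G : Finset A, G ⊆ F → ∃ z ∈ c, ∀ g ∈ G, b • g ∈ z := by
        intro G hG
        induction G using Finset.induction_on with
        | empty => exact ⟨y, hy, fun g hg => absurd hg (by simp)⟩
        | @insert a G _ ih =>
          obtain ⟨z, hz, hzle⟩ := ih ((Finset.subset_insert a G).trans hG)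
          obtain ⟨w, hw, haw⟩ := hmem a (hG (Finset.mem_insert_self a G))
          obtain ⟨v, hv, hzv, hwv⟩ := hd z hz w hw
          refine ⟨v, hv, fun g hg => ?_⟩
          rcases Finset.mem_insert.mp hg with rfl | hg
          · exact hwv haw
          · exact hzv (hzle g hg)
      exact key F subset_rfl
    obtain ⟨g, hg, hgz⟩ := (hc hz).2 b hb
    exact hgz (hzle g hg)) J hJgood
  have hN : N ∈ Good := hNmax.prop
  have hQ : IsNoetherian B (A ⧸ N) := by
    refine ⟨fun L => ?_⟩
    let N' := L.comap N.mkQ
    have hL : N'.map N.mkQ = L := Submodule.map_comap_eq_of_surjective N.mkQ_surjective L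
    have hNN' : N ≤ N' := fun x hx => by
      show N.mkQ x ∈ L
      rw [Submodule.mkQ_apply, (Submodule.Quotient.mk_eq_zero N).mpr hx]; exact L.zero_mem
    by_cases hgood : N' ∈ Good
    · rw [← hL, le_antisymm (hNmax.le_of_ge hgood hNN') hNN', Submodule.mkQ_map_self]
      exact Submodule.fg_bot
    · have : ∃ b : B, algebraMap B A b ∉ J ∧ ∀ g ∈ F, b • g ∈ N' := by
        by_contra h
        push Not at h
        exact hgood ⟨hN.1.trans hNN', h⟩
      obtain ⟨b, hb, hbg⟩ := this
      let J₁ := ((I ⊔ Ideal.span {b}).map (algebraMap B A)).restrictScalars B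
      have hnoe : IsNoetherian B (A ⧸ J₁) := by
        by_contra h
        refine hmax _ ⟨_, rfl, h⟩ (lt_of_le_of_ne (Ideal.map_mono le_sup_left) fun heq => hb ?_)
        show algebraMap B A b ∈ I.map (algebraMap B A)
        rw [heq]
        exact Ideal.mem_map_of_mem _ (Submodule.mem_sup_right (Ideal.mem_span_singleton_self b))
      obtain ⟨S, hS⟩ := hnoe.noetherian (N'.map J₁.mkQ)
      choose lift hlift hlift' using fun s : S => Submodule.mem_map.mp (hS.le (Submodule.subset_span s.2))
      refine ⟨(S.attach.image fun s => N.mkQ (lift s)) ∪ F.image (fun g => N.mkQ (b • g)), le_antisymm ?_ ?_⟩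
      · rw [Submodule.span_le]
        intro x hx
        simp only [Finset.coe_union, Finset.coe_image, Set.mem_union, Set.mem_image] at hx
        rcases hx with ⟨s, -, rfl⟩ | ⟨g, hg, rfl⟩
        · exact hlift s
        · exact hbg g hg
      · rw [← hL, Submodule.map_le_iff_le_comap]
        intro x hx
        have h1 : J₁.mkQ x ∈ Submodule.span B ((fun s : S => J₁.mkQ (lift s)) '' Set.univ) := by
          rw [Set.image_univ, show (fun s : S => J₁.mkQ (lift s)) = Subtype.val from funext hlift']
          rw [Subtype.range_coe_subtype, show ({x | x ∈ S} : Set (A ⧸ J₁)) = (S : Set _) from rfl, hS]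
          exact ⟨x, hx, rfl⟩
        rw [Set.image_univ, show (fun s : S => J₁.mkQ (lift s)) = J₁.mkQ ∘ lift from rfl, Set.range_comp,
          ← Submodule.map_span, Submodule.mem_map] at h1
        obtain ⟨y, hy, hyx⟩ := h1
        have hxy : x - y ∈ J₁ := (Submodule.Quotient.eq J₁).mp hyx.symm
        set T := Submodule.span B (((S.attach.image fun s => N.mkQ (lift s)) ∪ F.image (fun g => N.mkQ (b • g)) : Finset _) : Set (A ⧸ N))
        have hy' : N.mkQ y ∈ T := by
          have hle : Submodule.span B (Set.range lift) ≤ T.comap N.mkQ := Submodule.span_le.mpr (by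
            rintro _ ⟨s, rfl⟩
            exact Submodule.subset_span (Finset.mem_coe.mpr (Finset.mem_union_left _ (Finset.mem_image_of_mem _ (S.mem_attach s)))))
          exact hle hy
        have hJ₁ : J₁ ≤ T.comap N.mkQ := by
          intro z hz
          rw [Submodule.restrictScalars_mem, Ideal.map_sup, Submodule.mem_sup] at hz
          obtain ⟨p, hp, r, hr, rfl⟩ := hz
          rw [Submodule.mem_comap, map_add, Submodule.mkQ_apply, (Submodule.Quotient.mk_eq_zero N).mpr (hN.1 hp), zero_add]
          rw [Ideal.map_span, Set.image_singleton, Ideal.mem_span_singleton'] at hr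
          obtain ⟨a, rfl⟩ := hr
          have hle : Submodule.span B (F : Set A) ≤ (T.comap N.mkQ).comap (LinearMap.lsmul B A b) :=
            Submodule.span_le.mpr fun g hg =>
              Submodule.subset_span (Finset.mem_coe.mpr (Finset.mem_union_right _ (Finset.mem_image_of_mem _ hg)))
          have := hle (hF ▸ Submodule.mem_top : a ∈ Submodule.span B (F : Set A))
          rw [mul_comm, ← Algebra.smul_def]
          exact this
        have := add_mem hy' (hJ₁ hxy)
        rwa [← map_add, add_sub_cancel] at this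
  -- `B` modulo the annihilator embeds into a power of `A ⧸ N`
  refine hI ?_
  let φ : B →ₗ[B] (F → A ⧸ N) := LinearMap.pi fun g => LinearMap.toSpanSingleton B _ (N.mkQ g)
  have hker : ∀ b ∈ LinearMap.ker φ, ∀ a : A, b • a ∈ J := by
    intro b hb a
    have hbJ : algebraMap B A b ∈ J := by
      by_contra h
      obtain ⟨g, hg, hgN⟩ := hN.2 b h
      have h2 := congrFun hb ⟨g, hg⟩
      exact hgN ((Submodule.Quotient.mk_eq_zero N).mp ((Submodule.Quotient.mk_smul N b g).trans h2))
    rw [Algebra.smul_def]
    exact Ideal.mul_mem_right a _ hbJ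
  haveI : IsNoetherian B (B ⧸ LinearMap.ker φ) :=
    isNoetherian_of_injective ((LinearMap.ker φ).liftQ φ le_rfl)
      (LinearMap.ker_eq_bot.mp (Submodule.ker_liftQ_eq_bot' _ φ rfl))
  let ψ : (F → B ⧸ LinearMap.ker φ) →ₗ[B] A ⧸ J := ∑ g : F,
    ((LinearMap.ker φ).liftQ (LinearMap.toSpanSingleton B _ (J.mkQ g)) (fun b hb => by
      rw [LinearMap.mem_ker, LinearMap.toSpanSingleton_apply, ← map_smul]
      exact (Submodule.Quotient.mk_eq_zero J).mpr (hker b hb _))).comp (LinearMap.proj g)
  refine isNoetherian_of_surjective ψ (top_le_iff.mp ?_)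
  rw [← Submodule.range_mkQ J, ← Submodule.map_top, ← hF, Submodule.map_span, Submodule.span_le]
  rintro _ ⟨g, hg, rfl⟩
  refine ⟨Pi.single ⟨g, hg⟩ (Submodule.Quotient.mk 1), ?_⟩
  rw [LinearMap.sum_apply, Finset.sum_eq_single (⟨g, hg⟩ : F)]
  · rw [LinearMap.comp_apply, LinearMap.proj_apply, Pi.single_eq_same, Submodule.liftQ_apply,
      LinearMap.toSpanSingleton_apply, one_smul]
  · intro g' _ hne
    simp [hne]
  · simp

/-- Eakin–Nagata. -/
theorem isNoetherianRing_of_finite_ext (h : Function.Injective (algebraMap B A)) : IsNoetherianRing B := by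
  haveI := isNoetherian_of_finite_ext (B := B) (A := A)
  exact isNoetherian_of_injective (Algebra.linearMap B A) h

end Groth.Agent.CA2H40
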