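import Mathlib

/-!
Valuation rings inside finitely generated fields have finite spectrum.
-/

namespace Groth.Agent.CA2H40

universe u v

variable {V : Type u} [CommRing V] [IsDomain V] [ValuationRing V]

/-- Monomials in elements separated by primes are pairwise non-associated. -/
theorem monomial_sep {ι : Type v} (x : ι → V) (hx : ∀ i, x i ≠ 0) (lev : ι → ℕ) (hlev : Function.Injective lev)
    (Q : ι → Ideal V) (hQ : ∀ i, (Q i).IsPrime) (hmem : ∀ i, x i ∈ Q i)
    (hsep : ∀ i j, lev i < lev j → x j ∉ Q i)
    (a b : ι →₀ ℕ) (h : Associated (a.prod fun i k => x i ^ k) (b.prod fun i k => x i ^ k)) : a = b := by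
  classical
  by_contra hab
  have hne : (a.neLocus b).Nonempty := Finsupp.nonempty_neLocus_iff.mpr hab
  obtain ⟨i, hi, hmin⟩ := Finset.exists_min_image _ lev hne
  suffices H : ∀ a b : ι →₀ ℕ, Associated (a.prod fun i k => x i ^ k) (b.prod fun i k => x i ^ k) →
      (∀ j, lev j < lev i → a j = b j) → b i < a i → False by
    have hlow : ∀ j, lev j < lev i → a j = b j := fun j hj => by
      by_contra hne'
      exact absurd (hmin j (Finsupp.mem_neLocus.mpr hne')) (not_le.mpr hj)
    rcases lt_or_gt_of_ne (Finsupp.mem_neLocus.mp hi) with hlt | hlt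
    · exact H b a h.symm (fun j hj => (hlow j hj).symm) hlt
    · exact H a b h hlow hlt
  clear h hab hne hi hmin a b
  intro a b h hlow hlt
  set c : ι →₀ ℕ := a.zipWith min (by simp) b with hc
  have key : ∀ d : ι →₀ ℕ, (∀ j, c j ≤ d j) → (d.prod fun i k => x i ^ k) =
      (c.prod fun i k => x i ^ k) * ((d - c).prod fun i k => x i ^ k) := by
    intro d hd
    rw [← Finsupp.prod_add_index' (fun _ => pow_zero _) (fun _ _ _ => pow_add _ _ _), add_tsub_cancel_of_le]
    exact hd
  rw [key a fun j => by simp [hc], key b fun j => by simp [hc]] at h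
  have hc0 : (c.prod fun i k => x i ^ k) ≠ 0 := Finset.prod_ne_zero_iff.mpr fun j _ => pow_ne_zero _ (hx j)
  replace h := h.of_mul_left (Associated.refl _) hc0
  haveI := hQ i
  have h1 : ((a - c).prod fun i k => x i ^ k) ∈ Q i := by
    have hi' : i ∈ (a - c).support := by simp [hc]; omega
    rw [Finsupp.prod, ← Finset.mul_prod_erase _ _ hi']
    exact Ideal.mul_mem_right _ _ (Ideal.pow_mem_of_mem _ (hmem i) _ (Finsupp.mem_support_iff.mp hi').bot_lt)
  have h2 : ((b - c).prod fun i k => x i ^ k) ∉ Q i := by
    rw [Finsupp.prod, Ideal.IsPrime.prod_mem_iff]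
    rintro ⟨j, hj, hjQ⟩
    have hjne : (b - c) j ≠ 0 := Finsupp.mem_support_iff.mp hj
    rcases lt_trichotomy (lev j) (lev i) with hl | hl | hl
    · exact hjne (by simp [hc, hlow j hl])
    · obtain rfl := hlev hl
      exact hjne (by simp [hc]; omega)
    · exact hsep i j hl ((hQ i).mem_of_pow_mem _ hjQ)
  exact h2 (Ideal.mem_of_dvd _ h.dvd h1)

/-- A sum of nonzero terms with pairwise non-associated values is nonzero. -/
theorem sum_ne_zero_of_not_associated {κ : Type v} (s : Finset κ) (hs : s.Nonempty) (f : κ → V)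
    (hf : ∀ k ∈ s, f k ≠ 0) (hna : ∀ k ∈ s, ∀ l ∈ s, Associated (f k) (f l) → k = l) :
    ∑ k ∈ s, f k ≠ 0 := by
  classical
  obtain ⟨k, hk, hdvd⟩ : ∃ k ∈ s, ∀ l ∈ s, f k ∣ f l := by
    clear hna hf
    induction hs using Finset.Nonempty.cons_induction with
    | singleton a => exact ⟨a, Finset.mem_singleton_self a, fun l hl => by rw [Finset.mem_singleton.mp hl]⟩
    | cons a s ha hs ih =>
      obtain ⟨k, hk, hk'⟩ := ih
      rcases ValuationRing.dvd_total (f a) (f k) with h | h
      · exact ⟨a, Finset.mem_cons_self _ _, fun l hl => (Finset.mem_cons.mp hl).elim (fun e => by rw [e])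
          fun hl => h.trans (hk' l hl)⟩
      · exact ⟨k, Finset.mem_cons_of_mem hk, fun l hl => (Finset.mem_cons.mp hl).elim (fun e => by rwa [e])
          fun hl => hk' l hl⟩
  have hrest : ∀ l ∈ s.erase k, ∃ t ∈ IsLocalRing.maximalIdeal V, f l = f k * t := by
    intro l hl
    obtain ⟨hlk, hls⟩ := Finset.mem_erase.mp hl
    obtain ⟨t, ht⟩ := hdvd l hls
    refine ⟨t, (IsLocalRing.mem_maximalIdeal t).mpr fun hu => hlk (hna l hls k hk ?_), ht⟩
    rw [ht]
    exact (associated_mul_unit_right (f k) t hu).symm
  choose! t ht hft using hrest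
  rw [← Finset.add_sum_erase _ _ hk, Finset.sum_congr rfl hft, ← Finset.mul_sum,
    ← mul_one_add (f k)]
  refine mul_ne_zero (hf k hk) fun h => ?_
  have : (1 : V) ∈ IsLocalRing.maximalIdeal V := by
    rw [show (1 : V) = -∑ l ∈ s.erase k, t l from eq_neg_of_add_eq_zero_left h]
    exact neg_mem (Submodule.sum_mem _ ht)
  exact (IsLocalRing.maximalIdeal.isMaximal V).ne_top ((Ideal.eq_top_iff_one _).mpr this)

/-- Nonzero integers in a valuation ring are units times powers of one element. -/
theorem exists_int_normal : ∃ π : V, π ≠ 0 ∧ ∀ n : ℤ, (n : V) ≠ 0 → ∃ e : ℕ, Associated (n : V) (π ^ e) := by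
  classical
  let p := ringChar (IsLocalRing.ResidueField V)
  have hunit : ∀ m : ℤ, ¬ (p : ℤ) ∣ m → IsUnit (m : V) := fun m hm => by
    rw [← IsLocalRing.residue_ne_zero_iff_isUnit, map_intCast, ne_eq, CharP.intCast_eq_zero_iff _ p]
    exact hm
  by_cases hp : (p : V) = 0
  · refine ⟨1, one_ne_zero, fun n hn => ⟨0, ?_⟩⟩
    rw [pow_zero, associated_one_iff_isUnit]
    refine hunit n fun ⟨c, hc⟩ => hn ?_
    rw [hc, Int.cast_mul, Int.cast_natCast, hp, zero_mul]
  · refine ⟨(p : V), hp, fun n hn => ?_⟩
    have hp1 : p.Prime := (CharP.char_is_prime_or_zero (IsLocalRing.ResidueField V) p).resolve_right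
      fun h => hp (by rw [h, Nat.cast_zero])
    have hn0 : n.natAbs ≠ 0 := fun h => hn (by rw [Int.natAbs_eq_zero.mp h, Int.cast_zero])
    obtain ⟨e, m, hm, hnm⟩ := Nat.exists_eq_pow_mul_and_not_dvd hn0 p hp1.ne_one
    refine ⟨e, ?_⟩
    have h1 : Associated ((n.natAbs : ℕ) : V) ((p : V) ^ e) := by
      rw [hnm, Nat.cast_mul, Nat.cast_pow]
      exact associated_mul_unit_left _ _ (by simpa using hunit (m : ℤ) (by exact_mod_cast hm))
    rcases Int.natAbs_eq n with h | h
    · rw [h, Int.cast_natCast]; exact h1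
    · rw [h, Int.cast_neg, Int.cast_natCast]; exact h1.neg_left

/-- The length of a chain of primes is bounded by the number of field generators plus one. -/
theorem chain_le {L : Type u} [Field L] (ι : V →+* L) (hι : Function.Injective ι) (s : Finset L)
    (hs : Subfield.closure (s : Set L) = ⊤) (n : ℕ) (P : Fin (n + 1) → Ideal V) (hP : ∀ i, (P i).IsPrime)
    (hmono : StrictMono P) : n ≤ s.card + 1 := by
  classical
  have hx : ∀ i : Fin n, ∃ x, x ∈ P i.succ ∧ x ∉ P i.castSucc := fun i =>
    SetLike.exists_of_lt (hmono (Fin.castSucc_lt_succ (i := i)))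
  choose x hxS hxC using hx
  have hx0 : ∀ i, x i ≠ 0 := fun i h => hxC i (by rw [h]; exact zero_mem _)
  have hxlt : ∀ (i : Fin n) (j : Fin (n + 1)), (j : ℕ) ≤ i → x i ∉ P j := fun i j hj h =>
    hxC i (hmono.monotone (show j ≤ i.castSucc from hj) h)
  obtain ⟨π, hπ0, hπ⟩ := exists_int_normal (V := V)
  -- the level of `π`
  let S : Finset (Fin (n + 1)) := Finset.univ.filter fun j => π ∈ P j
  let lπ : ℕ := if h : S.Nonempty then (S.min' h : Fin (n + 1)) else n + 1
  let κ := {i : Fin n // (i : ℕ) + 1 ≠ lπ}
  have hcard : n ≤ Fintype.card κ + 1 := by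
    have h1 : Fintype.card {i : Fin n // (i : ℕ) + 1 = lπ} ≤ 1 :=
      Fintype.card_le_one_iff.mpr fun a b => Subtype.ext (Fin.ext (by have := a.2; have := b.2; omega))
    have h2 : Fintype.card κ = n - Fintype.card {i : Fin n // (i : ℕ) + 1 = lπ} := by
      rw [show Fintype.card κ = Fintype.card {i : Fin n // ¬ (i : ℕ) + 1 = lπ} from rfl,
        Fintype.card_subtype_compl, Fintype.card_fin]
    omega
  let y : κ → L := fun i => ι (x i.1)
  let S₀ := (⊥ : Subring L)
  have hindep : AlgebraicIndependent S₀ y := by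
    rw [algebraicIndependent_iff]
    intro F hF
    by_contra hF0
    have hint : ∀ a, ∃ m : ℤ, (m : L) = ((F.coeff a : S₀) : L) := fun a => Subring.mem_bot.mp (F.coeff a).2
    choose m hm using hint
    let f : (κ →₀ ℕ) → V := fun a => (m a : V) * a.prod fun i k => x i.1 ^ k
    have hm0 : ∀ a ∈ F.support, (m a : V) ≠ 0 := fun a ha h => by
      have h' := congrArg ι h
      rw [map_intCast, map_zero, hm] at h'
      exact MvPolynomial.mem_support_iff.mp ha (Subtype.ext h')
    have hsum : ι (∑ a ∈ F.support, f a) = 0 := by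
      rw [← hF, MvPolynomial.aeval_def, MvPolynomial.eval₂_eq, map_sum]
      refine Finset.sum_congr rfl fun a _ => ?_
      simp only [f, map_mul, map_intCast, hm, Finsupp.prod, map_prod, map_pow, y]
      rfl
    refine sum_ne_zero_of_not_associated F.support (MvPolynomial.support_nonempty.mpr hF0) f ?_ ?_
      (hι (hsum.trans (map_zero ι).symm))
    · exact fun a ha => mul_ne_zero (hm0 a ha) (Finset.prod_ne_zero_iff.mpr fun i _ => pow_ne_zero _ (hx0 _))
    intro a ha b hb hab
    obtain ⟨e, he⟩ := hπ _ (hm0 a ha)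
    obtain ⟨e', he'⟩ := hπ _ (hm0 b hb)
    have h1 : Associated (π ^ e * a.prod fun i k => x i.1 ^ k) (π ^ e' * b.prod fun i k => x i.1 ^ k) :=
      ((he.mul_right _).symm.trans hab).trans (he'.mul_right _)
    by_cases hu : IsUnit π
    · refine monomial_sep (fun i : κ => x i.1) (fun i => hx0 _) (fun i => (i.1 : ℕ))
        (fun i j h => Subtype.ext (Fin.ext h)) (fun i => P i.1.succ) (fun i => hP _) (fun i => hxS _)
        (fun i j hij => hxlt _ _ (by simp only [Fin.val_succ]; omega)) a b ?_
      exact ((associated_unit_mul_left _ _ (hu.pow e)).symm.trans h1).trans (associated_unit_mul_left _ _ (hu.pow e'))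
    · let z : Option κ → V := fun o => o.elim π fun i => x i.1
      let lev : Option κ → ℕ := fun o => o.elim lπ fun i => (i.1 : ℕ) + 1
      let Q : Option κ → Ideal V := fun o => o.elim
        (if h : S.Nonempty then P (S.min' h) else IsLocalRing.maximalIdeal V) fun i => P i.1.succ
      have hlev : Function.Injective lev := by
        rintro (_ | i) (_ | j) h
        · rfl
        · exact absurd h.symm j.2
        · exact absurd h i.2
        · exact congrArg some (Subtype.ext (Fin.ext (Nat.succ_injective h)))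
      have hQ : ∀ o, (Q o).IsPrime := by
        rintro (_ | i)
        · show (if h : S.Nonempty then P (S.min' h) else IsLocalRing.maximalIdeal V).IsPrime
          split_ifs
          · exact hP _
          · infer_instance
        · exact hP _
      have hmem : ∀ o, z o ∈ Q o := by
        rintro (_ | i)
        · show π ∈ (if h : S.Nonempty then P (S.min' h) else IsLocalRing.maximalIdeal V)
          split_ifs with h
          · exact (Finset.mem_filter.mp (S.min'_mem h)).2
          · exact (IsLocalRing.mem_maximalIdeal π).mpr hu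
        · exact hxS _
      have hsep : ∀ o o', lev o < lev o' → z o' ∉ Q o := by
        rintro (_ | i) (_ | j) h
        · exact absurd h (lt_irrefl _)
        · show x j.1 ∉ (if h : S.Nonempty then P (S.min' h) else IsLocalRing.maximalIdeal V)
          change lπ < (j.1 : ℕ) + 1 at h
          split_ifs with hS
          · refine hxlt _ _ ?_
            simp only [lπ, dif_pos hS] at h
            omega
          · simp only [lπ, dif_neg hS] at h
            have := j.1.isLt
            omega
        · change (i.1 : ℕ) + 1 < lπ at h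
          intro hmem'
          have hmS : i.1.succ ∈ S := Finset.mem_filter.mpr ⟨Finset.mem_univ _, hmem'⟩
          have hle : S.min' ⟨_, hmS⟩ ≤ i.1.succ := S.min'_le _ hmS
          simp only [lπ, dif_pos (show S.Nonempty from ⟨_, hmS⟩)] at h
          have := Fin.val_succ i.1
          have : ((S.min' ⟨_, hmS⟩ : Fin (n + 1)) : ℕ) ≤ (i.1.succ : ℕ) := hle
          omega
        · change (i.1 : ℕ) + 1 < (j.1 : ℕ) + 1 at h
          exact hxlt _ _ (by simp only [Fin.val_succ]; omega)
      have hz0 : ∀ o, z o ≠ 0 := by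
        rintro (_ | i)
        · exact hπ0
        · exact hx0 _
      have hprod : ∀ (e : ℕ) (a : κ →₀ ℕ), ((Finsupp.single none e + a.mapDomain some).prod fun o k => z o ^ k) =
          π ^ e * a.prod fun i k => x i.1 ^ k := fun e a => by
        rw [Finsupp.prod_add_index' (fun _ => pow_zero _) (fun _ _ _ => pow_add _ _ _),
          Finsupp.prod_single_index (h := fun o k => z o ^ k) (pow_zero _),
          Finsupp.prod_mapDomain_index_inj (Option.some_injective κ)]
        rfl
      have h2 := monomial_sep z hz0 lev hlev Q hQ hmem hsep _ _ ((hprod e a).symm ▸ (hprod e' b).symm ▸ h1)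
      ext i
      have h3 := DFunLike.congr_fun h2 (some i)
      simpa [Finsupp.single_apply, Finsupp.mapDomain_apply (Option.some_injective κ)] using h3
  haveI : Algebra.IsAlgebraic (Algebra.adjoin S₀ (s : Set L)) L := by
    refine ⟨fun l => ?_⟩
    have hle : Subring.closure (s : Set L) ≤ (Algebra.adjoin S₀ (s : Set L)).toSubring :=
      Subring.closure_le.mpr Algebra.subset_adjoin
    obtain ⟨a, ha, b, hb, rfl⟩ := Subfield.mem_closure_iff.mp (hs.ge (Subfield.mem_top l))
    have hA : IsAlgebraic (Algebra.adjoin S₀ (s : Set L)) a := isAlgebraic_algebraMap (⟨a, hle ha⟩ : Algebra.adjoin S₀ (s : Set L))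
    have hB : IsAlgebraic (Algebra.adjoin S₀ (s : Set L)) b := isAlgebraic_algebraMap (⟨b, hle hb⟩ : Algebra.adjoin S₀ (s : Set L))
    rw [div_eq_mul_inv]
    exact hA.mul hB.inv
  have hle := hindep.lift_cardinalMk_le_trdeg.trans
    (Cardinal.lift_le.mpr (Algebra.IsAlgebraic.trdeg_le_cardinalMk S₀ (s : Set L)))
  simp only [Cardinal.mk_fintype, Finset.coe_sort_coe, Fintype.card_coe, Cardinal.lift_natCast, Nat.cast_le] at hle
  omega

/-- A valuation ring inside a finitely generated field has finite spectrum. -/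
theorem finite_primeSpectrum_of_fg {L : Type u} [Field L] (ι : V →+* L) (hι : Function.Injective ι)
    (s : Finset L) (hs : Subfield.closure (s : Set L) = ⊤) : Finite (PrimeSpectrum V) := by
  classical
  by_contra hinf
  rw [not_finite_iff_infinite] at hinf
  obtain ⟨T, hT⟩ := Infinite.exists_subset_card_eq (PrimeSpectrum V) (s.card + 3)
  let T' : Finset (Ideal V) := T.image fun p => p.asIdeal
  have hT' : T'.card = s.card + 2 + 1 := by
    rw [Finset.card_image_of_injective _ (fun p q h => PrimeSpectrum.ext h), hT]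
  have := chain_le ι hι s hs (s.card + 2) (T'.orderEmbOfFin hT') (fun i => by
    obtain ⟨p, -, hp⟩ := Finset.mem_image.mp (T'.orderEmbOfFin_mem hT' i)
    exact hp ▸ p.isPrime) (T'.orderEmbOfFin hT').strictMono
  omega

end Groth.Agent.CA2H40
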