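import Mathlib

/-! In a ring with finite spectrum every localization at a prime is a localization away from an element. -/

set_option autoImplicit false

universe u

namespace Groth.Agent.CA2H40

/-- With finitely many primes, `A_P` inverts a single element. -/
theorem exists_isLocalizationAway {A : Type u} [CommRing A] [Finite (PrimeSpectrum A)] (P : Ideal A) [P.IsPrime]
    (S : Type u) [CommRing S] [Algebra A S] [IsLocalization.AtPrime S P] :
    ∃ f : A, f ∉ P ∧ IsLocalization.Away f S := by
  classical
  haveI : Fintype (PrimeSpectrum A) := Fintype.ofFinite _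
  have hq : ∀ Q : PrimeSpectrum A, ∃ a : A, a ∉ P ∧ (¬ Q.asIdeal ≤ P → a ∈ Q.asIdeal) := fun Q => by
    by_cases h : Q.asIdeal ≤ P
    · exact ⟨1, fun h1 => ‹P.IsPrime›.ne_top ((Ideal.eq_top_iff_one P).mpr h1), fun h' => absurd h h'⟩
    · obtain ⟨a, ha, ha'⟩ := SetLike.not_le_iff_exists.mp h
      exact ⟨a, ha', fun _ => ha⟩
  choose a ha ha' using hq
  let f : A := ∏ Q, a Q
  have hf : f ∈ P.primeCompl := prod_mem fun Q _ => ha Q
  refine ⟨f, hf, ?_⟩
  have hle : Submonoid.powers f ≤ P.primeCompl := Submonoid.powers_le.mpr hf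
  haveI : IsLocalization P.primeCompl (Localization.Away f) := by
    refine IsLocalization.isLocalization_of_is_exists_mul_mem (Localization.Away f) (Submonoid.powers f)
      P.primeCompl hle fun n => ?_
    have hu : IsUnit (algebraMap A (Localization.Away f) n) := by
      by_contra hu
      obtain ⟨m, hm, hnm⟩ := exists_max_ideal_of_mem_nonunits hu
      let Q : PrimeSpectrum A := ⟨m.comap (algebraMap A (Localization.Away f)), Ideal.IsPrime.comap _⟩
      have hfQ : f ∉ Q.asIdeal := fun h =>
        hm.ne_top (Ideal.eq_top_of_isUnit_mem _ h (IsLocalization.Away.algebraMap_isUnit f))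
      by_cases hQ : Q.asIdeal ≤ P
      · exact n.2 (hQ hnm)
      · exact hfQ (Ideal.mem_of_dvd _ (Finset.dvd_prod_of_mem a (Finset.mem_univ Q)) (ha' Q hQ))
    obtain ⟨c, hc, hdvd⟩ := (IsLocalization.algebraMap_isUnit_iff (Submonoid.powers f)).mp hu
    obtain ⟨d, hd⟩ := hdvd
    exact ⟨d, by rwa [mul_comm, ← hd]⟩
  exact IsLocalization.isLocalization_of_algEquiv (Submonoid.powers f)
    (IsLocalization.algEquiv P.primeCompl (Localization.Away f) S)

end Groth.Agent.CA2H40
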