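import Mathlib

set_option autoImplicit false
universe u
open TensorProduct

namespace Groth.Agent.CA2H40

/-- Flatness descends along a faithfully flat second factor. -/
theorem flat_of_faithfullyFlat_comp (A B C : Type u) [CommRing A] [CommRing B] [CommRing C]
    [Algebra A B] [Algebra B C] [Algebra A C] [IsScalarTower A B C] [Module.FaithfullyFlat B C]
    [Module.Flat A C] : Module.Flat A B := by
  rw [Module.Flat.iff_lTensor_preserves_injective_linearMap]
  intro N N' _ _ _ _ i hi
  have h1 : Function.Injective (i.lTensor C) := Module.Flat.lTensor_preserves_injective_linearMap i hi
  have h2 : Function.Injective ((AlgebraTensorModule.map (LinearMap.id : B →ₗ[B] B) i).lTensor C) := by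
    have e : ∀ z, AlgebraTensorModule.cancelBaseChange A B B C N' ((AlgebraTensorModule.map (LinearMap.id : B →ₗ[B] B) i).lTensor C z) =
        i.lTensor C (AlgebraTensorModule.cancelBaseChange A B B C N z) := by
      intro z
      induction z using TensorProduct.induction_on with
      | zero => simp
      | tmul c y =>
        induction y using TensorProduct.induction_on with
        | zero => simp
        | tmul b n => simp
        | add y y' hy hy' => simp only [tmul_add, map_add] at *; rw [hy, hy']
      | add y y' hy hy' => simp only [map_add, hy, hy']
    intro z z' h
    apply (AlgebraTensorModule.cancelBaseChange A B B C N).injective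
    apply h1
    rw [← e, ← e, h]
  exact (Module.FaithfullyFlat.lTensor_injective_iff_injective B C _).1 h2

end Groth.Agent.CA2H40
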