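import Mathlib
import Groth.Prelude.Def_W4c2ratsingkovacsGH
import Groth.Agent.S15708
import Groth.Agent.Proj16.Points

/-! Systems of parameters of uniform geometric height. -/

set_option autoImplicit false
set_option linter.style.haveILetI false

universe u v

open HomogeneousLocalization W4c2ratsingkovacs

namespace Groth.Agent.CA2H40.GeomHeight

variable {R : Type u} {A : Type v} [CommRing R] [CommRing A] [Algebra R A] {𝒜 : ℕ → Submodule R A} [GradedRing 𝒜]

theorem mem_locIdeal_iff {I : Ideal A} {f : A} (x : Away 𝒜 f) :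
    x ∈ locIdeal 𝒜 I f ↔ x.val ∈ I.map (algebraMap A (Localization.Away f)) := Iff.rfl

theorem locIdeal_ne_top {I : Ideal A} {f : A} (hfI : f ∉ I.radical) : locIdeal 𝒜 I f ≠ ⊤ := by
  rw [Ideal.ne_top_iff_one, mem_locIdeal_iff, HomogeneousLocalization.val_one, ← map_one (algebraMap A (Localization.Away f)),
    IsLocalization.algebraMap_mem_map_algebraMap_iff (Submonoid.powers f)]
  rintro ⟨_, ⟨k, rfl⟩, hk⟩
  exact hfI ⟨k, by simpa using hk⟩

/-- The element `z ^ n / f ^ d`. -/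
noncomputable def el {f : A} {n : ℕ} (hf : f ∈ 𝒜 n) {z : A} {d : ℕ} (hz : z ∈ 𝒜 d) : Away 𝒜 f :=
  Away.mk 𝒜 hf d (z ^ n) (by
    have := SetLike.pow_mem_graded n hz
    rwa [smul_eq_mul, mul_comm, ← smul_eq_mul] at this)

theorem el_mem {f : A} {n : ℕ} (hn : 0 < n) (hf : f ∈ 𝒜 n) {z : A} {d : ℕ} (hz : z ∈ 𝒜 d) {I : Ideal A} (hzI : z ∈ I) :
    el hf hz ∈ locIdeal 𝒜 I f := by
  rw [mem_locIdeal_iff, el, Away.val_mk, Localization.mk_eq_mk', IsLocalization.mk'_mem_iff]
  exact Ideal.mem_map_of_mem _ (I.pow_mem_of_mem hzI n hn)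

theorem mem_of_el_mem {f : A} {n : ℕ} (hf : f ∈ 𝒜 n) {z : A} {d : ℕ} (hz : z ∈ 𝒜 d)
    (P : Ideal (Localization.Away f)) [P.IsPrime] (h : (el hf hz).val ∈ P) : algebraMap A (Localization.Away f) z ∈ P := by
  rw [el, Away.val_mk, Localization.mk_eq_mk', IsLocalization.mk'_mem_iff, map_pow] at h
  exact ‹P.IsPrime›.mem_of_pow_mem _ h

/-- Krull's bound. -/
theorem height_locIdeal_le [IsNoetherianRing A] {f : A} {n : ℕ} (hn : 0 < n) (hf : f ∈ 𝒜 n) (zs : List A)
    (hzs : ∀ z ∈ zs, ∃ d, z ∈ 𝒜 d) (hfI : f ∉ (Ideal.ofList zs).radical) :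
    (locIdeal 𝒜 (Ideal.ofList zs) f).height ≤ zs.length := by
  classical
  haveI : IsNoetherianRing (Away 𝒜 f) := Proj16.isNoetherianRing_away 𝒜 f hf
  choose d hd using fun i : Fin zs.length => hzs _ (List.getElem_mem i.isLt)
  let E : Ideal (Away 𝒜 f) := Ideal.span (Set.range fun i => el hf (hd i))
  have hEle : E ≤ locIdeal 𝒜 (Ideal.ofList zs) f := Ideal.span_le.2 (by
    rintro _ ⟨i, rfl⟩
    exact el_mem hn hf (hd i) (Ideal.subset_span (List.getElem_mem i.isLt)))
  have hlocle : locIdeal 𝒜 (Ideal.ofList zs) f ≤ E.radical := by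
    intro x hx
    obtain ⟨k, a, ha, rfl⟩ := Away.mk_surjective 𝒜 hf x
    rw [mem_locIdeal_iff, Away.val_mk, Localization.mk_eq_mk', IsLocalization.mk'_mem_iff,
      IsLocalization.algebraMap_mem_map_algebraMap_iff (Submonoid.powers f)] at hx
    obtain ⟨_, ⟨m, rfl⟩, hm⟩ := hx
    have hrange : Ideal.ofList zs = Ideal.span (Set.range fun i : Fin zs.length => zs[i]) := by
      refine congrArg Ideal.span (Set.ext fun z => ?_)
      simp only [Set.mem_range]
      exact ⟨fun h => let ⟨i, hi, e⟩ := List.getElem_of_mem h; ⟨⟨i, hi⟩, e⟩, fun ⟨i, e⟩ => e ▸ List.getElem_mem i.isLt⟩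
    rw [hrange, Ideal.mem_span_range_iff_exists_fun] at hm
    obtain ⟨c, hc⟩ := hm
    simp only at hc
    let D := (m + k) • n
    have hD : (f ^ m * a) ∈ 𝒜 D := by
      have := SetLike.mul_mem_graded (SetLike.pow_mem_graded m hf) ha
      rwa [← add_smul] at this
    let y : Fin zs.length → Away 𝒜 f := fun i =>
      Away.mk 𝒜 hf (m + k) ↑((DirectSum.decompose 𝒜 (c i * zs[i])) D) (SetLike.coe_mem _)
    have hy : ∑ i, y i = Away.mk 𝒜 hf k a ha := by
      apply HomogeneousLocalization.val_injective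
      rw [← HomogeneousLocalization.algebraMap_apply, map_sum, Away.val_mk]
      simp only [HomogeneousLocalization.algebraMap_apply, y, Away.val_mk, Localization.mk_eq_mk']
      simp only [IsLocalization.mk'_eq_mul_mk'_one (M := Submonoid.powers f) (S := Localization.Away f) (↑((DirectSum.decompose 𝒜 _) D) : A)]
      rw [← Finset.sum_mul, ← map_sum, ← IsLocalization.mk'_eq_mul_mk'_one]
      · rw [← AddSubmonoidClass.coe_finsetSum, ← DFinsupp.finsetSum_apply, ← DirectSum.decompose_sum, hc,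
          DirectSum.decompose_of_mem_same 𝒜 hD]
        exact IsLocalization.mk'_eq_of_eq (by simp only [pow_add]; ring)
    rw [← hy]
    refine sum_mem fun i _ => ⟨n, ?_⟩
    by_cases hid : d i ≤ D
    · have hyi : ((DirectSum.decompose 𝒜 (c i * zs[i])) D : A) = ↑((DirectSum.decompose 𝒜 (c i)) (D - d i)) * zs[i] :=
        DirectSum.coe_decompose_mul_of_right_mem_of_le 𝒜 (hd i) hid
      let b : A := ↑((DirectSum.decompose 𝒜 (c i)) (D - d i))
      have hb : b ^ n ∈ 𝒜 ((D - d i) • n) := by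
        have := SetLike.pow_mem_graded n (show b ∈ 𝒜 (D - d i) from SetLike.coe_mem _)
        rwa [smul_eq_mul, mul_comm, ← smul_eq_mul] at this
      have : y i ^ n = Away.mk 𝒜 hf (D - d i) (b ^ n) hb * el hf (hd i) := by
        apply HomogeneousLocalization.val_injective
        simp only [y, el, HomogeneousLocalization.val_pow, HomogeneousLocalization.val_mul, Away.val_mk,
          Localization.mk_pow, Localization.mk_mul, hyi, mul_pow]
        congr 1
        refine Subtype.ext ?_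
        show (f ^ (m + k)) ^ n = f ^ (D - d i) * f ^ d i
        rw [← pow_mul, ← pow_add, Nat.sub_add_cancel hid]
        rfl
      rw [this]
      exact E.mul_mem_left _ (Ideal.subset_span ⟨i, rfl⟩)
    · have h0 : y i = 0 := by
        apply HomogeneousLocalization.val_injective
        simp only [y, Away.val_mk, HomogeneousLocalization.val_zero]
        rw [show ((DirectSum.decompose 𝒜 (c i * zs[i])) D : A) = 0 from
          DirectSum.coe_decompose_mul_of_right_mem_of_not_le 𝒜 (hd i) hid, Localization.mk_zero]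
      rw [h0, zero_pow hn.ne']
      exact E.zero_mem
  have hEne : E ≠ ⊤ := fun h => locIdeal_ne_top hfI (top_le_iff.1 (h ▸ hEle))
  obtain ⟨Q, hQ, hEQ⟩ := Ideal.exists_le_maximal E hEne
  obtain ⟨q, hq, -⟩ := Ideal.exists_minimalPrimes_le (J := Q) (I := E) hEQ
  haveI := hq.1.1
  refine (Ideal.height_mono (hlocle.trans (hq.1.1.radical_le_iff.2 hq.1.2))).trans ?_
  refine (Ideal.height_le_spanRank_toENat_of_mem_minimalPrimes E q hq).trans ?_
  refine (OrderHomClass.mono Cardinal.toENat (Submodule.spanRank_span_le_card _)).trans ?_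
  have : Cardinal.mk (Set.range fun i : Fin zs.length => el hf (hd i)) ≤ (zs.length : Cardinal) := by
    simpa using Cardinal.mk_range_le_lift (f := fun i : Fin zs.length => el hf (hd i))
  exact (OrderHomClass.mono Cardinal.toENat this).trans (by simp)

/-- Every prime over `zs` has height at least the length, at every relevant `f`. -/
def Inv (𝒜 : ℕ → Submodule R A) [GradedRing 𝒜] (J : Ideal A) (zs : List A) : Prop :=
  ∀ (f : A) (n : ℕ), 0 < n → f ∈ 𝒜 n → f ∉ J.radical →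
    ∀ Q : Ideal (Away 𝒜 f), Q.IsPrime → locIdeal 𝒜 (Ideal.ofList zs) f ≤ Q → (zs.length : ℕ∞) ≤ Q.height

theorem exists_step [IsNoetherianRing A] (J : Ideal A) (hJ : J.IsHomogeneous 𝒜) {h : ℕ}
    (hJh : HasUniformGeomHeight 𝒜 J h)
    (P : Finset (Ideal A)) (hP : ∀ q ∈ P, q.IsPrime ∧ ¬ J ≤ q ∧ ¬ (HomogeneousIdeal.irrelevant 𝒜).toIdeal ≤ q)
    (zs : List A) (hlen : zs.length < h) (hinv : Inv 𝒜 J zs) :
    ∃ z, ((∃ n : ℕ, 0 < n ∧ z ∈ 𝒜 n) ∧ z ∈ J ∧ ∀ q ∈ P, z ∉ q) ∧ Inv 𝒜 J (zs ++ [z]) := by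
  classical
  let S := P ∪ ((Ideal.finite_minimalPrimes_of_isNoetherianRing A (Ideal.ofList zs)).toFinset.filter
    fun q => ¬ J ≤ q ∧ ¬ (HomogeneousIdeal.irrelevant 𝒜).toIdeal ≤ q)
  obtain ⟨z, d, hd, hzd, hzJ, hzav⟩ := Groth.Agent.S15708.result 𝒜 J hJ S (fun q hq => by
    rcases Finset.mem_union.1 hq with h | h
    · exact ⟨(hP q h).1, (hP q h).2.2, (hP q h).2.1⟩
    · rw [Finset.mem_filter, Set.Finite.mem_toFinset] at h
      exact ⟨h.1.1.1, h.2.2, h.2.1⟩)
  refine ⟨z, ⟨⟨d, hd, hzd⟩, hzJ, fun q hq => hzav q (Finset.mem_union_left _ hq)⟩, ?_⟩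
  intro f n hn hf hfJ Q hQ hle
  have hsub : Ideal.ofList zs ≤ Ideal.ofList (zs ++ [z]) :=
    Ideal.span_mono fun x hx => List.mem_append_left [z] hx
  have hle0 : locIdeal 𝒜 (Ideal.ofList zs) f ≤ Q :=
    le_trans (Ideal.comap_mono (Ideal.map_mono hsub)) hle
  obtain ⟨Q0, hQ0, hQ0Q⟩ := Ideal.exists_minimalPrimes_le hle0
  haveI := hQ0.1.1
  have h0 := hinv f n hn hf hfJ Q0 hQ0.1.1 hQ0.1.2
  rw [List.length_append, List.length_singleton]
  obtain ⟨Pt, hPt, hPtQ⟩ := Ideal.exists_minimalPrimes_comap_eq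
    (algebraMap (Away 𝒜 f) (Localization.Away f)) Q0 hQ0
  haveI := hPt.1.1
  let p := Pt.comap (algebraMap A (Localization.Away f))
  by_cases hJp : J ≤ p
  · have hJQ : locIdeal 𝒜 J f ≤ Q0 := by
      rw [← hPtQ]
      exact Ideal.comap_mono (Ideal.map_le_iff_le_comap.2 hJp)
    have := (hJh f n hn hf hfJ).ge.trans (Ideal.height_mono (hJQ.trans hQ0Q))
    exact le_trans (by exact_mod_cast hlen) this
  · have hpmin : p ∈ (Ideal.ofList zs).minimalPrimes := by
      rw [IsLocalization.minimalPrimes_map (Submonoid.powers f)] at hPt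
      exact hPt
    have hfp : f ∉ p := fun hfp => hPt.1.1.ne_top
      (Ideal.eq_top_of_isUnit_mem _ hfp (IsLocalization.map_units _ ⟨f, Submonoid.mem_powers f⟩))
    have hzp : z ∉ p := hzav p (Finset.mem_union_right _ (by
      rw [Finset.mem_filter, Set.Finite.mem_toFinset]
      refine ⟨hpmin, hJp, fun hirr => hfp (hirr ?_)⟩
      exact HomogeneousIdeal.mem_irrelevant_of_mem 𝒜 hn hf))
    have hne : Q0 ≠ Q := fun e => hzp (mem_of_el_mem hf hzd Pt (by
      have hm : el hf hzd ∈ Q0 :=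
        e ▸ hle (el_mem hn hf hzd (Ideal.subset_span (List.mem_append_right zs (List.mem_singleton_self z))))
      rw [← hPtQ] at hm
      exact hm))
    have hlt : Q0 < Q := lt_of_le_of_ne hQ0Q hne
    haveI := hQ
    have h1 : Q0.height + 1 ≤ Q.height := by
      exact Ideal.height_add_one_le_of_lt_of_isPrime hlt
    exact le_trans (by push_cast; exact add_le_add h0 le_rfl) h1

theorem main [IsNoetherianRing A] (J : Ideal A) (hJ : J.IsHomogeneous 𝒜) (h : ℕ) (hJh : HasUniformGeomHeight 𝒜 J h)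
    (P : Finset (Ideal A)) (hP : ∀ q ∈ P, q.IsPrime ∧ ¬ J ≤ q ∧ ¬ (HomogeneousIdeal.irrelevant 𝒜).toIdeal ≤ q) :
    ∃ zs : List A, zs.length = h ∧
      (∀ z ∈ zs, (∃ n : ℕ, 0 < n ∧ z ∈ 𝒜 n) ∧ z ∈ J ∧ ∀ q ∈ P, z ∉ q) ∧
      ∀ (f : A) (n : ℕ), 0 < n → f ∈ 𝒜 n → f ∉ J.radical →
        ∀ j : ℕ, 1 ≤ j → j ≤ h → geomHeight 𝒜 (Ideal.ofList (zs.take j)) f = j := by
  suffices ∀ j ≤ h, ∃ zs : List A, zs.length = j ∧
      (∀ z ∈ zs, (∃ n : ℕ, 0 < n ∧ z ∈ 𝒜 n) ∧ z ∈ J ∧ ∀ q ∈ P, z ∉ q) ∧ ∀ i ≤ j, Inv 𝒜 J (zs.take i) by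
    obtain ⟨zs, hlen, hz, hinv⟩ := this h le_rfl
    refine ⟨zs, hlen, hz, fun f n hn hf hfJ j hj1 hjh => le_antisymm ?_ ?_⟩
    · have hfI : f ∉ (Ideal.ofList (zs.take j)).radical := fun hh => hfJ
        (Ideal.radical_mono (Ideal.span_le.2 fun z hz' => (hz z (List.mem_of_mem_take hz')).2.1) hh)
      refine (height_locIdeal_le hn hf _ (fun z hz' => ?_) hfI).trans ?_
      · obtain ⟨m, -, hm⟩ := (hz z (List.mem_of_mem_take hz')).1
        exact ⟨m, hm⟩
      · rw [List.length_take]; exact_mod_cast min_le_left _ _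
    · have hj := hinv j hjh f n hn hf hfJ
      rw [show (zs.take j).length = j by rw [List.length_take]; omega] at hj
      rw [geomHeight, Ideal.height_eq_inf_minimalPrimes]
      exact le_iInf₂ fun q hq => hj q hq.1.1 hq.1.2
  intro j
  induction j with
  | zero =>
    refine fun _ => ⟨[], rfl, by simp, fun i _ => ?_⟩
    rw [List.take_nil]
    exact fun f n _ _ _ Q _ _ => by simp
  | succ j ih =>
    intro hj
    obtain ⟨zs, hlen, hz, hinv⟩ := ih (by omega)
    obtain ⟨z, hzp, hzi⟩ := exists_step J hJ hJh P hP zs (by omega) (by simpa [← hlen] using hinv j le_rfl)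
    refine ⟨zs ++ [z], by simp [hlen], ?_, fun i hi => ?_⟩
    · simp only [List.mem_append, List.mem_singleton]
      rintro w (hw | rfl)
      exacts [hz w hw, hzp]
    · rcases eq_or_lt_of_le hi with rfl | hi
      · rw [List.take_of_length_le (by simp [hlen])]
        exact hzi
      · rw [List.take_append_of_le_length (by omega)]
        exact hinv i (by omega)

end Groth.Agent.CA2H40.GeomHeight
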