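import Groth.Agent.LC.GorGlobal

/-!
# Torsionless and reflexive modules over Gorenstein rings of dimension at most one
-/

set_option autoImplicit false

universe u

open CategoryTheory IsLocalRing

namespace Groth.Agent.CA2H40.GorDimOne

open Groth.Agent.LC

variable {S : Type u} [CommRing S]

/-- A local homomorphism from a torsionless module into a free module. -/
theorem exists_embedding (M : Type u) [AddCommGroup M] [Module S M] [IsNoetherianRing S] [Module.Finite S M]
    (h : Function.Injective (Module.Dual.eval S M)) :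
    ∃ (n : ℕ) (ι : M →ₗ[S] (Fin n → S)), Function.Injective ι ∧
      Submodule.span S (Set.range fun i => (LinearMap.proj i).comp ι) = ⊤ := by
  obtain ⟨n, f, hf⟩ := Module.Finite.exists_fin (R := S) (M := Module.Dual S M)
  refine ⟨n, LinearMap.pi f, (injective_iff_map_eq_zero _).mpr fun m hm => h (LinearMap.ext fun φ => ?_), ?_⟩
  · rw [map_zero, LinearMap.zero_apply, Module.Dual.eval_apply]
    have hle : Submodule.span S (Set.range f) ≤ LinearMap.ker (Module.Dual.eval S M m) :=
      Submodule.span_le.mpr (by rintro _ ⟨i, rfl⟩; exact congrFun hm i)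
    exact hle (hf ▸ Submodule.mem_top)
  · rw [show (fun i => (LinearMap.proj i).comp (LinearMap.pi f)) = f from funext fun i => LinearMap.proj_pi f i]
    exact hf

/-- `Ext²(T, S) = 0` for Gorenstein rings of dimension at most one. -/
theorem ext_two_vanish [LocCoh.IsGorensteinRing S] (hdim : ringKrullDim S ≤ 1)
    (T : Type u) [AddCommGroup T] [Module S T] [Module.Finite S T] (j : ℕ) (hj : 1 < j) :
    Subsingleton (Abelian.Ext (ModuleCat.of S T) (ModuleCat.of S S) j) := by
  refine Module.subsingleton_of_localization_maximal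
    (fun (m : Ideal S) _ => LocalizedModule m.primeCompl
      (Abelian.Ext (ModuleCat.of S T) (ModuleCat.of S S) j))
    (fun (m : Ideal S) _ => LocalizedModule.mkLinearMap m.primeCompl _) fun m hm => ?_
  haveI : m.IsPrime := hm.isPrime
  haveI : IsNoetherianRing (Localization.AtPrime m) :=
    IsLocalization.isNoetherianRing m.primeCompl _ inferInstance
  haveI := LocCoh.IsGorensteinRing.isGorensteinLocalRing_localization (A := S) m
  obtain ⟨d, hd, -, hv⟩ := gorenstein_basic (R := Localization.AtPrime m)
  rw [IsLocalization.AtPrime.ringKrullDim_eq_height m (Localization.AtPrime m)] at hd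
  have hd1 : d ≤ 1 := by
    have h1 := ((ringKrullDim_le_iff_height_le _).1 hdim) hm.isPrime
    rw [hd] at h1
    exact_mod_cast h1
  obtain ⟨e⟩ := exists_extLoc_ring m.primeCompl T j
  haveI := hv (LocalizedModule m.primeCompl T) j (by omega)
  exact e.toEquiv.subsingleton

/-- The short exact sequence of an injection. -/
noncomputable def seqOf {M F : Type u} [AddCommGroup M] [Module S M] [AddCommGroup F] [Module S F]
    (ι : M →ₗ[S] F) : ShortComplex (ModuleCat.{u} S) :=
  ShortComplex.mk (X₁ := ModuleCat.of S M) (X₂ := ModuleCat.of S F) (X₃ := ModuleCat.of S (F ⧸ LinearMap.range ι))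
    (ModuleCat.ofHom ι) (ModuleCat.ofHom (LinearMap.range ι).mkQ)
    (ModuleCat.hom_ext (LinearMap.ext fun z => (Submodule.Quotient.mk_eq_zero _).2 ⟨z, rfl⟩))

theorem seqOf_shortExact {M F : Type u} [AddCommGroup M] [Module S M] [AddCommGroup F] [Module S F]
    (ι : M →ₗ[S] F) (hι : Function.Injective ι) : (seqOf ι).ShortExact :=
  { exact := (ShortComplex.ShortExact.moduleCat_exact_iff_function_exact _).2 (LinearMap.exact_map_mkQ_range ι)
    mono_f := (ModuleCat.mono_iff_injective _).2 hι
    epi_g := (ModuleCat.epi_iff_surjective _).2 (Submodule.mkQ_surjective _) }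

/-- If every functional extends, the first `Ext` of the cokernel vanishes. -/
theorem ext_one_vanish_of_extends {M F : Type u} [AddCommGroup M] [Module S M] [AddCommGroup F] [Module S F]
    [Module.Projective S F] (ι : M →ₗ[S] F) (hι : Function.Injective ι)
    (h : ∀ φ : M →ₗ[S] S, ∃ ψ : F →ₗ[S] S, ψ.comp ι = φ) :
    Subsingleton (Abelian.Ext (ModuleCat.of S (F ⧸ LinearMap.range ι)) (ModuleCat.of S S) 1) := by
  haveI : Projective (seqOf ι).X₂ := (IsProjective.iff_projective (R := S) F).1 inferInstance
  refine subsingleton_of_forall_eq 0 fun e => ?_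
  obtain ⟨w, hw⟩ := Abelian.Ext.contravariant_sequence_exact₃ (seqOf_shortExact ι hι) _ e
    (Abelian.Ext.eq_zero_of_projective _) (add_zero 1)
  obtain ⟨w₀, rfl⟩ := Abelian.Ext.mk₀_bijective (seqOf ι).X₁ (ModuleCat.of S S) |>.2 w
  obtain ⟨ψ, hψ⟩ := h w₀.hom
  have hw₀ : w₀ = (seqOf ι).f ≫ ModuleCat.ofHom ψ := ModuleCat.hom_ext hψ.symm
  rw [← hw, hw₀, ← Abelian.Ext.mk₀_comp_mk₀, ← Abelian.Ext.comp_assoc _ _ _ (add_zero 1) (zero_add 0) (by omega),
    (seqOf_shortExact ι hι).extClass_comp, Abelian.Ext.zero_comp]
  rfl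

/-- Torsionless finite modules have no first `Ext` into the ring. -/
theorem ext_one_vanish [LocCoh.IsGorensteinRing S] (hdim : ringKrullDim S ≤ 1)
    (M : Type u) [AddCommGroup M] [Module S M] [Module.Finite S M]
    (h : Function.Injective (Module.Dual.eval S M)) :
    Subsingleton (Abelian.Ext (ModuleCat.of S M) (ModuleCat.of S S) 1) := by
  obtain ⟨n, ι, hι, -⟩ := exists_embedding M h
  haveI : Projective (seqOf ι).X₂ := (IsProjective.iff_projective (R := S) (Fin n → S)).1 inferInstance
  refine subsingleton_of_forall_eq 0 fun e => ?_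
  obtain ⟨w, hw⟩ := Abelian.Ext.contravariant_sequence_exact₁ (seqOf_shortExact ι hι) (ModuleCat.of S S) e
    (add_comm 1 1) (@Subsingleton.elim _ (ext_two_vanish hdim _ 2 one_lt_two) _ _)
  rw [← hw, Abelian.Ext.eq_zero_of_projective w]
  exact Abelian.Ext.comp_zero ..

/-- At a prime of positive height `Ext¹(S/q, S)` is non-zero. -/
theorem ext_one_ne [LocCoh.IsGorensteinRing S] (hdim : ringKrullDim S ≤ 1) (q : Ideal S) [q.IsPrime]
    (hq : q ∉ minimalPrimes S) :
    ¬ Subsingleton (Abelian.Ext (ModuleCat.of S (S ⧸ q)) (ModuleCat.of S S) 1) := by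
  intro h1
  haveI : IsNoetherianRing (Localization.AtPrime q) :=
    IsLocalization.isNoetherianRing q.primeCompl _ inferInstance
  have hle := ringKrullDim_le_of_ext_vanish (R := Localization.AtPrime q) 0 fun j hj => by
    haveI : Subsingleton (Abelian.Ext (ModuleCat.of S (S ⧸ q)) (ModuleCat.of S S) j) := by
      rcases eq_or_lt_of_le (show 1 ≤ j by omega) with rfl | hj'
      · exact h1
      · exact ext_two_vanish hdim _ j hj'
    obtain ⟨e⟩ := exists_extLoc_ring q.primeCompl (S ⧸ q) j
    obtain ⟨g⟩ := exists_locQuot q.primeCompl q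
    let e' := e.trans (extCongr (g.trans
      (Submodule.quotEquivOfEq _ _ Localization.AtPrime.map_eq_maximalIdeal)).toModuleIso (Iso.refl _) j)
    exact e'.symm.toEquiv.subsingleton
  rw [IsLocalization.AtPrime.ringKrullDim_eq_height q (Localization.AtPrime q)] at hle
  have h0 : q.height = 0 := nonpos_iff_eq_zero.mp (WithBot.coe_le_coe.mp hle)
  exact hq (Ideal.height_eq_zero_iff.mp h0)

/-- Over a reduced Gorenstein ring of dimension at most one, `Ext¹(C, S) = 0` makes `C` torsionless. -/
theorem injective_eval_of_ext_one [LocCoh.IsGorensteinRing S] [IsReduced S] (hdim : ringKrullDim S ≤ 1)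
    (C : Type u) [AddCommGroup C] [Module S C] [Module.Finite S C]
    (h : Subsingleton (Abelian.Ext (ModuleCat.of S C) (ModuleCat.of S S) 1)) :
    Function.Injective (Module.Dual.eval S C) := by
  rw [← LinearMap.ker_eq_bot]
  by_contra hne
  haveI : Nontrivial (LinearMap.ker (Module.Dual.eval S C)) := Submodule.nontrivial_iff_ne_bot.mpr hne
  obtain ⟨q, hq⟩ := associatedPrimes.nonempty S (LinearMap.ker (Module.Dual.eval S C))
  haveI : q.IsPrime := hq.1
  obtain ⟨-, g, hg⟩ := (isAssociatedPrime_iff_exists_injective_linearMap q _).1 ((AssociatedPrimes.mem_iff).1 hq)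
  let g' : (S ⧸ q) →ₗ[S] C := (LinearMap.ker (Module.Dual.eval S C)).subtype.comp g
  have hg' : Function.Injective g' := Subtype.val_injective.comp hg
  by_cases hmin : q ∈ minimalPrimes S
  · -- at a minimal prime the localization is a field
    let x := g' (Ideal.Quotient.mk q 1)
    have hann : ∀ s : S, s • x = 0 → s ∈ q := fun s hs => by
      have h2 : g' (s • Ideal.Quotient.mk q 1) = g' 0 := by rw [map_smul, map_zero]; exact hs
      have := hg' h2
      rw [← Ideal.Quotient.mkₐ_eq_mk S, ← map_smul, Ideal.Quotient.mkₐ_eq_mk, Ideal.Quotient.eq_zero_iff_mem,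
        smul_eq_mul, mul_one] at this
      exact this
    let Sq := Localization.AtPrime q
    letI : Field Sq := by
      haveI : Ring.KrullDimLE 0 Sq := Ring.krullDimLE_iff.mpr (by
        rw [IsLocalization.AtPrime.ringKrullDim_eq_height q Sq, Ideal.height_eq_zero_iff.mpr hmin]; rfl)
      exact (Ring.KrullDimLE.isField_of_isReduced).toField
    have hx : LocalizedModule.mk x (1 : q.primeCompl) ≠ 0 := fun hx => by
      rw [← LocalizedModule.zero_mk (1 : q.primeCompl), LocalizedModule.mk_eq] at hx
      obtain ⟨c, hc⟩ := hx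
      simp only [one_smul, smul_zero, Submonoid.smul_def] at hc
      exact c.2 (hann c hc)
    obtain ⟨φ, hφ⟩ : ∃ φ : LocalizedModule q.primeCompl C →ₗ[Sq] Sq, φ (LocalizedModule.mk x 1) ≠ 0 := by
      by_contra hall
      push Not at hall
      exact hx ((Module.forall_dual_apply_eq_zero_iff Sq _).mp hall)
    haveI : Module.FinitePresentation S C := Module.finitePresentation_of_finite S C
    obtain ⟨f, s, hf⟩ := Module.FinitePresentation.exists_lift_of_isLocalizedModule q.primeCompl
      (Algebra.linearMap S Sq) ((φ.restrictScalars S).comp (LocalizedModule.mkLinearMap q.primeCompl C))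
    have hfx : f x = 0 := by
      have hx' : g (Ideal.Quotient.mk q 1) ∈ (⊤ : Submodule S (LinearMap.ker (Module.Dual.eval S C))) := trivial
      have := LinearMap.congr_fun ((g (Ideal.Quotient.mk q 1)).2 : Module.Dual.eval S C _ = 0) f
      exact this
    have := LinearMap.congr_fun hf x
    rw [LinearMap.comp_apply, hfx, map_zero, LinearMap.smul_apply, LinearMap.comp_apply,
      LinearMap.restrictScalars_apply, LocalizedModule.mkLinearMap_apply, Submonoid.smul_def, Algebra.smul_def] at this
    exact mul_ne_zero ((IsLocalization.map_units Sq s).ne_zero) hφ this.symm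
  · refine ext_one_ne hdim q hmin ?_
    refine subsingleton_of_forall_eq 0 fun e => ?_
    obtain ⟨w, hw⟩ := Abelian.Ext.contravariant_sequence_exact₁ (seqOf_shortExact g' hg') (ModuleCat.of S S) e
      (add_comm 1 1) (@Subsingleton.elim _ (ext_two_vanish hdim _ 2 one_lt_two) _ _)
    have hw0 : w = 0 := @Subsingleton.elim _ h w 0
    rw [← hw, hw0]
    exact Abelian.Ext.comp_zero ..

/-- Torsionless modules are reflexive. -/
theorem bijective_eval_of_injective [LocCoh.IsGorensteinRing S] [IsReduced S] (hdim : ringKrullDim S ≤ 1)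
    (M : Type u) [AddCommGroup M] [Module S M] [Module.Finite S M]
    (h : Function.Injective (Module.Dual.eval S M)) : Function.Bijective (Module.Dual.eval S M) := by
  classical
  refine ⟨h, fun Φ => ?_⟩
  obtain ⟨n, ι, hι, hspan⟩ := exists_embedding M h
  let f : Fin n → Module.Dual S M := fun i => (LinearMap.proj i).comp ι
  have hcomb : ∀ φ : Module.Dual S M, ∃ c : Fin n → S, ∑ i, c i • f i = φ := fun φ =>
    (Submodule.mem_span_range_iff_exists_fun S).mp (hspan ▸ Submodule.mem_top)
  have hext := ext_one_vanish_of_extends ι hι fun φ => by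
    obtain ⟨c, hc⟩ := hcomb φ
    refine ⟨∑ i, c i • LinearMap.proj i, ?_⟩
    rw [← hc]
    exact LinearMap.ext fun m => by simp [f]
  have hC := injective_eval_of_ext_one hdim _ hext
  let y : Fin n → S := fun i => Φ (f i)
  have hy : (LinearMap.range ι).mkQ y = 0 := hC (LinearMap.ext fun φ => by
    rw [map_zero, LinearMap.zero_apply, Module.Dual.eval_apply]
    let c : Fin n → S := fun i => φ ((LinearMap.range ι).mkQ (Pi.single i 1))
    have hφ : ∀ z : Fin n → S, φ ((LinearMap.range ι).mkQ z) = ∑ i, z i * c i := fun z => by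
      conv_lhs => rw [pi_eq_sum_univ' z]
      simp only [map_sum, map_smul, smul_eq_mul, c]
    have hzero : ∑ i, c i • f i = 0 := LinearMap.ext fun m => by
      have h0 : φ ((LinearMap.range ι).mkQ (ι m)) = 0 := by
        rw [Submodule.mkQ_apply, (Submodule.Quotient.mk_eq_zero _).mpr (LinearMap.mem_range_self ι m), map_zero]
      rw [hφ] at h0
      simp only [LinearMap.sum_apply, LinearMap.smul_apply, LinearMap.zero_apply, smul_eq_mul]
      rw [← h0]
      exact Finset.sum_congr rfl fun i _ => mul_comm _ _
    have := congrArg Φ hzero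
    rw [map_sum, map_zero] at this
    rw [hφ, ← this]
    exact Finset.sum_congr rfl fun i _ => by rw [map_smul, smul_eq_mul, mul_comm])
  obtain ⟨m, hm⟩ := (Submodule.Quotient.mk_eq_zero _).mp hy
  refine ⟨m, LinearMap.ext fun φ => ?_⟩
  obtain ⟨c, rfl⟩ := hcomb φ
  rw [Module.Dual.eval_apply, map_sum, LinearMap.sum_apply]
  refine Finset.sum_congr rfl fun i _ => ?_
  rw [map_smul, LinearMap.smul_apply]
  exact congrArg (c i • ·) (congrFun hm i)

end Groth.Agent.CA2H40.GorDimOne
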