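import Mathlib
import Groth.Agent.LC.GorHull
import Groth.Agent.LC.GorLoc
import Groth.Agent.LC.DepthExt

/-! Residual ideals in Gorenstein local rings (linkage). -/

set_option autoImplicit false

universe u

open CategoryTheory IsLocalRing RingTheory.Sequence
open scoped Pointwise

namespace Groth.Agent.CA2H40.GorResidual

variable {A : Type u} [CommRing A]

/-- `Ext^j(M, A) = 0` for `j > dim A - depth M`. -/
theorem ext_vanish_of_regular [LocCoh.IsGorensteinLocalRing A] (d : ℕ) (hd : ringKrullDim A = d) :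
    ∀ (ys : List A) (M : Type u) [AddCommGroup M] [Module A M] [Module.Finite A M], IsWeaklyRegular M ys →
      (∀ y ∈ ys, y ∈ maximalIdeal A) → ∀ j, d < j + ys.length →
      Subsingleton (Abelian.Ext (ModuleCat.of A M) (ModuleCat.of A A) j) := by
  intro ys
  induction ys with
  | nil =>
    intro M _ _ _ _ _ j hj
    obtain ⟨d', hd', -, hv⟩ := LC.gorenstein_basic (R := A)
    rw [hd] at hd'
    have hdd : d = d' := by exact_mod_cast hd'
    exact hv M j (by simpa [← hdd] using hj)
  | cons y ys ih =>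
    intro M _ _ _ hreg hmem j hj
    rw [isWeaklyRegular_cons_iff] at hreg
    have hnext : Subsingleton (Abelian.Ext (ModuleCat.of A (QuotSMulTop y M)) (ModuleCat.of A A) (j + 1)) :=
      ih (QuotSMulTop y M) hreg.2 (fun z hz => hmem z (List.mem_cons_of_mem _ hz)) (j + 1)
        (by simp only [List.length_cons] at hj; omega)
    obtain ⟨δ, hδ, -⟩ := LC.ext_smul_sequence hreg.1 (ModuleCat.of A A) j
    obtain ⟨r, hr, hk⟩ := LC.exists_notMem_smul_eq_zero
      (E := Abelian.Ext (ModuleCat.of A M) (ModuleCat.of A A) j) (maximalIdeal A)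
      (s := 1) (hmem y List.mem_cons_self) (maximalIdeal A).one_notMem
      fun e => by rw [one_smul]; exact hδ e (@Subsingleton.elim _ hnext _ _)
    refine subsingleton_of_forall_eq 0 fun e => ?_
    obtain ⟨u, hu⟩ := notMem_maximalIdeal.1 hr
    rw [← one_smul A e, ← u.inv_mul, mul_smul, hu, hk, smul_zero]

/-- A maximal Cohen–Macaulay quotient of a Gorenstein ring has no higher `Ext` into it. -/
theorem ext_vanish_quot [LocCoh.IsGorensteinLocalRing A] (I : Ideal A) [LocCoh.IsCohenMacaulayLocalRing (A ⧸ I)]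
    (hI : ringKrullDim (A ⧸ I) = ringKrullDim A) (j : ℕ) (hj : 0 < j) :
    Subsingleton (Abelian.Ext (ModuleCat.of A (A ⧸ I)) (ModuleCat.of A A) j) := by
  obtain ⟨d, hd, -, -⟩ := LC.gorenstein_basic (R := A)
  obtain ⟨ts, hts, htm, htl⟩ := LC.exists_idealDepth_eq_length (maximalIdeal (A ⧸ I)) (M := A ⧸ I) (by
    rw [smul_eq_mul, Ideal.mul_top]; exact (maximalIdeal.isMaximal _).ne_top)
  have hlen : ts.length = d := by
    have h1 : Module.supportDim (A ⧸ I) (A ⧸ I) = ((LocCoh.depth (A ⧸ I) (A ⧸ I) : ℕ∞) : WithBot ℕ∞) :=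
      LocCoh.IsCohenMacaulayLocalRing.supportDim_eq_depth
    rw [Module.supportDim_self_eq_ringKrullDim, hI, hd] at h1
    unfold LocCoh.depth at h1
    rw [htl] at h1
    exact_mod_cast h1.symm
  choose lift hlift using Ideal.Quotient.mk_surjective (I := I)
  have hts' : IsWeaklyRegular (A ⧸ I) (ts.map lift) := by
    rw [← isWeaklyRegular_map_algebraMap_iff (A ⧸ I), List.map_map]
    convert hts
    exact List.map_id'' (fun z => hlift z) _
  refine ext_vanish_of_regular d hd (ts.map lift) (A ⧸ I) hts' (fun y hy => ?_) j ?_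
  · obtain ⟨z, hz, rfl⟩ := List.mem_map.1 hy
    by_contra hu
    have h2 := (notMem_maximalIdeal.1 hu).map (Ideal.Quotient.mk I)
    rw [hlift] at h2
    exact (mem_maximalIdeal z).1 (htm z hz) h2
  · rw [List.length_map, hlen]; omega

/-- The sequence `A/K → A/K → A/(K + (x))`. -/
noncomputable def seqMul (K : Ideal A) (x : A) : ShortComplex (ModuleCat.{u} A) :=
  ShortComplex.mk (X₁ := ModuleCat.of A (A ⧸ K)) (X₂ := ModuleCat.of A (A ⧸ K))
    (X₃ := ModuleCat.of A (A ⧸ (K ⊔ Ideal.span {x})))
    (ModuleCat.ofHom (LinearMap.lsmul A (A ⧸ K) x))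
    (ModuleCat.ofHom (Submodule.mapQ K (K ⊔ Ideal.span {x}) LinearMap.id le_sup_left))
    (ModuleCat.hom_ext (LinearMap.ext fun z => by
      obtain ⟨z, rfl⟩ := Submodule.Quotient.mk_surjective _ z
      exact (Submodule.Quotient.mk_eq_zero _).2
        (Ideal.mem_sup_right (Ideal.mul_mem_right z _ (Ideal.mem_span_singleton_self x)))))

theorem seqMul_shortExact (K : Ideal A) (x : A) (hx : IsSMulRegular (A ⧸ K) x) : (seqMul K x).ShortExact :=
  { exact := (ShortComplex.ShortExact.moduleCat_exact_iff_function_exact _).2 fun z => by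
      obtain ⟨z, rfl⟩ := Submodule.Quotient.mk_surjective _ z
      show Submodule.Quotient.mk z = 0 ↔ Submodule.Quotient.mk z ∈ Set.range fun w => x • w
      rw [Submodule.Quotient.mk_eq_zero, Submodule.mem_sup]
      constructor
      · rintro ⟨k, hk, w, hw, rfl⟩
        obtain ⟨c, rfl⟩ := Ideal.mem_span_singleton'.1 hw
        refine ⟨Submodule.Quotient.mk c, ?_⟩
        show Submodule.Quotient.mk (x • c) = _
        rw [Submodule.Quotient.eq]
        show x * c - (k + c * x) ∈ K
        rw [show x * c - (k + c * x) = -k by ring]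
        exact neg_mem hk
      · rintro ⟨w, hw⟩
        obtain ⟨w, rfl⟩ := Submodule.Quotient.mk_surjective _ w
        change Submodule.Quotient.mk (x • w) = Submodule.Quotient.mk z at hw
        rw [Submodule.Quotient.eq] at hw
        exact ⟨z - x * w, by rw [← neg_sub]; exact neg_mem hw, x * w, Ideal.mul_mem_right w _ (Ideal.mem_span_singleton_self x), by ring⟩
    mono_f := (ModuleCat.mono_iff_injective _).2 hx
    epi_g := (ModuleCat.epi_iff_surjective _).2 (fun z => by
      obtain ⟨z, rfl⟩ := Submodule.Quotient.mk_surjective _ z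
      exact ⟨Submodule.Quotient.mk z, rfl⟩) }

/-- The residual ideal behaves well modulo a regular sequence. -/
theorem residual_main [IsNoetherianRing A] (I : Ideal A)
    (hExt : ∀ j, 0 < j → Subsingleton (Abelian.Ext (ModuleCat.of A (A ⧸ I)) (ModuleCat.of A A) j)) :
    ∀ ys : List A, IsWeaklyRegular A ys →
      (∀ j, 0 < j → Subsingleton (Abelian.Ext (ModuleCat.of A (A ⧸ I)) (ModuleCat.of A (A ⧸ Ideal.ofList ys)) j)) ∧
      Submodule.annihilator I ⊔ Ideal.ofList ys = Submodule.colon (Ideal.ofList ys) (I : Set A) ∧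
      Submodule.annihilator I ⊓ Ideal.ofList ys = Ideal.ofList ys * Submodule.annihilator I ∧
      IsWeaklyRegular (A ⧸ Submodule.annihilator I) ys := by
  intro ys
  induction ys using List.reverseRecOn with
  | nil =>
    intro _
    rw [Ideal.ofList_nil]
    refine ⟨fun j hj => ?_, ?_, by simp, IsWeaklyRegular.nil A _⟩
    · let e := (Submodule.quotEquivOfEqBot (⊥ : Ideal A) rfl).toModuleIso
      haveI := hExt j hj
      exact (LC.extCongr (Iso.refl _) e j).toEquiv.subsingleton
    · rw [sup_bot_eq]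
      ext a
      rw [Submodule.mem_annihilator, Submodule.mem_colon]
      simp
  | append_singleton ys x ih =>
    intro h
    obtain ⟨hys, hx⟩ := (LC.isWeaklyRegular_concat_iff ys x).mp h
    obtain ⟨hE, hcol, hint, hJ⟩ := ih hys
    have hKK : Ideal.ofList (ys ++ [x]) = Ideal.ofList ys ⊔ Ideal.span {x} := by
      rw [Ideal.ofList_append, Ideal.ofList_singleton]
    have hsmul : ∀ K : Ideal A, (K • ⊤ : Submodule A A) = K := fun K => by rw [smul_eq_mul, Ideal.mul_top]
    have hxK : IsSMulRegular (A ⧸ Ideal.ofList ys) x :=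
      ((Submodule.quotEquivOfEq _ _ (hsmul _)).isSMulRegular_congr x).mp hx
    have hxK' : ∀ c, x * c ∈ Ideal.ofList ys → c ∈ Ideal.ofList ys := fun c hc => by
      refine (Submodule.Quotient.mk_eq_zero _).1 (hxK.right_eq_zero_of_smul ?_)
      rw [← Submodule.Quotient.mk_smul, Submodule.Quotient.mk_eq_zero]
      exact hc
    have hS := seqMul_shortExact (Ideal.ofList ys) x hxK
    have hmemc : ∀ a (L : Ideal A), a ∈ Submodule.colon L (I : Set A) ↔ ∀ z ∈ I, a * z ∈ L := fun a L => by
      rw [Submodule.mem_colon]; rfl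
    have hann : ∀ a, a ∈ Submodule.annihilator I ↔ ∀ z ∈ I, a * z = 0 := fun a => Submodule.mem_annihilator
    rw [hKK]
    refine ⟨fun j hj => subsingleton_of_forall_eq 0 fun e => ?_, ?_, ?_, ?_⟩
    · haveI : Subsingleton (Abelian.Ext (ModuleCat.of A (A ⧸ I)) (seqMul (Ideal.ofList ys) x).X₁ (j + 1)) := hE (j + 1) (by omega)
      haveI : Subsingleton (Abelian.Ext (ModuleCat.of A (A ⧸ I)) (seqMul (Ideal.ofList ys) x).X₂ j) := hE j hj
      obtain ⟨w, hw⟩ := Abelian.Ext.covariant_sequence_exact₃ (ModuleCat.of A (A ⧸ I)) hS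
        (show Abelian.Ext (ModuleCat.of A (A ⧸ I)) (seqMul (Ideal.ofList ys) x).X₃ j from e) rfl (Subsingleton.elim _ _)
      rw [Subsingleton.elim w 0, Abelian.Ext.zero_comp] at hw
      exact hw.symm
    · refine le_antisymm (sup_le ?_ fun k hk => ?_) fun a ha => ?_
      · intro a ha
        rw [hmemc]
        intro z hz
        rw [(hann a).1 ha z hz]
        exact zero_mem _
      · rw [hmemc]
        exact fun z _ => Ideal.mul_mem_right z _ hk
      · rw [hmemc] at ha
        -- lift the map `A/I → A/(K + x)`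
        let g : (A ⧸ I) →ₗ[A] (A ⧸ (Ideal.ofList ys ⊔ Ideal.span {x})) :=
          Submodule.liftQ I (LinearMap.toSpanSingleton A _ (Submodule.Quotient.mk a)) (fun z hz => by
            rw [LinearMap.mem_ker, LinearMap.toSpanSingleton_apply, ← Submodule.Quotient.mk_smul, Submodule.Quotient.mk_eq_zero,
              smul_eq_mul, mul_comm]
            exact ha z hz)
        haveI : Subsingleton (Abelian.Ext (ModuleCat.of A (A ⧸ I)) (seqMul (Ideal.ofList ys) x).X₁ (0 + 1)) := hE 1 one_pos
        obtain ⟨w, hw⟩ := Abelian.Ext.covariant_sequence_exact₃ (ModuleCat.of A (A ⧸ I)) hS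
          (Abelian.Ext.mk₀ (show ModuleCat.of A (A ⧸ I) ⟶ (seqMul (Ideal.ofList ys) x).X₃ from ModuleCat.ofHom g)) rfl (Subsingleton.elim _ _)
        obtain ⟨w₀, rfl⟩ := (Abelian.Ext.mk₀_bijective _ _).2 w
        rw [Abelian.Ext.mk₀_comp_mk₀] at hw
        have hw' := congrArg (fun f => f.hom (Submodule.Quotient.mk (1 : A))) ((Abelian.Ext.mk₀_bijective _ _).1 hw)
        obtain ⟨b, hb⟩ := Submodule.Quotient.mk_surjective _ (w₀.hom (Submodule.Quotient.mk (1 : A)))
        have hba : b - a ∈ Ideal.ofList ys ⊔ Ideal.span {x} := by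
          change Submodule.mapQ (Ideal.ofList ys) (Ideal.ofList ys ⊔ Ideal.span {x}) LinearMap.id le_sup_left (w₀.hom (Submodule.Quotient.mk (1 : A))) = g (Submodule.Quotient.mk 1) at hw'
          rw [← hb, Submodule.mapQ_apply, LinearMap.id_apply, Submodule.liftQ_apply, LinearMap.toSpanSingleton_apply,
            one_smul, Submodule.Quotient.eq] at hw'
          exact hw'
        have hbc : b ∈ Submodule.annihilator I ⊔ Ideal.ofList ys := by
          rw [hcol, hmemc]
          intro z hz
          have h1 : w₀.hom (z • Submodule.Quotient.mk (1 : A)) = 0 := by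
            rw [← Submodule.Quotient.mk_smul, smul_eq_mul, mul_one, (Submodule.Quotient.mk_eq_zero I).2 hz, map_zero]
          rw [map_smul, ← hb] at h1
          rw [mul_comm]
          exact (Submodule.Quotient.mk_eq_zero _).1 h1
        rw [← sub_sub_cancel b a]
        exact sub_mem ((sup_le_sup_left le_sup_left _ : Submodule.annihilator I ⊔ Ideal.ofList ys ≤ _) hbc) (Submodule.mem_sup_right hba)
    · refine le_antisymm (fun a ha => ?_) (le_inf Ideal.mul_le_right Ideal.mul_le_left) -- product below both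
      obtain ⟨haJ, haK⟩ := ha
      obtain ⟨k, hk, w, hw, rfl⟩ := Submodule.mem_sup.1 haK
      obtain ⟨c, rfl⟩ := Ideal.mem_span_singleton'.1 hw
      have hc : c ∈ Submodule.annihilator I ⊔ Ideal.ofList ys := by
        rw [hcol, hmemc]
        intro z hz
        refine hxK' _ ?_
        have h0 := (hann _).1 haJ z hz
        rw [show x * (c * z) = -(k * z) by linear_combination h0]
        exact neg_mem (Ideal.mul_mem_right z _ hk)
      obtain ⟨c₁, hc₁, c₂, hc₂, rfl⟩ := Submodule.mem_sup.1 hc
      have h1 : k + c₂ * x ∈ Submodule.annihilator I ⊓ Ideal.ofList ys :=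
        ⟨by rw [show k + c₂ * x = (k + (c₁ + c₂) * x) - c₁ * x by ring]; exact sub_mem haJ (Ideal.mul_mem_right x _ hc₁),
          add_mem hk (Ideal.mul_mem_right x _ hc₂)⟩
      rw [hint] at h1
      rw [show k + (c₁ + c₂) * x = (k + c₂ * x) + x * c₁ by ring]
      exact add_mem (Ideal.mul_mono_left le_sup_left h1)
        (Ideal.mul_mem_mul (Submodule.mem_sup_right (Ideal.mem_span_singleton_self x)) hc₁)
    · rw [LC.isWeaklyRegular_concat_iff]
      refine ⟨hJ, ?_⟩
      rw [isSMulRegular_iff_right_eq_zero_of_smul]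
      intro q hq
      obtain ⟨q, rfl⟩ := Submodule.Quotient.mk_surjective _ q
      obtain ⟨a, rfl⟩ := Submodule.Quotient.mk_surjective _ q
      rw [← Submodule.Quotient.mk_smul, Submodule.Quotient.mk_eq_zero] at hq
      rw [Submodule.Quotient.mk_eq_zero]
      have key : ∀ v, (Submodule.Quotient.mk v : A ⧸ Submodule.annihilator I) ∈
          (Ideal.ofList ys • ⊤ : Submodule A (A ⧸ Submodule.annihilator I)) ↔ v ∈ Submodule.annihilator I ⊔ Ideal.ofList ys := fun v => by
        rw [show (⊤ : Submodule A (A ⧸ Submodule.annihilator I)) = Submodule.map (Submodule.annihilator I).mkQ ⊤ from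
          (by rw [Submodule.map_top, Submodule.range_mkQ]), ← Submodule.map_smul'', hsmul,
          ← Submodule.mkQ_apply, ← Submodule.mem_comap, Submodule.comap_map_eq, Submodule.ker_mkQ, sup_comm]
      rw [← Submodule.Quotient.mk_smul, key, hcol, hmemc] at hq
      rw [key, hcol, hmemc]
      intro z hz
      refine hxK' _ ?_
      rw [← mul_assoc]
      exact hq z hz

end Groth.Agent.CA2H40.GorResidual
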