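import Mathlib

set_option autoImplicit false
universe u

namespace Groth.Agent.CA2H40

variable {A : Type u} [CommRing A] {M : Type u} [AddCommGroup M] [Module A M]

theorem mem_iInf_ker_iff {ι : Type} (𝔓 : ι → Ideal A) [∀ i, (𝔓 i).IsPrime] (T : Set ι) (x : M) :
    x ∈ (⨅ i ∈ T, LinearMap.ker (LocalizedModule.mkLinearMap (𝔓 i).primeCompl M)) ↔
      ∀ i ∈ T, ∃ s : A, s ∉ 𝔓 i ∧ s • x = 0 := by
  simp only [Submodule.mem_iInf, LinearMap.mem_ker, LocalizedModule.mkLinearMap_apply]
  refine forall₂_congr fun i _ => ?_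
  rw [← LocalizedModule.zero_mk (1 : (𝔓 i).primeCompl), LocalizedModule.mk_eq]
  constructor
  · rintro ⟨⟨s, hs⟩, h⟩; exact ⟨s, hs, by simpa [Submonoid.smul_def] using h⟩
  · rintro ⟨s, hs, h⟩; exact ⟨⟨s, hs⟩, by simp [Submonoid.smul_def, h]⟩

/-- At a minimal prime `P` over `(π)`, elements of `P` act locally nilpotently on a module killed by `π`. -/
theorem exists_pow_mul_smul_eq_zero (π : A) (P : Ideal A) (hP : P ∈ (Ideal.span {π}).minimalPrimes)
    (x : M) (hx : π • x = 0) (t : A) (ht : t ∈ P) :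
    ∃ (N : ℕ) (u : A), u ∉ P ∧ u • t ^ N • x = 0 := by
  haveI := hP.1.1
  by_contra hc
  push Not at hc
  let S : Submonoid A := P.primeCompl ⊔ Submonoid.powers t
  have hdisj : Disjoint (Submodule.annihilator (Submodule.span A {x}) : Set A) (S : Set A) := by
    rw [Set.disjoint_left]
    intro a ha haS
    obtain ⟨u, hu, w, ⟨N, rfl⟩, rfl⟩ := Submonoid.mem_sup.1 haS
    refine hc N u hu ?_
    rw [SetLike.mem_coe, Submodule.mem_annihilator_span_singleton] at ha
    rw [smul_smul]; exact ha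
  obtain ⟨Q, hQ, hle, hdQ⟩ := Ideal.exists_le_prime_disjoint _ S hdisj
  have hπQ : Ideal.span {π} ≤ Q := (Ideal.span_singleton_le_iff_mem _).2
    (hle ((Submodule.mem_annihilator_span_singleton _ _).2 hx))
  have hQP : Q ≤ P := fun a ha => by
    by_contra h
    exact Set.disjoint_left.1 hdQ ha (Submonoid.mem_sup_left h)
  have := hP.2 ⟨hQ, hπQ⟩ hQP
  exact Set.disjoint_left.1 hdQ (this ht) (Submonoid.mem_sup_right (Submonoid.mem_powers t))

end Groth.Agent.CA2H40

namespace Groth.Agent.CA2H40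

theorem mem_span_singleton_smul_top {A : Type u} [CommRing A] {M : Type u} [AddCommGroup M] [Module A M]
    {π : A} {m : M} : m ∈ Ideal.span {π} • (⊤ : Submodule A M) ↔ ∃ z, z ∈ (⊤ : Submodule A M) ∧ π • z = m := by
  rw [Submodule.ideal_span_singleton_smul, Submodule.mem_smul_pointwise_iff_exists]

end Groth.Agent.CA2H40
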