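import Mathlib
import Groth.Agent.RegLoc6.Serre
import Groth.Agent.FlatMisc.ValuationFP

/-! Projective dimension over local rings of flat finite type algebras over valuation rings with regular fibre. -/

set_option autoImplicit false
set_option linter.style.haveILetI false

universe u

open Groth.Agent.RegLoc6

namespace Groth.Agent.CA2H40.PdValFibre

section Setting

variable {V : Type u} [CommRing V] {A : Type u} [CommRing A] [Algebra V A]

/-- Torsion free over `V`. -/
def TF (V : Type u) [CommRing V] {A : Type u} [CommRing A] [Algebra V A] (M : Type u) [AddCommGroup M] [Module A M] :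
    Prop :=
  ∀ c : V, c ≠ 0 → ∀ x : M, algebraMap V A c • x = 0 → x = 0

/-- Saturated submodules of finite free modules are finitely generated. -/
def SatFG (V A : Type u) [CommRing V] [CommRing A] [Algebra V A] : Prop :=
  ∀ (r : ℕ) (N : Submodule A (Fin r → A)),
    (∀ (c : V) (x : Fin r → A), c ≠ 0 → algebraMap V A c • x ∈ N → x ∈ N) → N.FG

theorem TF.pi (h : TF V (A := A) A) (r : ℕ) : TF V (A := A) (Fin r → A) := fun c hc x hx =>
  funext fun i => h c hc (x i) (congrFun hx i)

theorem TF.submodule {M : Type u} [AddCommGroup M] [Module A M] (h : TF V (A := A) M) (N : Submodule A M) :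
    TF V (A := A) N := fun c hc x hx => Subtype.ext (h c hc x (congrArg Subtype.val hx))

theorem fg_ker (hS : SatFG V A) {r : ℕ} {M : Type u} [AddCommGroup M] [Module A M] (hM : TF V (A := A) M)
    (φ : (Fin r → A) →ₗ[A] M) : (LinearMap.ker φ).FG :=
  hS r _ fun c x hc hx => LinearMap.mem_ker.2 (hM c hc (φ x) (by rw [← map_smul]; exact LinearMap.mem_ker.1 hx))

variable [IsDomain V] [ValuationRing V]

/-- Principalisation of the elements of `pM`. -/
theorem exists_eq_smul (p : Ideal V) {M : Type u} [AddCommGroup M] [Module A M] {x : M}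
    (hx : x ∈ p.map (algebraMap V A) • (⊤ : Submodule A M)) : ∃ c ∈ p, ∃ f : M, x = algebraMap V A c • f := by
  have hadd : ∀ (c d : V), c ∈ p → d ∈ p → ∀ f g : M,
      ∃ e ∈ p, ∃ h : M, algebraMap V A c • f + algebraMap V A d • g = algebraMap V A e • h := by
    intro c d hc hd f g
    rcases ValuationRing.dvd_total c d with ⟨k, rfl⟩ | ⟨k, rfl⟩
    · exact ⟨c, hc, f + algebraMap V A k • g, by rw [smul_add, smul_smul, ← map_mul]⟩
    · exact ⟨d, hd, algebraMap V A k • f + g, by rw [smul_add, smul_smul, ← map_mul]⟩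
  refine Submodule.smul_induction_on hx (fun a ha f _ => ?_) (fun a b ha hb => ?_)
  · induction ha using Submodule.span_induction generalizing f with
    | mem a ha => obtain ⟨c, hc, rfl⟩ := ha; exact ⟨c, hc, f, rfl⟩
    | zero => exact ⟨0, p.zero_mem, f, by simp⟩
    | add a b _ _ iha ihb =>
      obtain ⟨c, hc, f', hf'⟩ := iha f trivial; obtain ⟨d, hd, g', hg'⟩ := ihb f trivial
      rw [add_smul, hf', hg']
      exact hadd c d hc hd f' g'
    | smul a b _ ihb =>
      obtain ⟨c, hc, f', hf'⟩ := ihb f trivial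
      exact ⟨c, hc, a • f', by rw [smul_eq_mul, mul_smul, hf', smul_comm]⟩
  · obtain ⟨c, hc, f, rfl⟩ := ha; obtain ⟨d, hd, g, rfl⟩ := hb
    exact hadd c d hc hd f g

/-- Projective dimension lifts from the closed fibre. -/
theorem pdLE_of_fibre [IsLocalRing A] (hS : SatFG V A) (hA : TF V (A := A) A) (p : Ideal V)
    (hI : p.map (algebraMap V A) ≤ IsLocalRing.maximalIdeal A) :
    ∀ (j : ℕ) (M : Type u) [AddCommGroup M] [Module A M] [Module.Finite A M], TF V (A := A) M →
      PdLE (A ⧸ p.map (algebraMap V A)) j (M ⧸ p.map (algebraMap V A) • (⊤ : Submodule A M)) → PdLE A j M := by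
  classical
  let I := p.map (algebraMap V A)
  haveI : Nontrivial (A ⧸ I) := Ideal.Quotient.nontrivial_iff.2 (ne_top_of_le_ne_top (IsLocalRing.maximalIdeal.isMaximal A).ne_top hI)
  haveI : IsLocalRing (A ⧸ I) := IsLocalRing.of_surjective' (Ideal.Quotient.mk I) Ideal.Quotient.mk_surjective
  have key : ∀ {r : ℕ} {M : Type u} [AddCommGroup M] [Module A M], TF V (A := A) M → ∀ (φ : (Fin r → A) →ₗ[A] M),
      ∀ (x : Fin r → A) (hx : x ∈ LinearMap.ker φ), x ∈ I • (⊤ : Submodule A (Fin r → A)) →
        (⟨x, hx⟩ : LinearMap.ker φ) ∈ I • (⊤ : Submodule A (LinearMap.ker φ)) := by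
    intro r M _ _ hM φ x hx hxI
    obtain ⟨c, hc, f, hf⟩ := exists_eq_smul p hxI
    by_cases h0 : c = 0
    · have hx0 : (⟨x, hx⟩ : LinearMap.ker φ) = 0 := Subtype.ext (show x = 0 by rw [hf, h0, map_zero, zero_smul])
      rw [hx0]; exact zero_mem _
    · have hfk : f ∈ LinearMap.ker φ :=
        LinearMap.mem_ker.2 (hM c h0 _ (by rw [← map_smul, ← hf]; exact LinearMap.mem_ker.1 hx))
      rw [show (⟨x, hx⟩ : LinearMap.ker φ) = algebraMap V A c • ⟨f, hfk⟩ from Subtype.ext hf]
      exact Submodule.smul_mem_smul (Ideal.mem_map_of_mem _ hc) trivial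
  intro j
  induction j with
  | zero =>
    intro M _ _ _ hM hpd
    rw [pdLE_zero_iff] at hpd ⊢
    haveI : Module.Finite (A ⧸ I) (M ⧸ I • (⊤ : Submodule A M)) := Module.Finite.of_restrictScalars_finite A _ _
    haveI : Module.Free (A ⧸ I) (M ⧸ I • (⊤ : Submodule A M)) := Module.free_of_flat_of_isLocalRing
    let b := Module.finBasis (A ⧸ I) (M ⧸ I • (⊤ : Submodule A M))
    choose m hm using fun i => Submodule.Quotient.mk_surjective _ (b i)
    let φ := Fintype.linearCombination A m
    have hb : ∀ v, Submodule.Quotient.mk (p := I • (⊤ : Submodule A M)) (φ v) = ∑ i, Ideal.Quotient.mk I (v i) • b i := fun v => by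
      rw [Fintype.linearCombination_apply, ← Submodule.mkQ_apply, map_sum]
      refine Finset.sum_congr rfl fun i _ => ?_
      rw [map_smul, Submodule.mkQ_apply, hm]
      rfl
    have hsur : LinearMap.range φ = ⊤ := by
      refine top_le_iff.1 (Submodule.le_of_le_smul_of_le_jacobson_bot Module.Finite.fg_top
        (hI.trans (IsLocalRing.maximalIdeal_le_jacobson _)) fun x _ => ?_)
      choose v hv using fun i => Ideal.Quotient.mk_surjective (b.repr (Submodule.Quotient.mk x) i)
      rw [Submodule.mem_sup]
      refine ⟨φ v, ⟨v, rfl⟩, x - φ v, ?_, by abel⟩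
      refine (Submodule.Quotient.eq _).1 ?_
      rw [hb]
      simp only [hv, b.sum_repr]
    have hker : LinearMap.ker φ = ⊥ := by
      refine Submodule.eq_bot_of_le_smul_of_le_jacobson_bot I _ (fg_ker hS hM φ) (fun x hx => ?_)
        (hI.trans (IsLocalRing.maximalIdeal_le_jacobson _))
      have h0 := hb x
      rw [LinearMap.mem_ker.1 hx, Submodule.Quotient.mk_zero] at h0
      have hxI : x ∈ I • (⊤ : Submodule A (Fin _ → A)) := by
        rw [← Finset.univ_sum_single x]
        refine sum_mem fun i _ => ?_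
        have hi : x i ∈ I := Ideal.Quotient.eq_zero_iff_mem.1
          (Fintype.linearIndependent_iff.1 b.linearIndependent _ h0.symm i)
        rw [show Pi.single i (x i) = x i • Pi.single i (1 : A) by rw [← Pi.single_smul, smul_eq_mul, mul_one]]
        exact Submodule.smul_mem_smul hi trivial
      have h := Submodule.mem_map_of_mem (f := (LinearMap.ker φ).subtype) (key hM φ x hx hxI)
      rwa [Submodule.map_smul'', Submodule.map_subtype_top] at h
    exact Module.Projective.of_equiv (LinearEquiv.ofBijective φ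
      ⟨LinearMap.ker_eq_bot.1 hker, LinearMap.range_eq_top.1 hsur⟩)
  | succ j ih =>
    intro M _ _ _ hM hpd
    obtain ⟨r, φ, hφ⟩ := Module.Finite.exists_fin' A M
    haveI : Module.Finite A (LinearMap.ker φ) := Module.Finite.iff_fg.2 (fg_ker hS hM φ)
    refine (pdLE_succ_iff φ hφ).2 (ih _ ((hA.pi r).submodule _) ?_)
    let ι := (LinearMap.ker φ).subtype
    let ib := Submodule.mapQ (I • (⊤ : Submodule A (LinearMap.ker φ))) (I • (⊤ : Submodule A (Fin r → A))) ι
      (Submodule.smul_top_le_comap_smul_top I ι)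
    let φb := Submodule.mapQ (I • (⊤ : Submodule A (Fin r → A))) (I • (⊤ : Submodule A M)) φ
      (Submodule.smul_top_le_comap_smul_top I φ)
    let φb' := φb.extendScalarsOfSurjective (S := A ⧸ I) Ideal.Quotient.mk_surjective
    let ib' := ib.extendScalarsOfSurjective (S := A ⧸ I) Ideal.Quotient.mk_surjective
    have hφb : Function.Surjective φb' := fun y => by
      obtain ⟨y, rfl⟩ := Submodule.Quotient.mk_surjective _ y
      obtain ⟨x, rfl⟩ := hφ y
      exact ⟨Submodule.Quotient.mk x, rfl⟩
    have hib : Function.Injective ib' := (injective_iff_map_eq_zero ib').2 fun y hy => by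
      obtain ⟨⟨x, hx⟩, rfl⟩ := Submodule.Quotient.mk_surjective _ y
      exact (Submodule.Quotient.mk_eq_zero _).2 (key hM φ x hx ((Submodule.Quotient.mk_eq_zero _).1 hy))
    have hex : LinearMap.ker φb' = LinearMap.range ib' := by
      refine le_antisymm (fun y hy => ?_) ?_
      · obtain ⟨x, rfl⟩ := Submodule.Quotient.mk_surjective _ y
        have hx : φ x ∈ Submodule.map φ (I • (⊤ : Submodule A (Fin r → A))) := by
          rw [Submodule.map_smul'', Submodule.map_top, LinearMap.range_eq_top.2 hφ]
          exact (Submodule.Quotient.mk_eq_zero _).1 hy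
        obtain ⟨z, hz, hze⟩ := hx
        refine ⟨Submodule.Quotient.mk ⟨x - z, LinearMap.mem_ker.2 (by rw [map_sub, hze, sub_self])⟩, ?_⟩
        exact (Submodule.Quotient.eq _).2 (by simpa [ι] using neg_mem hz)
      · rintro _ ⟨y, rfl⟩
        obtain ⟨⟨x, hx⟩, rfl⟩ := Submodule.Quotient.mk_surjective _ y
        exact LinearMap.mem_ker.2 ((Submodule.Quotient.mk_eq_zero _).2 (by rw [show φ (ι ⟨x, hx⟩) = 0 from hx]; exact zero_mem _))
    haveI : Module.Free (A ⧸ I) ((Fin r → A) ⧸ I • (⊤ : Submodule A (Fin r → A))) :=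
      Module.Free.of_equiv ((TensorProduct.quotTensorEquivQuotSMul (Fin r → A) I).extendScalarsOfSurjective
        (S := A ⧸ I) Ideal.Quotient.mk_surjective)
    exact pdLE_of_equiv ((LinearEquiv.ofInjective ib' hib).trans (LinearEquiv.ofEq _ _ hex.symm)).symm
      ((pdLE_succ_iff φb' hφb).1 hpd)

/-- The bound for torsion-free modules when the fibre is regular of dimension `n`. -/
theorem pdLE_tf [IsLocalRing A] (hS : SatFG V A) (hA : TF V (A := A) A) (p : Ideal V)
    [IsRegularLocalRing (A ⧸ p.map (algebraMap V A))] {n : ℕ}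
    (hn : ringKrullDim (A ⧸ p.map (algebraMap V A)) = n)
    (M : Type u) [AddCommGroup M] [Module A M] [Module.Finite A M] (hM : TF V (A := A) M) : PdLE A n M := by
  refine pdLE_of_fibre hS hA p (IsLocalRing.le_maximalIdeal (Ideal.Quotient.nontrivial_iff.1 inferInstance)) n M hM ?_
  haveI : Module.Finite (A ⧸ p.map (algebraMap V A)) (M ⧸ p.map (algebraMap V A) • (⊤ : Submodule A M)) :=
    Module.Finite.of_restrictScalars_finite A _ _
  refine pdLE_mono (le_of_eq ?_) (pdLE_of_isRegularLocalRing (A ⧸ p.map (algebraMap V A)) _)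
  exact_mod_cast IsRegularLocalRing.spanFinrank_maximalIdeal.trans hn

theorem pdLE_fp [IsLocalRing A] (hS : SatFG V A) (hA : TF V (A := A) A) (p : Ideal V)
    [IsRegularLocalRing (A ⧸ p.map (algebraMap V A))] {n : ℕ}
    (hn : ringKrullDim (A ⧸ p.map (algebraMap V A)) = n)
    (M : Type u) [AddCommGroup M] [Module A M] [Module.FinitePresentation A M] : PdLE A (n + 1) M := by
  obtain ⟨r, φ, hφ⟩ := Module.Finite.exists_fin' A M
  haveI : Module.Finite A (LinearMap.ker φ) := Module.Finite.iff_fg.2 (Module.FinitePresentation.fg_ker φ hφ)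
  exact (pdLE_succ_iff φ hφ).2 (pdLE_tf hS hA p hn _ ((hA.pi r).submodule _))

theorem pdLE_reflexive [IsLocalRing A] (hS : SatFG V A) (hA : TF V (A := A) A) (p : Ideal V)
    [IsRegularLocalRing (A ⧸ p.map (algebraMap V A))] {n : ℕ}
    (hn : ringKrullDim (A ⧸ p.map (algebraMap V A)) = n)
    (M : Type u) [AddCommGroup M] [Module A M] [Module.Finite A M] [Module.IsReflexive A M] :
    PdLE A (n - 1) M := by
  classical
  obtain ⟨r, φ, hφ⟩ := Module.Finite.exists_fin' A M
  -- the dual is finitely presented
  let δ : Module.Dual A M →ₗ[A] (Fin r → A) := LinearMap.pi fun i => LinearMap.applyₗ (φ (Pi.single i 1))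
  have hδ : Function.Injective δ := fun f g h => by
    refine LinearMap.ext fun x => ?_
    obtain ⟨v, rfl⟩ := hφ x
    refine LinearMap.congr_fun ((Pi.basisFun A (Fin r)).ext fun i => ?_ : f.comp φ = g.comp φ) v
    simpa [δ] using congrFun h i
  have hD : (LinearMap.range δ).FG := hS r _ fun c x hc ⟨f, hf⟩ => by
    -- saturation: relations of `M` are tested inside the torsion-free ring
    have hfw : ∀ w, f (φ w) = ∑ i, w i * δ f i := fun w => by
      conv_lhs => rw [← Finset.univ_sum_single w, map_sum, map_sum]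
      refine Finset.sum_congr rfl fun i _ => ?_
      rw [show Pi.single i (w i) = w i • Pi.single i (1 : A) by rw [← Pi.single_smul, smul_eq_mul, mul_one],
        map_smul, map_smul]
      rfl
    have hker : ∀ w ∈ LinearMap.ker φ, ∑ i, w i * x i = 0 := fun w hw => hA c hc _ (by
      rw [Finset.smul_sum]
      refine Eq.trans ?_ ((hfw w).symm.trans (by rw [LinearMap.mem_ker.1 hw, map_zero]))
      refine Finset.sum_congr rfl fun i _ => ?_
      rw [show δ f i = algebraMap V A c * x i from congrFun hf i, smul_eq_mul]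
      ring)
    let g₀ : (Fin r → A) →ₗ[A] A := Fintype.linearCombination A x
    obtain ⟨g, hg⟩ : ∃ g : M →ₗ[A] A, g.comp φ = g₀ := by
      refine ⟨((LinearMap.ker φ).liftQ g₀ fun w hw => LinearMap.mem_ker.2 ?_).comp (φ.quotKerEquivOfSurjective hφ).symm.toLinearMap, ?_⟩
      · rw [Fintype.linearCombination_apply]; exact hker w hw
      · refine LinearMap.ext fun w => ?_
        simp
    refine ⟨g, funext fun i => ?_⟩
    show g (φ (Pi.single i 1)) = x i
    rw [← LinearMap.comp_apply, hg]
    simp [g₀]
  haveI : Module.Finite A (LinearMap.range δ) := Module.Finite.iff_fg.2 hD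
  haveI : Module.Finite A (Module.Dual A M) := Module.Finite.equiv (LinearEquiv.ofInjective δ hδ).symm
  obtain ⟨s, ψ, hψ⟩ := Module.Finite.exists_fin' A (Module.Dual A M)
  have hkψ : (LinearMap.ker ψ).FG := by
    rw [← LinearMap.ker_comp_of_ker_eq_bot ψ (LinearMap.ker_eq_bot.2 hδ)]
    exact fg_ker hS (hA.pi r) _
  haveI : Module.Finite A (LinearMap.ker ψ) := Module.Finite.iff_fg.2 hkψ
  obtain ⟨t, θ, hθ⟩ := Module.Finite.exists_fin' A (LinearMap.ker ψ)
  let χ : (Fin t → A) →ₗ[A] (Fin s → A) := (LinearMap.ker ψ).subtype.comp θ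
  have hex : Function.Exact χ ψ := LinearMap.exact_iff.2 (by
    rw [LinearMap.range_comp, LinearMap.range_eq_top.2 hθ, Submodule.map_subtype_top])
  -- dualise twice
  let K := LinearMap.ker χ.dualMap
  have e : M ≃ₗ[A] K := (Module.evalEquiv A M).trans ((LinearEquiv.ofInjective ψ.dualMap
    (LinearMap.dualMap_injective_of_surjective hψ)).trans (LinearEquiv.ofEq _ _ ?_))
  · refine pdLE_of_equiv (M := ↥K) e.symm ?_
    let R' := LinearMap.range χ.dualMap
    haveI : Module.FinitePresentation A (Module.Dual A (Fin t → A)) := Module.finitePresentation_of_projective A _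
    haveI : Module.FinitePresentation A (Module.Dual A (Fin t → A) ⧸ R') :=
      Module.finitePresentation_of_surjective R'.mkQ R'.mkQ_surjective (by
        rw [Submodule.ker_mkQ]; exact (Module.Finite.iff_fg).1 inferInstance)
    have h3 : PdLE A ((n - 1) + 2) (Module.Dual A (Fin t → A) ⧸ R') :=
      pdLE_mono (by omega) (pdLE_fp hS hA p hn _)
    have h2 : PdLE A ((n - 1) + 1) (LinearMap.ker R'.mkQ) := pdLE_ker _ R'.mkQ_surjective h3 (pdLE_of_projective _)
    have h2' : PdLE A ((n - 1) + 1) R' := pdLE_of_equiv (LinearEquiv.ofEq _ _ R'.ker_mkQ) h2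
    exact pdLE_of_equiv (LinearEquiv.ofEq _ _ (LinearMap.ker_rangeRestrict _))
      (pdLE_ker χ.dualMap.rangeRestrict χ.dualMap.surjective_rangeRestrict h2' (pdLE_of_projective _))
  · exact (LinearMap.ker_dualMap_eq_dualAnnihilator_range χ).trans (by
      rw [← LinearMap.exact_iff.1 hex]
      exact (LinearMap.range_dualMap_eq_dualAnnihilator_ker_of_surjective ψ hψ).symm) |>.symm

end Setting

/-- Local rings of flat finite type algebras. -/
theorem satFG_localization {V : Type u} [CommRing V] [IsDomain V] [ValuationRing V] {B : Type u} [CommRing B]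
    [Algebra V B] [Algebra.FiniteType V B] (M : Submonoid B) {A : Type u} [CommRing A] [Algebra B A]
    [Algebra V A] [IsScalarTower V B A] [IsLocalization M A] : SatFG V A := by
  classical
  intro r N hN
  obtain ⟨m, π, hπ⟩ := Algebra.FiniteType.iff_quotient_mvPolynomial''.1 ‹Algebra.FiniteType V B›
  let g : MvPolynomial (Fin m) V →+* A := (algebraMap B A).comp π.toRingHom
  let N' : Submodule (MvPolynomial (Fin m) V) (Fin r → MvPolynomial (Fin m) V) :=
    { carrier := {v | (fun i => g (v i)) ∈ N}
      add_mem' := fun {a b} ha hb => by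
        show (fun i => g (a i + b i)) ∈ N
        simp only [map_add]
        exact N.add_mem ha hb
      zero_mem' := by
        show (fun i => g ((0 : Fin r → MvPolynomial (Fin m) V) i)) ∈ N
        simp only [Pi.zero_apply, map_zero]
        exact N.zero_mem
      smul_mem' := fun c v hv => by
        show (fun i => g (c * v i)) ∈ N
        simp only [map_mul]
        exact N.smul_mem (g c) hv }
  have hfg : N'.FG := FlatMisc.ValuationFP.fg_of_saturated N' fun c v hc hcv => hN c _ hc (by
    have : (fun i => g ((c • v) i)) ∈ N := hcv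
    convert this using 1
    funext i
    simp [g, MvPolynomial.smul_eq_C_mul, ← MvPolynomial.algebraMap_eq, ← IsScalarTower.algebraMap_apply])
  obtain ⟨s, hs⟩ := hfg
  refine ⟨s.image fun v => fun i => g (v i), le_antisymm (Submodule.span_le.2 ?_) fun x hx => ?_⟩
  · intro y hy
    obtain ⟨v, hv, rfl⟩ := Finset.mem_image.1 hy
    exact (hs.le (Submodule.subset_span hv) :)
  · obtain ⟨b, hb⟩ := IsLocalization.exist_integer_multiples_of_finite M x
    choose y hy using hb
    choose v hv using fun i => hπ (y i)
    have hu : IsUnit (algebraMap B A b) := IsLocalization.map_units A b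
    have hgv : (fun i => g (v i)) = algebraMap B A b • x := funext fun i => by
      show algebraMap B A (π (v i)) = _
      rw [hv, hy]
      exact Algebra.smul_def _ _
    have hv' : v ∈ N' := show _ ∈ N by rw [hgv]; exact N.smul_mem _ hx
    rw [← Submodule.smul_mem_iff_of_isUnit _ hu, ← hgv]
    have h : ∀ v ∈ Submodule.span (MvPolynomial (Fin m) V) (↑s : Set (Fin r → MvPolynomial (Fin m) V)),
        (fun i => g (v i)) ∈ Submodule.span A (↑(s.image fun v => fun i => g (v i)) : Set (Fin r → A)) := by
      intro v hv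
      induction hv using Submodule.span_induction with
      | mem v hv => exact Submodule.subset_span (Finset.mem_image_of_mem _ hv)
      | zero => convert Submodule.zero_mem _ using 1; simp; rfl
      | add a b _ _ ha hb => convert Submodule.add_mem _ ha hb using 1; funext i; simp
      | smul c a _ ha => convert Submodule.smul_mem _ (g c) ha using 1; funext i; simp
    exact h v (hs.symm.le hv')

end Groth.Agent.CA2H40.PdValFibre
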