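import Mathlib
import Groth.Agent.FlatB12.ValPoint

/-! The dimension function `trdeg - height` on algebras of finite type over a Prüfer domain. -/

set_option autoImplicit false

universe u

namespace Groth.Agent.CA2H40.PruferDim

open DimFormula

theorem dim_quot_bot {L : Type u} [CommRing L] (I : Ideal L) (h : I = ⊥) : ringKrullDim (L ⧸ I) = ringKrullDim L :=
  (ringKrullDim_eq_of_ringEquiv (RingEquiv.ofBijective (Ideal.Quotient.mk I)
    ⟨(RingHom.injective_iff_ker_eq_bot _).mpr (Ideal.mk_ker.trans h), Ideal.Quotient.mk_surjective⟩)).symm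

section Transfer

variable {A A' B B' : Type u} [CommRing A] [CommRing A'] [CommRing B] [CommRing B'] [Algebra A B] [Algebra A' B']
  [Algebra.FiniteType A B] [Algebra.FiniteType A' B'] (ι : A →+* A') (j : B →+* B')
  (hc : ∀ a, j (algebraMap A B a) = algebraMap A' B' (ι a))
  (hA : ∀ a', ∃ a s, IsUnit (ι s) ∧ a' * ι s = ι a)
  (hB : ∀ b', ∃ b s, IsUnit (ι s) ∧ b' * j (algebraMap A B s) = j b)

include hc in
theorem j_aeval {n : ℕ} (t : Fin n → B) (G : MvPolynomial (Fin n) A) :
    j (MvPolynomial.aeval t G) = MvPolynomial.aeval (fun i => j (t i)) (MvPolynomial.map ι G) := by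
  induction G using MvPolynomial.induction_on with
  | C a => simp [hc]
  | add p q hp hq => simp only [map_add, hp, hq]
  | mul_X p i hp => simp only [map_mul, hp, MvPolynomial.map_X, MvPolynomial.aeval_X]

include hA in
theorem exists_scale {n : ℕ} (G' : MvPolynomial (Fin n) A') :
    ∃ (s : A) (G : MvPolynomial (Fin n) A), IsUnit (ι s) ∧ MvPolynomial.C (ι s) * G' = MvPolynomial.map ι G := by
  induction G' using MvPolynomial.induction_on with
  | C a =>
    obtain ⟨a', s, hs, h⟩ := hA a
    exact ⟨s, MvPolynomial.C a', hs, by rw [MvPolynomial.map_C, ← map_mul, mul_comm, h]⟩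
  | add p q hp hq =>
    obtain ⟨s, G, hs, hG⟩ := hp; obtain ⟨t, H, ht, hH⟩ := hq
    refine ⟨s * t, MvPolynomial.C t * G + MvPolynomial.C s * H, by rw [map_mul]; exact hs.mul ht, ?_⟩
    simp only [map_add, map_mul, MvPolynomial.map_C, ← hG, ← hH]
    ring
  | mul_X p i hp =>
    obtain ⟨s, G, hs, hG⟩ := hp
    exact ⟨s, G * MvPolynomial.X i, hs, by rw [map_mul, MvPolynomial.map_X, ← hG, mul_assoc]⟩

include hc hA hB in
/-- `fd` does not see localizations. -/
theorem fd_eq (X' : Ideal B') [X'.IsPrime] : fd A' X' = fd A (X'.comap j) := by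
  classical
  have hu : (X'.comap j).under A = (X'.under A').comap ι := by
    ext a; simp [Ideal.mem_comap, hc]
  refine eq_of_forall_le_iff fun n => ?_
  rw [le_fd_iff, le_fd_iff]
  constructor
  · rintro ⟨t', ht'⟩
    choose t s hs hts using fun i => hB (t' i)
    refine ⟨t, fun G hG => ?_⟩
    rw [Ideal.mem_comap, j_aeval ι j hc] at hG
    let σ : MvPolynomial (Fin n) A' →ₐ[A'] MvPolynomial (Fin n) A' :=
      MvPolynomial.aeval fun i => MvPolynomial.C (ι (s i)) * MvPolynomial.X i
    let τ : MvPolynomial (Fin n) A' →ₐ[A'] MvPolynomial (Fin n) A' :=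
      MvPolynomial.aeval fun i => MvPolynomial.C (↑((hs i).unit⁻¹) : A') * MvPolynomial.X i
    have hτσ : ∀ H, τ (σ H) = H := fun H => by
      have : τ.comp σ = AlgHom.id A' _ := MvPolynomial.algHom_ext fun i => by
        simp only [σ, τ, AlgHom.comp_apply, MvPolynomial.aeval_X, map_mul, AlgHom.id_apply]
        rw [MvPolynomial.aeval_C, MvPolynomial.algebraMap_eq, ← mul_assoc, ← map_mul, IsUnit.mul_val_inv, map_one, one_mul]
      exact AlgHom.congr_fun this H
    have h1 : MvPolynomial.aeval t' (σ (MvPolynomial.map ι G)) ∈ X' := by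
      rw [MvPolynomial.comp_aeval_apply]
      convert hG using 3
      funext i
      simp only [map_mul, MvPolynomial.aeval_C, MvPolynomial.aeval_X]
      rw [← hc, ← hts, mul_comm]
    have h2 := ht' _ h1
    have h3 : MvPolynomial.map ι G ∈ (X'.under A').map MvPolynomial.C := by
      have hle : (X'.under A').map MvPolynomial.C ≤ ((X'.under A').map MvPolynomial.C).comap τ.toRingHom :=
        Ideal.map_le_iff_le_comap.2 fun a ha => by
          simp only [Ideal.mem_comap, AlgHom.toRingHom_eq_coe, RingHom.coe_coe, τ, MvPolynomial.aeval_C]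
          exact Ideal.mem_map_of_mem _ ha
      have := hle h2
      rw [Ideal.mem_comap] at this
      rwa [AlgHom.toRingHom_eq_coe, RingHom.coe_coe, hτσ] at this
    rw [MvPolynomial.mem_map_C_iff] at h3 ⊢
    intro α
    rw [hu, Ideal.mem_comap, ← MvPolynomial.coeff_map]
    exact h3 α
  · rintro ⟨t, ht⟩
    refine ⟨fun i => j (t i), fun G' hG' => ?_⟩
    obtain ⟨s, G, hs, hG⟩ := exists_scale ι hA G'
    have h1 : MvPolynomial.aeval t G ∈ X'.comap j := by
      rw [Ideal.mem_comap, j_aeval ι j hc, ← hG, map_mul]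
      exact X'.mul_mem_left _ hG'
    have h2 := ht _ h1
    rw [MvPolynomial.mem_map_C_iff] at h2 ⊢
    intro α
    have := h2 α
    rw [hu, Ideal.mem_comap, ← MvPolynomial.coeff_map, ← hG, MvPolynomial.coeff_C_mul] at this
    exact (Ideal.unit_mul_mem_iff_mem _ hs).mp this

end Transfer

section Main

variable {R S : Type u} [CommRing R] [CommRing S] [Algebra R S] [Algebra.FiniteType R S]

variable (R) in
/-- The dimension function. -/
noncomputable def delta (P : Ideal S) [P.IsPrime] : ℤ := (fd R P : ℤ) - ((P.under R).height.toNat : ℤ)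

theorem trdeg_eq_fd (P : Ideal S) [P.IsPrime] :
    Cardinal.toNat (Algebra.trdeg (R ⧸ P.under R) (S ⧸ P)) = fd R P := by
  rw [← fd_eq_trdeg R (P.under R) (Ideal.Quotient.mkₐ R P) Ideal.Quotient.mk_surjective P (Ideal.mk_ker) rfl]
  exact Cardinal.toNat_natCast _

variable [IsDomain R] (hR : ∀ (p : Ideal R) [p.IsPrime], ValuationRing (Localization.AtPrime p))
include hR

theorem le_total_of_le {a b q : Ideal R} [a.IsPrime] [b.IsPrime] [q.IsPrime] (ha : a ≤ q) (hb : b ≤ q) :
    a ≤ b ∨ b ≤ a := by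
  haveI := hR q
  have hd : ∀ c : Ideal R, c.IsPrime → c ≤ q →
      (c.map (algebraMap R (Localization.AtPrime q))).comap (algebraMap R (Localization.AtPrime q)) = c := fun c hc hcq =>
    IsLocalization.comap_map_of_isPrime_disjoint q.primeCompl _ hc (Set.disjoint_left.mpr fun x hx hxc => hx (hcq hxc))
  rcases (ValuationRing.iff_ideal_total.mp (hR q)).total (a.map (algebraMap R (Localization.AtPrime q)))
      (b.map (algebraMap R (Localization.AtPrime q))) with h | h
  · exact Or.inl (by rw [← hd a ‹_› ha, ← hd b ‹_› hb]; exact Ideal.comap_mono h)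
  · exact Or.inr (by rw [← hd a ‹_› ha, ← hd b ‹_› hb]; exact Ideal.comap_mono h)

/-- The facts behind the dimension function. -/
theorem core (P Q : Ideal S) [P.IsPrime] [Q.IsPrime] (hPQ : P < Q) :
    (fd R Q ≤ fd R P) ∧ (P.under R = Q.under R → fd R Q < fd R P) ∧
    ((P.under R = Q.under R → fd R Q + 2 ≤ fd R P) → (P.under R ≠ Q.under R → fd R Q < fd R P ∨
        ∃ r : Ideal R, r.IsPrime ∧ P.under R < r ∧ r < Q.under R) →
      ∃ X : Ideal S, X.IsPrime ∧ P < X ∧ X < Q) := by
  classical
  let q := Q.under R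
  haveI hq : q.IsPrime := inferInstance
  have hpq : P.under R ≤ q := Ideal.comap_mono hPQ.le
  haveI := hR q
  let Rq := Localization.AtPrime q
  let k := S ⧸ P
  let M := Algebra.algebraMapSubmonoid k q.primeCompl
  have hM : M ≤ nonZeroDivisors k := by
    rintro _ ⟨s, hs, rfl⟩
    refine mem_nonZeroDivisors_of_ne_zero fun h => hs (hpq ?_)
    exact Ideal.mem_comap.mpr (Ideal.Quotient.eq_zero_iff_mem.mp (show Ideal.Quotient.mk P (algebraMap R S s) = 0 from h))
  let C := Localization M
  haveI : IsDomain C := IsLocalization.isDomain_localization hM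
  let j : S →+* C := (algebraMap k C).comp (Ideal.Quotient.mk P)
  have hju : ∀ s : q.primeCompl, IsUnit (j.comp (algebraMap R S) s) := fun s =>
    IsLocalization.map_units C (⟨algebraMap R k s, ⟨s, s.2, rfl⟩⟩ : M)
  let ψ : Rq →+* C := IsLocalization.lift (M := q.primeCompl) hju
  let V := Rq ⧸ RingHom.ker ψ
  haveI : (RingHom.ker ψ).IsPrime := RingHom.ker_isPrime ψ
  haveI : ValuationRing V := Function.Surjective.valuationRing (Ideal.Quotient.mk (RingHom.ker ψ)) Ideal.Quotient.mk_surjective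
  letI : Algebra V C := (RingHom.kerLift ψ).toAlgebra
  have hinj : Function.Injective (algebraMap V C) := RingHom.kerLift_injective ψ
  let ι : R →+* V := (Ideal.Quotient.mk (RingHom.ker ψ)).comp (algebraMap R Rq)
  have hc : ∀ a, j (algebraMap R S a) = algebraMap V C (ι a) := fun a => (IsLocalization.lift_eq hju a).symm
  have hu : ∀ s : R, s ∉ q → IsUnit (ι s) := fun s hs =>
    RingHom.isUnit_map (Ideal.Quotient.mk (RingHom.ker ψ)) (IsLocalization.map_units Rq (⟨s, hs⟩ : q.primeCompl))
  have hA : ∀ a', ∃ a s, IsUnit (ι s) ∧ a' * ι s = ι a := fun a' => by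
    obtain ⟨a', rfl⟩ := Ideal.Quotient.mk_surjective a'
    obtain ⟨⟨a, s⟩, h⟩ := IsLocalization.surj q.primeCompl a'
    exact ⟨a, s.1, hu _ s.2, by simp only [ι, RingHom.comp_apply, ← map_mul, h]⟩
  have hB : ∀ b', ∃ b s, IsUnit (ι s) ∧ b' * j (algebraMap R S s) = j b := fun b' => by
    obtain ⟨⟨b, ⟨_, s, hs, rfl⟩⟩, h⟩ := IsLocalization.surj M b'
    obtain ⟨b, rfl⟩ := Ideal.Quotient.mk_surjective b
    exact ⟨b, s, hu s hs, h⟩
  haveI : Algebra.FiniteType V C := by
    obtain ⟨T, hT⟩ := ‹Algebra.FiniteType R S›.out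
    refine ⟨⟨T.image j, Algebra.eq_top_iff.mpr fun z => ?_⟩⟩
    obtain ⟨b, s, hs, hb⟩ := hB z
    have hjb : ∀ b : S, j b ∈ Algebra.adjoin V ((T.image j : Finset C) : Set C) := fun b => by
      have hb : b ∈ Algebra.adjoin R (T : Set S) := hT ▸ Algebra.mem_top
      induction hb using Algebra.adjoin_induction with
      | mem x hx => exact Algebra.subset_adjoin (Finset.mem_coe.mpr (Finset.mem_image_of_mem j hx))
      | algebraMap r => rw [hc]; exact Subalgebra.algebraMap_mem _ _
      | add x y _ _ hx hy => rw [map_add]; exact Subalgebra.add_mem _ hx hy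
      | mul x y _ _ hx hy => rw [map_mul]; exact Subalgebra.mul_mem _ hx hy
    obtain ⟨u, hu'⟩ := hs
    have : z = algebraMap V C ↑u⁻¹ * j b := by
      rw [← hb, hc, ← hu', mul_left_comm, ← map_mul, Units.inv_mul, map_one, mul_one]
    rw [this]
    exact Subalgebra.mul_mem _ (Subalgebra.algebraMap_mem _ _) (hjb b)
  have hfd : ∀ (X : Ideal C) [X.IsPrime], fd V X = fd R (X.comap j) := fun X _ => fd_eq ι j hc hA hB X
  have hcomap_lt : ∀ X Y : Ideal C, X < Y → X.comap j < Y.comap j := fun X Y hXY => by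
    refine lt_of_le_of_ne (Ideal.comap_mono hXY.le) fun h => hXY.ne (le_antisymm hXY.le fun z hz => ?_)
    obtain ⟨b, s, hs, hb⟩ := hB z
    have hjs : IsUnit (j (algebraMap R S s)) := by rw [hc]; exact hs.map _
    rw [← Ideal.mul_unit_mem_iff_mem X hjs, hb, ← Ideal.mem_comap, h, Ideal.mem_comap, ← hb]
    exact Y.mul_mem_right _ hz
  -- the two points
  have hP : (⊥ : Ideal C).comap j = P := by
    show ((⊥ : Ideal C).comap (algebraMap k C)).comap (Ideal.Quotient.mk P) = P
    rw [← RingHom.ker_eq_comap_bot, (RingHom.injective_iff_ker_eq_bot _).mp (IsLocalization.injective C hM),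
      ← RingHom.ker_eq_comap_bot, Ideal.mk_ker]
  let Qk := Q.map (Ideal.Quotient.mk P)
  have hQk : Qk.comap (Ideal.Quotient.mk P) = Q := by
    rw [Ideal.comap_map_of_surjective _ Ideal.Quotient.mk_surjective, ← RingHom.ker_eq_comap_bot, Ideal.mk_ker]
    exact sup_eq_left.mpr hPQ.le
  haveI : Qk.IsPrime := Ideal.map_isPrime_of_surjective Ideal.Quotient.mk_surjective (Ideal.mk_ker.trans_le hPQ.le)
  have hdisj : Disjoint (M : Set k) (Qk : Set k) := Set.disjoint_left.mpr fun x hx hxQ => by
    obtain ⟨s, hs, rfl⟩ := hx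
    exact hs (show algebraMap R S s ∈ Q from hQk.le (show Ideal.Quotient.mk P (algebraMap R S s) ∈ Qk from hxQ))
  let Q' := Qk.map (algebraMap k C)
  haveI : Q'.IsPrime := IsLocalization.isPrime_of_isPrime_disjoint M C Qk ‹_› hdisj
  have hQ : Q'.comap j = Q := by
    show (Q'.comap (algebraMap k C)).comap (Ideal.Quotient.mk P) = Q
    rw [show Q'.comap (algebraMap k C) = Qk from IsLocalization.comap_map_of_isPrime_disjoint M C ‹Qk.IsPrime› hdisj, hQk]
  have hQ0 : (⊥ : Ideal C) < Q' := bot_lt_iff_ne_bot.mpr fun h => hPQ.ne (by rw [← hP, ← hQ, h])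
  have hunder : ∀ (X : Ideal C) (a : R), ι a ∈ X.under V ↔ a ∈ (X.comap j).under R := fun X a => by
    simp [Ideal.mem_comap, hc]
  have hQV : Q'.under V = IsLocalRing.maximalIdeal V := by
    refine le_antisymm (IsLocalRing.le_maximalIdeal Ideal.IsPrime.ne_top') fun v hv => ?_
    obtain ⟨a, s, hs, h⟩ := hA v
    rw [← Ideal.mul_unit_mem_iff_mem _ hs, h, hunder, hQ]
    by_contra ha
    exact hv (isUnit_of_mul_isUnit_left (h ▸ hu a ha))
  -- fibre over the closed point
  have hmin : ∃ (w : Ideal C) (_ : w.IsPrime), w ≤ Q' ∧ w.under V = IsLocalRing.maximalIdeal V ∧ fd V w = fd V (⊥ : Ideal C) := by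
    have hle : (IsLocalRing.maximalIdeal V).map (algebraMap V C) ≤ Q' := by
      rw [Ideal.map_le_iff_le_comap, ← hQV]
    obtain ⟨w, hw, hwQ⟩ := Ideal.exists_minimalPrimes_le hle
    haveI : w.IsPrime := hw.1.1
    have hwV : w.under V = IsLocalRing.maximalIdeal V := le_antisymm
      (IsLocalRing.le_maximalIdeal Ideal.IsPrime.ne_top') (Ideal.map_le_iff_le_comap.mp hw.1.2)
    refine ⟨w, inferInstance, hwQ, hwV, FlatB12.fd_eq_of_minimal hinj ⟨w, inferInstance⟩ fun w' hw' he => ?_⟩
    exact PrimeSpectrum.ext (le_antisymm hw' (hw.2 ⟨w'.isPrime, Ideal.map_le_iff_le_comap.mpr ((he.trans hwV).ge)⟩ hw'))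
  obtain ⟨w, hwp, hwQ, hwV, hwfd⟩ := hmin
  haveI := hwp
  have hQw : fd V Q' ≤ fd V (⊥ : Ideal C) ∧ (fd V Q' = fd V (⊥ : Ideal C) ∨ w < Q') := by
    rcases eq_or_lt_of_le hwQ with h | h
    · subst h; exact ⟨hwfd.le, Or.inl hwfd⟩
    · have := FlatB12.fd_lt_of_lt (A := V) (q := ⟨w, inferInstance⟩) (r := ⟨Q', inferInstance⟩) h.le
        (fun e => h.ne (congrArg PrimeSpectrum.asIdeal e)) (hwV.trans hQV.symm)
      exact ⟨(this.trans_eq hwfd).le, Or.inr h⟩
  have e1 : fd V Q' = fd R Q := by rw [hfd Q']; congr 1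
  have e2 : fd V (⊥ : Ideal C) = fd R P := by rw [hfd ⊥]; congr 1
  have hbotV : (⊥ : Ideal C).under V = ⊥ := (RingHom.ker_eq_comap_bot _).symm.trans ((RingHom.injective_iff_ker_eq_bot _).mp hinj)
  have hfield : P.under R = q → ∀ (X : Ideal C), X.IsPrime → X ≤ Q' → X.under V = IsLocalRing.maximalIdeal V := by
    intro he X hX hXQ
    refine le_antisymm (IsLocalRing.le_maximalIdeal Ideal.IsPrime.ne_top') fun v hv => ?_
    obtain ⟨a, s, hs, h⟩ := hA v
    rw [← hQV, ← Ideal.mul_unit_mem_iff_mem _ hs, h, hunder, hQ] at hv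
    rw [← Ideal.mul_unit_mem_iff_mem _ hs, h, hunder]
    have : a ∈ P.under R := he.symm ▸ hv
    rw [← hP] at this
    exact Ideal.comap_mono (f := j) (bot_le : ⊥ ≤ X) this
  have hstrict : P.under R = q → fd R Q < fd R P := fun he => by
    rw [← e1, ← e2]
    exact FlatB12.fd_lt_of_lt (A := V) (q := ⟨⊥, Ideal.isPrime_bot⟩) (r := ⟨Q', inferInstance⟩) bot_le
      (fun e => hQ0.ne (congrArg PrimeSpectrum.asIdeal e))
      ((hfield he ⊥ Ideal.isPrime_bot bot_le).trans hQV.symm)
  refine ⟨e1 ▸ e2 ▸ hQw.1, hstrict, fun h2 h3 => ?_⟩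
  suffices ∃ X : Ideal C, X.IsPrime ∧ ⊥ < X ∧ X < Q' by
    obtain ⟨X, hX, h1, h2⟩ := this
    exact ⟨X.comap j, inferInstance, (congrArg (· < X.comap j) hP).mp (hcomap_lt _ _ h1),
      (congrArg (X.comap j < ·) hQ).mp (hcomap_lt _ _ h2)⟩
  by_cases he : P.under R = q
  · have hgap := h2 he
    rw [← e1, ← e2] at hgap
    have hle := FlatB12.fd_le_fd_add_fb (A := V) (η := ⟨⊥, Ideal.isPrime_bot⟩) (Q := ⟨Q', inferInstance⟩) bot_le
    have hfb := FlatB12.ringKrullDim_fibre_atPrime (A := V) (⟨Q', inferInstance⟩ : PrimeSpectrum C)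
    have h0 : Q'.under V = ⊥ := by rw [hQV, ← hfield he ⊥ Ideal.isPrime_bot bot_le, hbotV]
    have h0' : (Q'.under V).map (algebraMap V (Localization.AtPrime Q')) = ⊥ := by rw [h0, Ideal.map_bot]
    have h0'' := dim_quot_bot (L := Localization.AtPrime Q') _ h0'
    rw [h0'', IsLocalization.AtPrime.ringKrullDim_eq_height Q' (Localization.AtPrime Q')] at hfb
    have hfb' : Q'.height = ((DimFormula.fb (AlgebraicGeometry.Spec.map (CommRingCat.ofHom (algebraMap V C))) (⟨Q', inferInstance⟩ : PrimeSpectrum C) : ℕ∞)) :=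
      WithBot.coe_eq_coe.mp hfb
    have hh : ((2 : ℕ) : ℕ∞) ≤ Order.height (⟨Q', inferInstance⟩ : PrimeSpectrum C) := by
      rw [← PrimeSpectrum.height_eq_orderHeight, hfb']
      exact_mod_cast (by simp only at hle; omega)
    obtain ⟨l, hl, hlen⟩ := Order.exists_series_of_le_height _ hh
    refine ⟨(l.toFun ⟨1, by omega⟩).asIdeal, inferInstance, ?_, ?_⟩
    · refine lt_of_le_of_lt bot_le (l.strictMono (a := ⟨0, by omega⟩) (b := ⟨1, by omega⟩) (Fin.mk_lt_mk.mpr Nat.one_pos))
    · have : l.toFun ⟨1, by omega⟩ < l.last := l.strictMono (by simp [Fin.lt_def, hlen])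
      rw [hl] at this
      exact this
  · rcases h3 he with hlt | ⟨r, hr, hpr, hrq⟩
    · rw [← e1, ← e2] at hlt
      rcases hQw.2 with h | h
      · omega
      · refine ⟨w, hwp, bot_lt_iff_ne_bot.mpr fun hw0 => he (le_antisymm hpq fun a ha => ?_), h⟩
        have ha' : ι a ∈ Q'.under V := (hunder _ a).mpr (hQ.symm ▸ ha)
        rw [hQV, ← hwV, hunder] at ha'
        subst hw0
        rwa [hP] at ha'
    · -- a prime of `V` over `r`
      have hker : RingHom.ker ψ ≤ r.map (algebraMap R Rq) := fun x hx => by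
        obtain ⟨⟨a, s⟩, h⟩ := IsLocalization.surj q.primeCompl x
        rw [← Ideal.mul_unit_mem_iff_mem _ (IsLocalization.map_units Rq s), h]
        refine Ideal.mem_map_of_mem _ (hpr.le ?_)
        rw [← hP, ← hunder]
        show algebraMap V C (ι a) ∈ (⊥ : Ideal C)
        rw [Ideal.mem_bot]
        show ψ (algebraMap R Rq a) = 0
        rw [← h, map_mul, RingHom.mem_ker.mp hx, zero_mul]
      have hrd : Disjoint (q.primeCompl : Set R) (r : Set R) := Set.disjoint_left.mpr fun x hx hxr => hx (hrq.le hxr)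
      haveI : (r.map (algebraMap R Rq)).IsPrime := IsLocalization.isPrime_of_isPrime_disjoint q.primeCompl Rq r hr hrd
      let r' := (r.map (algebraMap R Rq)).map (Ideal.Quotient.mk (RingHom.ker ψ))
      haveI : r'.IsPrime := Ideal.map_isPrime_of_surjective Ideal.Quotient.mk_surjective (Ideal.mk_ker.trans_le hker)
      have hr' : ∀ a, ι a ∈ r' ↔ a ∈ r := fun a => by
        show Ideal.Quotient.mk _ _ ∈ r' ↔ _
        rw [← Ideal.mem_comap, Ideal.comap_map_of_surjective _ Ideal.Quotient.mk_surjective, ← RingHom.ker_eq_comap_bot,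
          Ideal.mk_ker, sup_eq_left.mpr hker, ← Ideal.mem_comap,
          show (r.map (algebraMap R Rq)).comap (algebraMap R Rq) = r from IsLocalization.comap_map_of_isPrime_disjoint q.primeCompl Rq hr hrd]
      haveI : Module.Flat V C := by
        rw [Module.Flat.flat_iff_torsion_eq_bot_of_isBezout, eq_bot_iff]
        rintro x ⟨⟨c, hc'⟩, hcx⟩
        rw [Submonoid.smul_def, Algebra.smul_def, mul_eq_zero] at hcx
        exact hcx.resolve_left fun h => nonZeroDivisors.ne_zero hc' (hinj (h.trans (map_zero _).symm))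
      haveI : Q'.LiesOver (IsLocalRing.maximalIdeal V) := ⟨hQV.symm⟩
      obtain ⟨X, hXQ, hX, hXr⟩ := Ideal.exists_ideal_le_liesOver_of_le (p := r') (q := IsLocalRing.maximalIdeal V) Q'
        (IsLocalRing.le_maximalIdeal Ideal.IsPrime.ne_top')
      refine ⟨X, hX, bot_lt_iff_ne_bot.mpr fun h0 => ?_, lt_of_le_of_ne hXQ fun h0 => ?_⟩
      · obtain ⟨a, har, hap⟩ := SetLike.exists_of_lt hpr
        have : ι a ∈ X.under V := hXr.over ▸ (hr' a).mpr har
        rw [hunder] at this
        subst h0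
        rw [hP] at this
        exact hap this
      · obtain ⟨a, haq, har⟩ := SetLike.exists_of_lt hrq
        have : ι a ∈ X.under V := (hunder _ a).mpr (by rw [h0, hQ]; exact haq)
        rw [← hXr.over] at this
        exact har ((hr' a).mp this)

variable (hdim : ringKrullDim R < ⊤)
include hdim

omit [Algebra R S] [Algebra.FiniteType R S] hR in
theorem height_ne_top (p : Ideal R) [p.IsPrime] : p.height ≠ ⊤ := fun h => by
  have := (Ideal.height_le_ringKrullDim_of_isPrime (I := p)).trans_lt hdim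
  rw [h] at this
  exact lt_irrefl _ this

omit [Algebra R S] [Algebra.FiniteType R S] hR in
theorem height_lt (p q : Ideal R) [p.IsPrime] [q.IsPrime] (h : p < q) : p.height.toNat < q.height.toNat := by
  haveI : p.FiniteHeight := (Ideal.finiteHeight_iff _).mpr (Or.inr (height_ne_top hdim p))
  have := Ideal.height_strict_mono_of_isPrime h
  obtain ⟨a, ha⟩ := ENat.ne_top_iff_exists.mp (height_ne_top hdim p)
  obtain ⟨b, hb⟩ := ENat.ne_top_iff_exists.mp (height_ne_top hdim q)
  rw [← ha, ← hb] at this ⊢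
  simpa using this

/-- Strict decrease. -/
theorem delta_lt (P Q : Ideal S) [P.IsPrime] [Q.IsPrime] (hPQ : P < Q) : delta R Q < delta R P := by
  obtain ⟨h1, h2, -⟩ := core hR P Q hPQ
  have hle : P.under R ≤ Q.under R := Ideal.comap_mono (f := algebraMap R S) hPQ.le
  rcases eq_or_lt_of_le hle with he | hlt
  · have := h2 he
    unfold delta
    simp only [he]
    omega
  · have := height_lt hdim (P.under R) (Q.under R) hlt
    unfold delta
    omega

/-- Covering relation. -/
theorem covBy_iff (P Q : Ideal S) [P.IsPrime] [Q.IsPrime] (hPQ : P < Q) :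
    ((⟨P, inferInstance⟩ : PrimeSpectrum S) ⋖ ⟨Q, inferInstance⟩) ↔ delta R P = delta R Q + 1 := by
  obtain ⟨h1, h2, h3⟩ := core hR P Q hPQ
  constructor
  · intro hcov
    have hno : ¬ ∃ X : Ideal S, X.IsPrime ∧ P < X ∧ X < Q := fun ⟨X, hX, hPX, hXQ⟩ => hcov.2 (c := ⟨X, hX⟩) hPX hXQ
    have hle : P.under R ≤ Q.under R := Ideal.comap_mono (f := algebraMap R S) hPQ.le
    rcases eq_or_lt_of_le hle with he | hlt
    · have hlt' := h2 he
      have hgap : ¬ fd R Q + 2 ≤ fd R P := fun h => hno (h3 (fun _ => h) (fun hne => absurd he hne))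
      unfold delta
      simp only [he]
      omega
    · have hfdeq : ¬ fd R Q < fd R P := fun h => hno (h3 (fun he => absurd he hlt.ne) fun _ => Or.inl h)
      have hnor : ¬ ∃ r : Ideal R, r.IsPrime ∧ P.under R < r ∧ r < Q.under R := fun h =>
        hno (h3 (fun he => absurd he hlt.ne) fun _ => Or.inr h)
      have hht : (Q.under R).height.toNat ≤ (P.under R).height.toNat + 1 := by
        refine ENat.toNat_le_of_le_natCast ?_
        rw [PrimeSpectrum.height_eq_orderHeight ⟨Q.under R, inferInstance⟩, Order.height_le_coe_iff]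
        intro r hr
        have hrle : r.asIdeal ≤ P.under R := by
          rcases le_total_of_le hR (a := r.asIdeal) (b := P.under R) (q := Q.under R) (le_of_lt hr) hlt.le with h | h
          · exact h
          · rcases eq_or_lt_of_le h with h | h
            · exact h.ge
            · exact absurd ⟨r.asIdeal, r.isPrime, h, hr⟩ hnor
        rw [← PrimeSpectrum.height_eq_orderHeight]
        refine lt_of_le_of_lt (Ideal.height_mono hrle) ?_
        conv_lhs => rw [← ENat.natCast_toNat (height_ne_top hdim (P.under R))]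
        exact_mod_cast Nat.lt_succ_self _
      have := height_lt hdim _ _ hlt
      unfold delta
      omega
  · intro heq
    refine ⟨hPQ, fun X hPX hXQ => ?_⟩
    have a1 := delta_lt hR hdim P X.asIdeal hPX
    have a2 := delta_lt hR hdim X.asIdeal Q hXQ
    omega

end Main

end Groth.Agent.CA2H40.PruferDim
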