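import Mathlib
import Groth.Agent.FlatMisc.ValuationFP

/-! Flatness and finite presentation over semi-valuation rings. -/

set_option autoImplicit false
set_option linter.style.haveILetI false

universe u

open TensorProduct IsLocalRing

namespace Groth.Agent.CA2H40.SemiVal

variable {A : Type u} [CommRing A] [IsLocalRing A] {R : ValuationSubring (ResidueField A)} {O : Subring A}
  (hO : O = R.toSubring.comap (residue A))
include hO

theorem mem_O_iff (a : A) : a ∈ O ↔ residue A a ∈ R := by subst hO; rfl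

theorem mem_of_mem_max {a : A} (h : a ∈ maximalIdeal A) : a ∈ O := by
  rw [mem_O_iff hO, residue_eq_zero_iff a |>.2 h]
  exact zero_mem _

theorem unit_total (a : Aˣ) : (a : A) ∈ O ∨ ((a⁻¹ : Aˣ) : A) ∈ O := by
  rcases R.mem_or_inv_mem (residue A a) with h | h
  · exact Or.inl ((mem_O_iff hO _).2 h)
  · refine Or.inr ((mem_O_iff hO _).2 ?_)
    rw [map_units_inv]
    exact h

theorem exists_num_den (a : A) : ∃ o s : O, IsUnit (s : A) ∧ a * s = o := by
  by_cases h : a ∈ O
  · exact ⟨⟨a, h⟩, 1, isUnit_one, mul_one a⟩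
  · obtain ⟨u, rfl⟩ : IsUnit a := by
      by_contra hu
      exact h (mem_of_mem_max hO ((mem_maximalIdeal _).2 hu))
    exact ⟨1, ⟨_, (unit_total hO u).resolve_left h⟩, u⁻¹.isUnit, u.mul_inv⟩

theorem exists_max {n : ℕ} (a : Fin n → O) {k : Fin n} (hk : IsUnit (a k : A)) :
    ∃ (b : Fin n → O) (l : Fin n), b l = 1 ∧ ∀ i, (a i : A) = a l * b i := by
  classical
  suffices ∀ s : Finset (Fin n), ∃ l, IsUnit (a l : A) ∧ ∀ i ∈ s, ∃ b : O, (a i : A) = a l * b by
    obtain ⟨l, hl, h⟩ := this Finset.univ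
    choose b hb using fun i => h i (Finset.mem_univ i)
    exact ⟨b, l, Subtype.ext (hl.mul_left_cancel ((hb l).symm.trans (mul_one _).symm)), hb⟩
  intro s
  induction s using Finset.induction with
  | empty => exact ⟨k, hk, fun i hi => absurd hi (Finset.notMem_empty i)⟩
  | insert j s hj ih =>
    obtain ⟨l, hl, h⟩ := ih
    obtain ⟨u, hu⟩ := hl
    by_cases hjm : IsUnit (a j : A)
    · obtain ⟨v, hv⟩ := hjm
      rcases unit_total hO (u⁻¹ * v) with hb | hb
      · refine ⟨l, hu ▸ u.isUnit, fun i hi => ?_⟩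
        rcases Finset.mem_insert.1 hi with rfl | hi
        · exact ⟨⟨_, hb⟩, by simp [← hu, ← hv]⟩
        · exact h i hi
      · refine ⟨j, hv ▸ v.isUnit, fun i hi => ?_⟩
        rcases Finset.mem_insert.1 hi with rfl | hi
        · exact ⟨1, (mul_one _).symm⟩
        · obtain ⟨b, hb'⟩ := h i hi
          exact ⟨⟨_, hb⟩ * b, by rw [hb', ← hu, ← hv, Subring.coe_mul]; simp [← mul_assoc]⟩
    · refine ⟨l, hu ▸ u.isUnit, fun i hi => ?_⟩
      rcases Finset.mem_insert.1 hi with rfl | hi
      · refine ⟨⟨(u⁻¹ : Aˣ) * a i, mem_of_mem_max hO (Ideal.mul_mem_left _ _ ((mem_maximalIdeal _).2 hjm))⟩, ?_⟩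
        rw [← hu]
        exact (u.mul_inv_cancel_left _).symm
      · exact h i hi

section Alg

variable {C : Type u} [CommRing C] [Algebra ↥O C]

omit [IsLocalRing A] hO in
theorem incl_smul (o : O) (c : C) :
    (1 : A) ⊗ₜ[↥O] (o • c) = (o : A) • ((1 : A) ⊗ₜ[↥O] c) := by
  rw [← TensorProduct.smul_tmul, TensorProduct.smul_tmul', Subring.smul_def]

omit [IsLocalRing A] hO in
theorem smul_cancel (hadm : Function.Injective (Algebra.TensorProduct.includeRight : C →ₐ[↥O] A ⊗[↥O] C))
    {s : O} (hs : IsUnit (s : A)) {c : C} (h : s • c = 0) : c = 0 := by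
  have h1 : (s : A) • ((1 : A) ⊗ₜ[↥O] c) = 0 := by rw [← incl_smul, h, tmul_zero]
  exact hadm ((hs.smul_eq_zero.1 h1).trans (map_zero (Algebra.TensorProduct.includeRight : C →ₐ[↥O] A ⊗[↥O] C)).symm)

theorem exists_clear (z : A ⊗[↥O] C) :
    ∃ (s : O) (c : C), IsUnit (s : A) ∧ (s : A) • z = (1 : A) ⊗ₜ c := by
  induction z using TensorProduct.induction_on with
  | zero => exact ⟨1, 0, isUnit_one, by simp⟩
  | tmul a c =>
    obtain ⟨o, s, hs, h⟩ := exists_num_den hO a
    exact ⟨s, o • c, hs, by rw [TensorProduct.smul_tmul', smul_eq_mul, mul_comm, h, incl_smul, TensorProduct.smul_tmul', smul_eq_mul, mul_one]⟩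
  | add x y hx hy =>
    obtain ⟨s, c, hs, hc⟩ := hx
    obtain ⟨t, d, ht, hd⟩ := hy
    refine ⟨s * t, t • c + s • d, hs.mul ht, ?_⟩
    rw [tmul_add, incl_smul, incl_smul, ← hc, ← hd, smul_add, smul_smul, smul_smul, Subring.coe_mul,
      mul_comm (t : A) (s : A)]

theorem flat (hadm : Function.Injective (Algebra.TensorProduct.includeRight : C →ₐ[↥O] A ⊗[↥O] C))
    (hflat : Module.Flat A (A ⊗[↥O] C)) : Module.Flat ↥O C := by
  classical
  rw [Module.Flat.iff_forall_isTrivialRelation]
  intro n f x hfx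
  suffices ∀ S : Finset (Fin n), ∀ x : Fin n → C, (∀ i ∉ S, x i = 0) → ∑ i, f i • x i = 0 →
      Module.IsTrivialRelation f x from this Finset.univ x (fun i hi => absurd (Finset.mem_univ i) hi) hfx
  clear hfx x
  intro S
  induction S using Finset.strongInduction with
  | H S ih =>
  intro x hx hfx
  by_cases hrel : ∃ a : Fin n → O, (∀ i ∉ S, a i = 0) ∧ ∑ i, f i * a i = 0 ∧ ∃ k, IsUnit (a k : A)
  · obtain ⟨a, haS, ha, k, hk⟩ := hrel
    obtain ⟨b, l, hbl, hb⟩ := exists_max hO a hk
    have hal : IsUnit (a l : A) := isUnit_of_mul_isUnit_left (hb k ▸ hk)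
    have hbS : ∀ i ∉ S, b i = 0 := fun i hi => by
      have := hb i
      rw [haS i hi, ZeroMemClass.coe_zero] at this
      exact Subtype.ext (hal.mul_right_eq_zero.1 this.symm)
    have hlS : l ∈ S := by
      by_contra h
      exact hal.ne_zero (by rw [haS l h, ZeroMemClass.coe_zero])
    have hfb : ∑ i, f i * b i = 0 := by
      refine Subtype.ext (hal.mul_right_eq_zero.1 ?_)
      have h0 := congrArg Subtype.val ha
      simp only [AddSubmonoidClass.coe_finsetSum, Subring.coe_mul, ZeroMemClass.coe_zero] at h0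
      rw [Finset.sum_congr rfl (fun i _ => congrArg ((f i : A) * ·) (hb i))] at h0
      simp only [AddSubmonoidClass.coe_finsetSum, Subring.coe_mul, Finset.mul_sum]
      rw [← h0]
      exact Finset.sum_congr rfl fun i _ => by ring
    obtain ⟨m, a', y, h1, h2⟩ := ih (S.erase l) (Finset.erase_ssubset hlS) (fun i => x i - b i • x l)
      (fun i hi => by
        by_cases h : i = l
        · subst h; simp [hbl]
        · have : i ∉ S := fun hiS => hi (Finset.mem_erase.2 ⟨h, hiS⟩)
          simp [hbS i this, hx i this])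
      (by
        rw [Finset.sum_congr rfl (fun i _ => (smul_sub (f i) (x i) (b i • x l)).trans (by rw [smul_smul])),
          Finset.sum_sub_distrib, hfx, ← Finset.sum_smul, hfb, zero_smul, sub_zero])
    refine ⟨m + 1, fun i => Fin.cons (b i) (a' i), Fin.cons (x l) y, fun i => ?_, fun j => ?_⟩
    · rw [Fin.sum_univ_succ]
      simp only [Fin.cons_zero, Fin.cons_succ, ← h1]
      abel
    · induction j using Fin.cases with
      | zero => simpa using hfb
      | succ j => simpa using h2 j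
  · let ι := (Algebra.TensorProduct.includeRight : C →ₐ[↥O] A ⊗[↥O] C)
    let f' : Fin n → A := fun i => if i ∈ S then (f i : A) else 0
    have hrelA : ∑ i, f' i • ι (x i) = 0 := by
      rw [← map_zero ι, ← hfx, map_sum]
      refine Finset.sum_congr rfl fun i _ => ?_
      by_cases h : i ∈ S
      · simp only [f', if_pos h]
        exact (incl_smul _ _).symm
      · simp [hx i h]
    obtain ⟨m, a, y, h1, h2⟩ := Module.Flat.isTrivialRelation_of_sum_smul_eq_zero (M := A ⊗[↥O] C) hrelA
    let a' : Fin n → Fin m → A := fun i j => if i ∈ S then a i j else 0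
    have hm : ∀ i j, a' i j ∈ maximalIdeal A := by
      intro i j
      by_contra hu
      choose o s hs ho using fun i => exists_num_den hO (a' i j)
      let σ : Fin n → O := fun i => o i * ∏ i' ∈ Finset.univ.erase i, s i'
      have hσ : ∀ i, (σ i : A) = a' i j * ∏ i', (s i' : A) := fun i => by
        simp only [σ, Subring.coe_mul, SubmonoidClass.coe_finset_prod, ← ho]
        rw [mul_assoc, Finset.mul_prod_erase Finset.univ (fun i' => (s i' : A)) (Finset.mem_univ i)]
      refine hrel ⟨σ, fun i hi => Subtype.ext ?_, Subtype.ext ?_, i, ?_⟩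
      · rw [hσ, show a' i j = 0 from if_neg hi, zero_mul, ZeroMemClass.coe_zero]
      · simp only [AddSubmonoidClass.coe_finsetSum, Subring.coe_mul, hσ, ZeroMemClass.coe_zero, ← mul_assoc,
          ← Finset.sum_mul]
        rw [show ∑ i, (f i : A) * a' i j = 0 from ?_, zero_mul]
        rw [← h2 j]
        refine Finset.sum_congr rfl fun i _ => ?_
        by_cases h : i ∈ S <;> simp [f', a', h]
      · rw [hσ]
        refine IsUnit.mul ?_ (IsUnit.prod_iff.2 fun i' _ => hs i')
        by_contra h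
        exact hu ((mem_maximalIdeal _).2 h)
    choose s z hs hz using fun j => exists_clear hO (y j)
    refine ⟨m, fun i j => ⟨a' i j * ((hs j).unit⁻¹ : Aˣ), mem_of_mem_max hO (Ideal.mul_mem_right _ _ (hm i j))⟩, z,
      fun i => hadm ?_, fun j => Subtype.ext ?_⟩
    · show ι (x i) = ι _
      by_cases h : i ∈ S
      · rw [show ι (x i) = ∑ j, a i j • y j from h1 i, map_sum]
        refine Finset.sum_congr rfl fun j _ => ?_
        show a i j • y j = (1 : A) ⊗ₜ[↥O] (_ • z j)
        rw [incl_smul, ← hz, smul_smul]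
        simp [a', h, mul_assoc]
      · simp [hx i h, a', h]
        exact (Finset.sum_eq_zero fun j _ => zero_smul _ _).symm
    · simp only [AddSubmonoidClass.coe_finsetSum, Subring.coe_mul, ZeroMemClass.coe_zero, ← mul_assoc,
        ← Finset.sum_mul]
      rw [show ∑ i, (f i : A) * a' i j = 0 from ?_, zero_mul]
      rw [← h2 j]
      refine Finset.sum_congr rfl fun i _ => ?_
      by_cases h : i ∈ S <;> simp [f', a', h]

theorem finitePresentation [Algebra.FiniteType ↥O C]
    (hadm : Function.Injective (Algebra.TensorProduct.includeRight : C →ₐ[↥O] A ⊗[↥O] C))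
    (hflat : Module.Flat A (A ⊗[↥O] C)) (hfp : Algebra.FinitePresentation A (A ⊗[↥O] C)) :
    Algebra.FinitePresentation ↥O C := by
  classical
  obtain ⟨N, φ, hφ⟩ := Algebra.FiniteType.iff_quotient_mvPolynomial''.1 ‹Algebra.FiniteType ↥O C›
  refine Algebra.FinitePresentation.of_surjective hφ ?_
  let ι := (Algebra.TensorProduct.includeRight : C →ₐ[↥O] A ⊗[↥O] C)
  let φA : MvPolynomial (Fin N) A →ₐ[A] A ⊗[↥O] C := MvPolynomial.aeval fun i => ι (φ (MvPolynomial.X i))
  let μ : MvPolynomial (Fin N) O →+* MvPolynomial (Fin N) A := MvPolynomial.map O.subtype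
  have hμ : Function.Injective μ := MvPolynomial.map_injective _ Subtype.val_injective
  have key : ∀ G, φA (μ G) = ι (φ G) := fun G => by
    induction G using MvPolynomial.induction_on with
    | C a =>
      simp only [μ, φA, MvPolynomial.map_C, MvPolynomial.aeval_C]
      rw [← MvPolynomial.algebraMap_eq, φ.commutes, ι.commutes]
      rfl
    | add p q hp hq => simp only [map_add, hp, hq]
    | mul_X p i hp => simp only [map_mul, hp, μ, φA, MvPolynomial.map_X, MvPolynomial.aeval_X]
  have hφA : Function.Surjective φA := fun z => by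
    obtain ⟨s, c, hs, h⟩ := exists_clear hO z
    obtain ⟨G, rfl⟩ := hφ c
    refine ⟨((hs.unit⁻¹ : Aˣ) : A) • μ G, ?_⟩
    rw [map_smul, key]
    show _ • ((1 : A) ⊗ₜ[↥O] φ G) = z
    rw [← h, smul_smul, hs.val_inv_mul, one_smul]
  obtain ⟨t, ht⟩ := Algebra.FinitePresentation.ker_fG_of_surjective φA hφA
  have hsc : ∀ G' : MvPolynomial (Fin N) A, ∃ (s : A) (G : MvPolynomial (Fin N) O),
      IsUnit s ∧ MvPolynomial.C s * G' = μ G := fun G' => by
    induction G' using MvPolynomial.induction_on with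
    | C a =>
      obtain ⟨o, s, hs, h⟩ := exists_num_den hO a
      exact ⟨s, MvPolynomial.C o, hs, by simp [μ, ← map_mul, mul_comm, h]⟩
    | add p q hp hq =>
      obtain ⟨s, G, hs, hG⟩ := hp; obtain ⟨t, H, ht, hH⟩ := hq
      obtain ⟨o1, s1, hs1, h1⟩ := exists_num_den hO s
      obtain ⟨o2, s2, hs2, h2⟩ := exists_num_den hO t
      refine ⟨(o1 : A) * o2, MvPolynomial.C (s1 * o2) * G + MvPolynomial.C (o1 * s2) * H,
        (h1 ▸ hs.mul hs1).mul (h2 ▸ ht.mul hs2), ?_⟩
      have hμC : ∀ o : O, μ (MvPolynomial.C o) = MvPolynomial.C (o : A) := fun o => MvPolynomial.map_C _ _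
      simp only [map_add, map_mul, hμC, Subring.coe_mul]
      rw [← hG, ← hH, ← h1, ← h2]
      simp only [map_mul]
      ring
    | mul_X p i hp =>
      obtain ⟨s, G, hs, hG⟩ := hp
      exact ⟨s, G * MvPolynomial.X i, hs, by rw [map_mul, ← hG, mul_assoc]; simp [μ]⟩
  choose sc g hsu hg using hsc
  let J0 : Ideal (MvPolynomial (Fin N) O) := Ideal.span (g '' (t : Set _))
  have hJ0 : J0.FG := ⟨t.image g, by rw [Finset.coe_image]⟩
  have hJ0J : J0 ≤ RingHom.ker φ.toRingHom := by
    rw [Ideal.span_le]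
    rintro _ ⟨G', hG', rfl⟩
    refine hadm ?_
    show ι (φ (g G')) = ι 0
    rw [map_zero, ← key, ← hg, map_mul, show φA G' = 0 from (ht.le (Ideal.subset_span hG') :), mul_zero]
  have hgen : RingHom.ker φA.toRingHom ≤ J0.map μ := by
    refine ht.symm.le.trans ?_
    rw [Ideal.span_le]
    intro G' hG'
    show G' ∈ J0.map μ
    refine (Ideal.unit_mul_mem_iff_mem _ ((hsu G').map (MvPolynomial.C : A →+* _))).1 ?_
    rw [hg]
    exact Ideal.mem_map_of_mem _ (Ideal.subset_span ⟨G', hG', rfl⟩)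
  have hlift : ∀ m ∈ maximalIdeal A, ∀ Q : MvPolynomial (Fin N) A, MvPolynomial.C m * Q ∈ μ.range := by
    intro m hm Q
    induction Q using MvPolynomial.induction_on with
    | C a => exact ⟨MvPolynomial.C ⟨m * a, mem_of_mem_max hO (Ideal.mul_mem_right _ _ hm)⟩, by simp [μ]⟩
    | add p q hp hq => rw [mul_add]; exact add_mem hp hq
    | mul_X p i hp =>
      obtain ⟨H, hH⟩ := hp
      exact ⟨H * MvPolynomial.X i, by rw [map_mul, hH, mul_assoc]; simp [μ]⟩
  have hmul' : ∀ G' ∈ J0.map μ, ∀ m ∈ maximalIdeal A, ∀ Q, MvPolynomial.C m * Q * G' ∈ μ '' (J0 : Set _) := by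
    intro G' hG'
    induction hG' using Submodule.span_induction with
    | mem x hx =>
      intro m hm Q
      obtain ⟨h, hh, rfl⟩ := hx
      obtain ⟨H, hH⟩ := hlift m hm Q
      exact ⟨H * h, J0.mul_mem_left _ hh, by rw [map_mul, hH]⟩
    | zero => exact fun m _ Q => ⟨0, J0.zero_mem, by simp⟩
    | add x y _ _ hx hy =>
      intro m hm Q
      obtain ⟨a, ha, hax⟩ := hx m hm Q; obtain ⟨b, hb, hby⟩ := hy m hm Q
      exact ⟨a + b, add_mem ha hb, by rw [map_add, hax, hby, mul_add]⟩
    | smul Q' x _ hx =>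
      intro m hm Q
      rw [smul_eq_mul, ← mul_assoc, mul_assoc (MvPolynomial.C m) Q Q']
      exact hx m hm _
  let M : Ideal O := (maximalIdeal A).comap O.subtype
  have hsmall : ∀ G, φ G = 0 → (∀ d, G.coeff d ∈ M) → G ∈ J0 := by
    intro G hG hcoef
    haveI := hflat
    let y : ↥G.support → A ⊗[↥O] C := fun d => φA (MvPolynomial.monomial (d : Fin N →₀ ℕ) 1)
    have hμG : μ G = ∑ d : ↥G.support,
        MvPolynomial.C ((G.coeff d.1 : O) : A) * MvPolynomial.monomial (d : Fin N →₀ ℕ) 1 := by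
      conv_lhs => rw [G.as_sum, map_sum]
      rw [← Finset.sum_coe_sort]
      exact Finset.sum_congr rfl fun d _ => by simp [μ, MvPolynomial.C_mul_monomial]
    have h0 : ∑ d : ↥G.support, ((G.coeff d.1 : O) : A) • y d = 0 := by
      have h : φA (μ G) = 0 := by rw [key, hG, map_zero]
      rw [hμG, map_sum] at h
      simpa [y, ← MvPolynomial.smul_eq_C_mul, map_smul] using h
    obtain ⟨k, a, z, hy, ha⟩ := Module.Flat.isTrivialRelation_of_sum_smul_eq_zero h0
    choose Z hZ using fun j => hφA (z j)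
    have hbr : ∀ d : ↥G.support, MvPolynomial.monomial (d : Fin N →₀ ℕ) 1 - ∑ j, a d j • Z j ∈ J0.map μ := fun d => by
      refine hgen ?_
      show φA _ = 0
      rw [map_sub, map_sum]
      simp only [map_smul, hZ]
      exact sub_eq_zero.2 (hy d)
    choose H hH hHe using fun d : ↥G.support => hmul' _ (hbr d) ((G.coeff d.1 : O) : A) (hcoef d.1) 1
    have hGH : G = ∑ d, H d := by
      refine hμ ?_
      rw [map_sum, hμG]
      simp only [hHe, mul_one, mul_sub, Finset.sum_sub_distrib]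
      rw [eq_comm, sub_eq_self, Finset.sum_congr rfl (fun d _ => Finset.mul_sum _ _ _), Finset.sum_comm]
      refine Finset.sum_eq_zero fun j _ => ?_
      simp only [MvPolynomial.smul_eq_C_mul, ← mul_assoc, ← map_mul, ← Finset.sum_mul, ← map_sum, ha j,
        map_zero, zero_mul]
    rw [hGH]
    exact sum_mem fun d _ => hH d
  -- the closed part
  haveI : M.IsPrime := Ideal.comap_isPrime _ _
  haveI : ValuationRing (O ⧸ M) := by
    rw [ValuationRing.iff_dvd_total]
    refine ⟨fun x y => ?_⟩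
    obtain ⟨x, rfl⟩ := Ideal.Quotient.mk_surjective x
    obtain ⟨y, rfl⟩ := Ideal.Quotient.mk_surjective y
    by_cases hx : x ∈ M
    · exact Or.inr (by rw [Ideal.Quotient.eq_zero_iff_mem.2 hx]; exact dvd_zero _)
    by_cases hy : y ∈ M
    · exact Or.inl (by rw [Ideal.Quotient.eq_zero_iff_mem.2 hy]; exact dvd_zero _)
    obtain ⟨ux, hux⟩ : IsUnit (x : A) := by_contra fun h => hx ((mem_maximalIdeal _).2 h)
    obtain ⟨uy, huy⟩ : IsUnit (y : A) := by_contra fun h => hy ((mem_maximalIdeal _).2 h)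
    rcases unit_total hO (ux⁻¹ * uy) with h | h
    · exact Or.inl (map_dvd _ ⟨⟨_, h⟩, Subtype.ext (by simp [← hux, ← huy])⟩)
    · exact Or.inr (map_dvd _ ⟨⟨_, h⟩, Subtype.ext (by simp [← hux, ← huy, ← mul_assoc])⟩)
  let MC : Ideal C := M.map (algebraMap O C)
  letI : Algebra (O ⧸ M) (C ⧸ MC) := (Ideal.quotientMap MC (algebraMap O C) Ideal.le_comap_map).toAlgebra
  haveI : IsScalarTower O (O ⧸ M) (C ⧸ MC) := ⟨fun r s t => by
    obtain ⟨s, rfl⟩ := Ideal.Quotient.mk_surjective s
    obtain ⟨t, rfl⟩ := Ideal.Quotient.mk_surjective t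
    show Ideal.Quotient.mk MC (algebraMap O C (r * s) * t) = Ideal.Quotient.mk MC (r • (algebraMap O C s * t))
    simp only [Algebra.smul_def, map_mul, mul_assoc]⟩
  haveI : Algebra.FiniteType (O ⧸ M) (C ⧸ MC) := Algebra.FiniteType.of_restrictScalars_finiteType O (O ⧸ M) (C ⧸ MC)
  have htf : ∀ (r : O) (c : C), r ∉ M → r • c ∈ MC → c ∈ MC := by
    intro r c hr hc
    obtain ⟨u, hu⟩ : IsUnit (r : A) := by_contra fun h => hr ((mem_maximalIdeal _).2 h)
    have hdiv : ∀ x ∈ MC, ∃ d ∈ MC, r • d = x := by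
      intro x hx
      induction hx using Submodule.span_induction with
      | mem x hx =>
        obtain ⟨m, hm, rfl⟩ := hx
        have hm' : ((u⁻¹ : Aˣ) : A) * m ∈ maximalIdeal A := Ideal.mul_mem_left _ _ hm
        refine ⟨algebraMap O C ⟨_, mem_of_mem_max hO hm'⟩, Ideal.mem_map_of_mem _ hm', ?_⟩
        rw [Algebra.smul_def, ← map_mul]
        congr 1
        exact Subtype.ext (by simp [← hu])
      | zero => exact ⟨0, MC.zero_mem, smul_zero _⟩
      | add x y _ _ hx hy =>
        obtain ⟨a, ha, rfl⟩ := hx; obtain ⟨b, hb, rfl⟩ := hy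
        exact ⟨a + b, add_mem ha hb, smul_add _ _ _⟩
      | smul q x _ hx =>
        obtain ⟨d, hd, rfl⟩ := hx
        exact ⟨q * d, MC.mul_mem_left _ hd, (mul_smul_comm r q d).symm⟩
    obtain ⟨d, hd, hde⟩ := hdiv _ hc
    have := smul_cancel hadm (hu ▸ u.isUnit) (c := c - d) (by rw [smul_sub, hde, sub_self])
    rwa [sub_eq_zero.1 this]
  haveI : Module.Flat (O ⧸ M) (C ⧸ MC) := by
    rw [Module.Flat.flat_iff_torsion_eq_bot_of_isBezout, eq_bot_iff]
    rintro x ⟨⟨r, hr⟩, hrx⟩
    obtain ⟨r, rfl⟩ := Ideal.Quotient.mk_surjective r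
    obtain ⟨c, rfl⟩ := Ideal.Quotient.mk_surjective x
    rw [Submonoid.smul_def, Algebra.smul_def] at hrx
    refine Ideal.Quotient.eq_zero_iff_mem.2 (htf r c
      (fun h => nonZeroDivisors.ne_zero hr (Ideal.Quotient.eq_zero_iff_mem.2 h)) ?_)
    rw [Algebra.smul_def]
    exact Ideal.Quotient.eq_zero_iff_mem.1 hrx
  haveI : Algebra.FinitePresentation (O ⧸ M) (C ⧸ MC) := FlatMisc.ValuationFP.algebra_finitePresentation
  let φb : MvPolynomial (Fin N) (O ⧸ M) →ₐ[O ⧸ M] (C ⧸ MC) :=
    MvPolynomial.aeval fun i => Ideal.Quotient.mk MC (φ (MvPolynomial.X i))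
  let mp : MvPolynomial (Fin N) O →+* MvPolynomial (Fin N) (O ⧸ M) := MvPolynomial.map (Ideal.Quotient.mk M)
  have hmp : Function.Surjective mp := MvPolynomial.map_surjective _ Ideal.Quotient.mk_surjective
  have keyb : ∀ G, φb (mp G) = Ideal.Quotient.mk MC (φ G) := fun G => by
    induction G using MvPolynomial.induction_on with
    | C a =>
      simp only [mp, φb, MvPolynomial.map_C, MvPolynomial.aeval_C]
      rw [← MvPolynomial.algebraMap_eq, φ.commutes]
      rfl
    | add p q hp hq => simp only [map_add, hp, hq]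
    | mul_X p i hp => simp only [map_mul, hp, mp, φb, MvPolynomial.map_X, MvPolynomial.aeval_X]
  have hφb : Function.Surjective φb := fun z => by
    obtain ⟨c, rfl⟩ := Ideal.Quotient.mk_surjective z
    obtain ⟨G, rfl⟩ := hφ c
    exact ⟨_, keyb G⟩
  obtain ⟨tb, htb⟩ := Algebra.FinitePresentation.ker_fG_of_surjective (R := O ⧸ M) (A := MvPolynomial (Fin N) (O ⧸ M)) (B := C ⧸ MC) φb hφb
  have hpre : ∀ h : ↥tb, ∃ G, φ G = 0 ∧ mp G = h := fun h => by
    obtain ⟨G₀, hG₀⟩ := hmp h
    have hk : φb h = 0 := htb.le (Ideal.subset_span h.2)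
    rw [← hG₀, keyb, Ideal.Quotient.eq_zero_iff_mem] at hk
    have : φ G₀ ∈ (M.map (MvPolynomial.C : O →+* _)).map φ.toRingHom := by
      rw [Ideal.map_map]
      convert hk using 3
      exact φ.comp_algebraMap
    obtain ⟨D, hD, hDe⟩ := (Ideal.mem_map_iff_of_surjective _ hφ).1 this
    refine ⟨G₀ - D, by rw [map_sub, sub_eq_zero]; exact hDe.symm, ?_⟩
    have hD0 : mp D = 0 := by
      rw [← RingHom.mem_ker, MvPolynomial.ker_map, Ideal.mk_ker]
      exact hD
    rw [map_sub, hD0, sub_zero, hG₀]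
  choose L hL hLm using hpre
  let J1 : Ideal (MvPolynomial (Fin N) O) := Ideal.span (Set.range L)
  have hJ1J : J1 ≤ RingHom.ker φ.toRingHom := by
    rw [Ideal.span_le]
    rintro _ ⟨h, rfl⟩
    exact hL h
  have heq : RingHom.ker φ.toRingHom = J0 ⊔ J1 := by
    refine le_antisymm (fun G hG => ?_) (sup_le hJ0J hJ1J)
    have hmem : mp G ∈ J1.map mp := by
      have h1 : mp G ∈ RingHom.ker φb.toRingHom := by
        show φb (mp G) = 0
        rw [keyb, show φ G = 0 from hG, map_zero]
      refine (htb.symm.le.trans ?_) h1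
      rw [Ideal.span_le]
      intro h hh
      show h ∈ J1.map mp
      rw [show h = mp (L ⟨h, hh⟩) from (hLm ⟨h, hh⟩).symm]
      exact Ideal.mem_map_of_mem _ (Ideal.subset_span ⟨⟨h, hh⟩, rfl⟩)
    obtain ⟨G1, hG1, hG1e⟩ := (Ideal.mem_map_iff_of_surjective _ hmp).1 hmem
    rw [show G = (G - G1) + G1 by ring]
    refine Submodule.add_mem_sup (hsmall _ ?_ fun d => ?_) hG1
    · rw [map_sub, show φ G = 0 from hG, show φ G1 = 0 from hJ1J hG1, sub_zero]
    · have h2 : (mp (G - G1)).coeff d = 0 := by rw [map_sub, hG1e, sub_self]; simp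
      rw [MvPolynomial.coeff_map] at h2
      exact Ideal.Quotient.eq_zero_iff_mem.1 h2
  rw [heq]
  exact Submodule.FG.sup hJ0 ⟨Finset.univ.image L, by rw [Finset.coe_image, Finset.coe_univ, Set.image_univ]⟩

end Alg

end Groth.Agent.CA2H40.SemiVal
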