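import Mathlib

/-! Square-zero extensions of complete Noetherian local rings. -/

namespace Groth.Agent.CA2H40

universe u v

variable {A : Type u} {E : Type v} [CommRing A] [CommRing E] (f : E →+* A)

lemma isNilpotent_of_sq_zero (hsq : RingHom.ker f ^ 2 = ⊥) {x : E} (hx : f x = 0) : x ^ 2 = 0 := by
  have : x ^ 2 ∈ RingHom.ker f ^ 2 := Ideal.pow_mem_pow hx 2
  rwa [hsq, Ideal.mem_bot] at this

lemma isUnit_of_map_sqzero (hf : Function.Surjective f) (hsq : RingHom.ker f ^ 2 = ⊥) {x : E}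
    (hx : IsUnit (f x)) : IsUnit x := by
  obtain ⟨y, hy⟩ := hx.exists_right_inv
  obtain ⟨y, rfl⟩ := hf y
  have h : f (x * y - 1) = 0 := by rw [map_sub, map_mul, hy, map_one, sub_self]
  have h2 : IsUnit (x * y) := by
    have := IsNilpotent.isUnit_add_one ⟨2, isNilpotent_of_sq_zero f hsq h⟩
    rwa [sub_add_cancel] at this
  exact isUnit_of_mul_isUnit_left h2

lemma isNoetherianRing_of_sqzero [IsNoetherianRing A] (hf : Function.Surjective f)
    (hsq : RingHom.ker f ^ 2 = ⊥) (hfg : (RingHom.ker f).FG) : IsNoetherianRing E := by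
  classical
  refine IsNoetherianRing.of_prime fun P hP => ?_
  have hJP : RingHom.ker f ≤ P := fun x hx =>
    hP.mem_of_pow_mem 2 (by rw [isNilpotent_of_sq_zero f hsq hx]; exact P.zero_mem)
  obtain ⟨S, hS⟩ := IsNoetherian.noetherian (P.map f)
  obtain ⟨T, hT⟩ := hfg
  refine ⟨S.image (Function.surjInv hf) ∪ T, ?_⟩
  rw [Finset.coe_union, Ideal.span_union, hT, Finset.coe_image]
  have h : (Ideal.span (Function.surjInv hf '' (S : Set A))).map f = P.map f := by
    rw [Ideal.map_span, ← Set.image_comp]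
    simp only [Function.comp_def, Function.surjInv_eq hf, Set.image_id']
    exact hS
  have h' := congrArg (Ideal.comap f) h
  rw [Ideal.comap_map_of_surjective f hf, Ideal.comap_map_of_surjective f hf,
    ← RingHom.ker_eq_comap_bot, sup_eq_left.mpr hJP] at h'
  exact h'

lemma le_jacobson_comap [IsLocalRing A] (hf : Function.Surjective f) (hsq : RingHom.ker f ^ 2 = ⊥) :
    (IsLocalRing.maximalIdeal A).comap f ≤ Ideal.jacobson (⊥ : Ideal E) := by
  intro x hx
  rw [Ideal.mem_jacobson_bot]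
  intro y
  refine isUnit_of_map_sqzero f hf hsq ?_
  rw [map_add, map_mul, map_one]
  exact IsLocalRing.notMem_maximalIdeal.mp fun h =>
    (IsLocalRing.maximalIdeal.isMaximal A).ne_top
      ((Ideal.eq_top_iff_one _).mpr (by
        simpa using sub_mem h (Ideal.mul_mem_right (f y) _ (show f x ∈ IsLocalRing.maximalIdeal A from hx))))

theorem isAdicComplete_sqzero [IsNoetherianRing A] [IsLocalRing A]
    [IsAdicComplete (IsLocalRing.maximalIdeal A) A] (hf : Function.Surjective f)
    (hsq : RingHom.ker f ^ 2 = ⊥) (hfg : (RingHom.ker f).FG) :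
    IsAdicComplete ((IsLocalRing.maximalIdeal A).comap f) E := by
  classical
  haveI := isNoetherianRing_of_sqzero f hf hsq hfg
  set m := IsLocalRing.maximalIdeal A with hm
  set I := m.comap f with hI
  set J := RingHom.ker f with hJ
  have hmap : ∀ n : ℕ, (I ^ n).map f = m ^ n := fun n => by
    rw [Ideal.map_pow, hI, Ideal.map_comap_of_surjective f hf]
  have hlift : ∀ (n : ℕ) (x : E), f x ∈ m ^ n → ∃ y ∈ J, x - y ∈ I ^ n := by
    intro n x hx
    rw [← hmap n] at hx
    obtain ⟨w, hw, hwx⟩ := (Ideal.mem_map_iff_of_surjective f hf).mp hx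
    exact ⟨x - w, by rw [hJ, RingHom.mem_ker, map_sub, hwx, sub_self], by rwa [sub_sub_cancel]⟩
  obtain ⟨k, hk⟩ := Ideal.exists_pow_inf_eq_pow_smul I (J : Submodule E E)
  have hAR : ∀ n, ∀ x ∈ I ^ (n + k), x ∈ J → x ∈ I ^ n • (J : Submodule E E) := by
    intro n x hx hxJ
    have h := hk (n + k) (Nat.le_add_left k n)
    rw [Nat.add_sub_cancel] at h
    have h1 : x ∈ I ^ (n + k) • (⊤ : Submodule E E) ⊓ (J : Submodule E E) :=
      ⟨by rwa [Ideal.smul_eq_mul, Ideal.mul_top], hxJ⟩
    rw [h] at h1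
    exact Submodule.smul_mono le_rfl inf_le_right h1
  obtain ⟨r, g, hg⟩ := Submodule.fg_iff_exists_fin_generating_family.mp hfg
  have hgJ : ∀ i, g i ∈ J := fun i => by rw [← hg]; exact Submodule.subset_span ⟨i, rfl⟩
  have hH : IsHausdorff I E := IsHausdorff.of_le_jacobson I E (le_jacobson_comap f hf hsq)
  refine { toIsHausdorff := hH, toIsPrecomplete := ⟨fun x hx => ?_⟩ }
  have hx' : ∀ {p q : ℕ}, p ≤ q → x p - x q ∈ I ^ p := fun {p q} h => by
    have := hx h
    rwa [SModEq.sub_mem, Ideal.smul_eq_mul, Ideal.mul_top] at this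
  obtain ⟨a, ha⟩ := IsPrecomplete.prec (I := m) (inferInstance : IsPrecomplete m A) (f := fun n => f (x n))
    (fun {p q} h => by
      rw [SModEq.sub_mem, Ideal.smul_eq_mul, Ideal.mul_top, ← map_sub, ← hmap]
      exact Ideal.mem_map_of_mem f (hx' h))
  obtain ⟨e, rfl⟩ := hf a
  have ha' : ∀ n, f (x n - e) ∈ m ^ n := fun n => by
    have := ha n
    rw [SModEq.sub_mem, Ideal.smul_eq_mul, Ideal.mul_top] at this
    rwa [map_sub]
  choose y hyJ hy using fun n => hlift n _ (ha' n)
  have hstep : ∀ n, ∃ c : Fin r → E, (∀ i, c i ∈ I ^ n) ∧ ∑ i, c i * g i = y (n + 1 + k) - y (n + k) := by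
    intro n
    have h1 : y (n + 1 + k) - y (n + k) ∈ I ^ (n + k) := by
      have ha1 := hy (n + k)
      have ha2 := Ideal.pow_le_pow_right (by omega : n + k ≤ n + 1 + k) (hy (n + 1 + k))
      have h3 := sub_mem (sub_mem ha1 ha2) (hx' (by omega : n + k ≤ n + 1 + k))
      convert h3 using 1
      ring
    have h2 := hAR n _ h1 (sub_mem (hyJ _) (hyJ _))
    rw [← hg] at h2
    obtain ⟨c, hc, hsum⟩ := (Submodule.mem_ideal_smul_span_iff_exists_sum _ g _).mp h2
    refine ⟨fun i => c i, hc, ?_⟩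
    rw [← hsum, Finsupp.sum_fintype _ _ (by simp)]
    simp [smul_eq_mul]
  choose c hc hcsum using hstep
  have hs : ∀ i, ∃ s : E, ∀ n, f (∑ j ∈ Finset.range n, c j i - s) ∈ m ^ n := by
    intro i
    obtain ⟨s, hs⟩ := IsPrecomplete.prec (I := m) (inferInstance : IsPrecomplete m A)
      (f := fun n => f (∑ j ∈ Finset.range n, c j i)) (fun {p q} h => by
        rw [SModEq.sub_mem, Ideal.smul_eq_mul, Ideal.mul_top, ← map_sub,
          ← Finset.sum_range_add_sum_Ico _ h, sub_add_cancel_left, ← hmap]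
        exact Ideal.mem_map_of_mem f (neg_mem (Submodule.sum_mem _ fun j hj =>
          Ideal.pow_le_pow_right (Finset.mem_Ico.mp hj).1 (hc j i))))
    obtain ⟨s, rfl⟩ := hf s
    refine ⟨s, fun n => ?_⟩
    have := hs n
    rw [SModEq.sub_mem, Ideal.smul_eq_mul, Ideal.mul_top] at this
    rwa [map_sub]
  choose s hs using hs
  have hy' : ∀ n, y (n + k) = y k + ∑ i, (∑ j ∈ Finset.range n, c j i) * g i := by
    intro n
    induction n with
    | zero => simp
    | succ n ih =>
      simp only [Finset.sum_range_succ, add_mul, Finset.sum_add_distrib, hcsum]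
      rw [← add_assoc, ← ih]
      ring
  refine ⟨e + (y k + ∑ i, s i * g i), fun n => ?_⟩
  rw [SModEq.sub_mem, Ideal.smul_eq_mul, Ideal.mul_top]
  have h1 : y (n + k) - (y k + ∑ i, s i * g i) ∈ I ^ n := by
    rw [hy', add_sub_add_left_eq_sub, ← Finset.sum_sub_distrib]
    refine Submodule.sum_mem _ fun i _ => ?_
    rw [← sub_mul]
    obtain ⟨w, hw, hw'⟩ := hlift n _ (hs i n)
    have h0 : w * g i = 0 := by
      have : w * g i ∈ J ^ 2 := by rw [sq]; exact Ideal.mul_mem_mul hw (hgJ i)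
      rwa [hsq, Ideal.mem_bot] at this
    have := Ideal.mul_mem_right (g i) _ hw'
    rwa [sub_mul, h0, sub_zero] at this
  have h2 := Ideal.pow_le_pow_right (Nat.le_add_right n k) (hy (n + k))
  have h3 := add_mem (add_mem (hx' (Nat.le_add_right n k)) h2) h1
  convert h3 using 1
  ring

end Groth.Agent.CA2H40
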