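import Mathlib

set_option autoImplicit false
universe u
open IsLocalRing

namespace Groth.Agent.CA2H40

/-- A ring endomorphism of finite order, invertible in the residue field, of a Noetherian local ring,
trivial on the residue field and on the cotangent space, is the identity. -/
theorem eq_self_of_tame {A : Type u} [CommRing A] [IsLocalRing A] [IsNoetherianRing A]
    (σ : A →+* A) (n : ℕ) (hn : IsUnit (n : A)) (hord : ∀ a, (⇑σ)^[n] a = a)
    (h1 : ∀ a, σ a - a ∈ maximalIdeal A)
    (h2 : ∀ a ∈ maximalIdeal A, σ a - a ∈ maximalIdeal A ^ 2) (a : A) : σ a = a := by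
  have hm : ∀ j, ∀ x ∈ maximalIdeal A ^ (j + 1), σ x - x ∈ maximalIdeal A ^ (j + 2) := by
    intro j
    induction j with
    | zero => simpa using h2
    | succ j ih =>
      intro x hx
      rw [pow_succ] at hx
      refine Submodule.mul_induction_on hx (fun y hy z hz => ?_) (fun y z hy hz => ?_)
      · have hy' := ih y hy
        have hz' := h2 z hz
        have e : σ (y * z) - y * z = (σ y - y) * z + σ y * (σ z - z) := by rw [map_mul]; ring
        rw [e]
        refine add_mem ?_ ?_
        · have := Ideal.mul_mem_mul hy' hz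
          rwa [← pow_succ] at this
        · have hsy : σ y ∈ maximalIdeal A ^ (j + 1) := by
            have := add_mem (Ideal.pow_le_pow_right (Nat.le_succ _) hy') hy
            simpa using this
          have := Ideal.mul_mem_mul hsy hz'
          rwa [← pow_add] at this
      · have e : σ (y + z) - (y + z) = (σ y - y) + (σ z - z) := by rw [map_add]; ring
        rw [e]; exact add_mem hy hz
  have key : ∀ j, ∀ b, σ b - b ∈ maximalIdeal A ^ (j + 1) := by
    intro j
    induction j with
    | zero => simpa using h1
    | succ j ih =>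
      intro b
      have hit : ∀ i : ℕ, (⇑σ)^[i] b - b - (i : A) * (σ b - b) ∈ maximalIdeal A ^ (j + 2) := by
        intro i
        induction i with
        | zero => simp
        | succ i ihi =>
          rw [Function.iterate_succ_apply']
          have e : σ ((⇑σ)^[i] b) - b - ((i + 1 : ℕ) : A) * (σ b - b) =
              (σ ((⇑σ)^[i] b - b - (i : A) * (σ b - b))) + (i : A) * (σ (σ b - b) - (σ b - b)) := by
            simp only [map_sub, map_mul, map_natCast]; push_cast; ring
          rw [e]
          refine add_mem ?_ (Ideal.mul_mem_left _ _ (hm j _ (ih b)))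
          have h := hm (j + 1) _ ihi
          have h' := add_mem (Ideal.pow_le_pow_right (Nat.le_succ _) h) ihi
          simpa using h'
      have := hit n
      rw [hord, sub_self, zero_sub] at this
      exact (Ideal.unit_mul_mem_iff_mem _ hn).1 (by simpa using neg_mem this)
  have : σ a - a ∈ ⨅ i : ℕ, maximalIdeal A ^ i := by
    rw [Submodule.mem_iInf]
    rintro (_ | i)
    · simp
    · exact key i a
  rw [Ideal.iInf_pow_eq_bot_of_isLocalRing _ (maximalIdeal.isMaximal A).ne_top] at this
  simpa [sub_eq_zero] using this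

/-- For an endomorphism of finite order invertible in `A`, compatible with a surjection of `A`-elements
fixed by it onto the residue field, the ideal `I` generated by the `a - σ a` satisfies `I ⊓ m² ≤ m • I`. -/
theorem fixedIdeal_inf_sq_le {A : Type u} [CommRing A] [IsLocalRing A]
    (σ : A →+* A) (n : ℕ) (hn : IsUnit (n : A)) (hord : ∀ a, (⇑σ)^[n] a = a)
    (hfix : ∀ a, ∃ c, σ c = c ∧ a - c ∈ maximalIdeal A) :
    Ideal.span (Set.range fun a : A => a - σ a) ⊓ maximalIdeal A ^ 2 ≤
      maximalIdeal A * Ideal.span (Set.range fun a : A => a - σ a) := by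
  set I := Ideal.span (Set.range fun a : A => a - σ a) with hI
  have hsub : ∀ a, a - σ a ∈ I := fun a => Ideal.subset_span ⟨a, rfl⟩
  have hσm : ∀ x ∈ maximalIdeal A, σ x ∈ maximalIdeal A := by
    intro x hx
    rw [mem_maximalIdeal, mem_nonunits_iff] at hx ⊢
    intro hu
    apply hx
    have hn0 : n ≠ 0 := by rintro rfl; simp at hn
    obtain ⟨n', rfl⟩ := Nat.exists_eq_succ_of_ne_zero hn0
    rw [← hord x, Function.iterate_succ_apply]
    clear * - hu
    induction n' with
    | zero => simpa using hu
    | succ k ih => rw [Function.iterate_succ_apply']; exact ih.map σ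
  -- every element of `I` is congruent to some `x - σ x` with `x ∈ m`
  have hrep : ∀ e ∈ I, ∃ x ∈ maximalIdeal A, e - (x - σ x) ∈ maximalIdeal A * I := by
    intro e he
    induction he using Submodule.span_induction with
    | mem y hy =>
      obtain ⟨a, rfl⟩ := hy
      obtain ⟨c, hc, hac⟩ := hfix a
      exact ⟨a - c, hac, by simp [map_sub, hc]⟩
    | zero => exact ⟨0, zero_mem _, by simp⟩
    | add y z _ _ hy hz =>
      obtain ⟨x, hx, hy⟩ := hy
      obtain ⟨x', hx', hz⟩ := hz
      refine ⟨x + x', add_mem hx hx', ?_⟩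
      have e : y + z - (x + x' - σ (x + x')) = (y - (x - σ x)) + (z - (x' - σ x')) := by
        rw [map_add]; ring
      rw [e]; exact add_mem hy hz
    | smul r y _ hy =>
      obtain ⟨x, hx, hy⟩ := hy
      obtain ⟨c, hc, hrc⟩ := hfix r
      refine ⟨c * x, Ideal.mul_mem_left _ _ hx, ?_⟩
      have e : r • y - (c * x - σ (c * x)) = r * (y - (x - σ x)) + (r - c) * (x - σ x) := by
        rw [map_mul, hc, smul_eq_mul]; ring
      rw [e]
      exact add_mem (Ideal.mul_mem_left _ _ hy) (Ideal.mul_mem_mul hrc (hsub x))
  intro e he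
  obtain ⟨heI, he2⟩ := Submodule.mem_inf.1 he
  obtain ⟨x, hx, hex⟩ := hrep e heI
  have hmI : maximalIdeal A * I ≤ maximalIdeal A ^ 2 := by
    rw [pow_two]
    refine Ideal.mul_mono_right (Ideal.span_le.2 ?_)
    rintro _ ⟨a, rfl⟩
    obtain ⟨c, hc, hac⟩ := hfix a
    have : a - σ a = (a - c) - σ (a - c) := by simp [map_sub, hc]
    simp only [SetLike.mem_coe]
    rw [this]
    exact sub_mem hac (hσm _ hac)
  have hx2 : x - σ x ∈ maximalIdeal A ^ 2 := by simpa using sub_mem he2 (hmI hex)
  have hw : ∀ w ∈ maximalIdeal A ^ 2, w - σ w ∈ maximalIdeal A * I := by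
    intro w hw
    rw [pow_two] at hw
    refine Submodule.mul_induction_on hw (fun y hy z hz => ?_) (fun y z hy hz => ?_)
    · have e : y * z - σ (y * z) = z * (y - σ y) + σ y * (z - σ z) := by rw [map_mul]; ring
      rw [e]
      exact add_mem (Ideal.mul_mem_mul hz (hsub y)) (Ideal.mul_mem_mul (hσm y hy) (hsub z))
    · have e : y + z - σ (y + z) = (y - σ y) + (z - σ z) := by rw [map_add]; ring
      rw [e]; exact add_mem hy hz
  obtain ⟨u, hu⟩ := hn.exists_left_inv
  have hσu : σ u = u := by
    have h := congrArg σ hu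
    rw [map_mul, map_natCast, map_one, ← hu] at h
    exact hn.mul_left_inj.1 h
  have hz : σ (u * ∑ j ∈ Finset.range n, (⇑σ)^[j] x) = u * ∑ j ∈ Finset.range n, (⇑σ)^[j] x := by
    rw [map_mul, hσu, map_sum]
    congr 1
    simp only [← Function.iterate_succ_apply' (⇑σ)]
    have h1 := Finset.sum_range_succ' (fun j => (⇑σ)^[j] x) n
    have h2 := Finset.sum_range_succ (fun j => (⇑σ)^[j] x) n
    simp only [Function.iterate_zero, id_eq, hord] at h1 h2
    exact add_right_cancel (h1.symm.trans h2)
  have hclose : x - u * ∑ j ∈ Finset.range n, (⇑σ)^[j] x ∈ maximalIdeal A ^ 2 := by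
    have e : x - u * ∑ j ∈ Finset.range n, (⇑σ)^[j] x =
        u * ∑ j ∈ Finset.range n, (x - (⇑σ)^[j] x) := by
      rw [Finset.sum_sub_distrib, Finset.sum_const, Finset.card_range, nsmul_eq_mul, mul_sub,
        ← mul_assoc, hu, one_mul]
    rw [e]
    refine Ideal.mul_mem_left _ _ (sum_mem fun j hj => ?_)
    clear hj
    induction j with
    | zero => simp
    | succ j ih =>
      rw [Function.iterate_succ_apply']
      have e : x - σ ((⇑σ)^[j] x) = (x - σ x) + σ (x - (⇑σ)^[j] x) := by rw [map_sub]; ring
      rw [e]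
      refine add_mem hx2 ?_
      have hle : Ideal.map σ (maximalIdeal A ^ 2) ≤ maximalIdeal A ^ 2 := by
        rw [Ideal.map_pow]; exact Ideal.pow_right_mono (Ideal.map_le_iff_le_comap.2 hσm) 2
      exact hle (Ideal.mem_map_of_mem σ ih)
  have h3 := hw _ hclose
  rw [map_sub, hz, sub_sub_sub_cancel_right] at h3
  simpa using add_mem hex h3

/-- The integer `n` is a unit in a local `k`-algebra when it is nonzero in the field `k`. -/
theorem isUnit_natCast_of_field {k A : Type*} [Field k] [CommRing A] [Algebra k A] {n : ℕ}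
    (hn : (n : k) ≠ 0) : IsUnit (n : A) := by
  have := (isUnit_iff_ne_zero.2 hn).map (algebraMap k A)
  simpa using this

end Groth.Agent.CA2H40
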