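import Mathlib

/-! The lattice of weights of symmetric forms modulo `δ`. -/

set_option autoImplicit false

namespace Groth.Agent.CA2H40.WeightLattice

variable {r : ℕ} (δ : ℕ) (g : ℤ)

/-- The generating set. -/
def gen (d : Fin r → ℤ) : Set ((Fin r → ℤ) →+ ZMod δ) :=
  {φ : (Fin r → ℤ) →+ ZMod δ | ∃ b : LinearMap.BilinForm ℤ (Fin r → ℤ), b.IsSymm ∧
      ∀ x, φ x = ((b d x + (1 - g) * b x x : ℤ) : ZMod δ)}

theorem exists_adapted_basis (hr : 0 < r) (d : Fin r → ℤ) :
    ∃ B : Module.Basis (Fin r) ℤ (Fin r → ℤ), d = (Finset.univ.gcd d) • B ⟨0, hr⟩ := by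
  classical
  obtain ⟨n, snf⟩ := Submodule.smithNormalForm (Pi.basisFun ℤ (Fin r)) (ℤ ∙ d)
  have hdvd : ∀ j, Finset.univ.gcd d ∣ d j := fun j => Finset.gcd_dvd (Finset.mem_univ j)
  have hn : n ≤ 1 := by
    by_contra h
    push Not at h
    obtain ⟨a, ha⟩ := Submodule.mem_span_singleton.1 (snf.bN ⟨0, by omega⟩).2
    obtain ⟨b, hb⟩ := Submodule.mem_span_singleton.1 (snf.bN ⟨1, by omega⟩).2
    have hli := snf.bN.linearIndependent
    rw [Fintype.linearIndependent_iff] at hli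
    let v : Fin n → ℤ := Pi.single ⟨0, by omega⟩ b - Pi.single ⟨1, by omega⟩ a
    have hv : ∑ i, v i • snf.bN i = 0 := by
      simp only [v, Pi.sub_apply, sub_smul, Finset.sum_sub_distrib, Pi.single_apply, ite_smul, zero_smul,
        Finset.sum_ite_eq', Finset.mem_univ, if_true]
      refine Subtype.ext ?_
      simp only [Submodule.coe_sub, Submodule.coe_smul, ← ha, ← hb, smul_smul, mul_comm b a, sub_self,
        Submodule.coe_zero]
    have h1 := hli v hv ⟨1, by omega⟩
    simp [v, Pi.single_apply] at h1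
    refine snf.bN.ne_zero ⟨0, by omega⟩ (Subtype.ext ?_)
    rw [← ha, h1, zero_smul, Submodule.coe_zero]
  rcases Nat.le_one_iff_eq_zero_or_eq_one.1 hn with rfl | rfl
  · haveI : Subsingleton (ℤ ∙ d) := snf.bN.repr.toEquiv.subsingleton
    have hd : d = 0 :=
      congrArg Subtype.val (Subsingleton.elim (⟨d, Submodule.mem_span_singleton_self d⟩ : ℤ ∙ d) 0)
    refine ⟨Pi.basisFun ℤ (Fin r), ?_⟩
    subst hd
    rw [show Finset.univ.gcd (0 : Fin r → ℤ) = 0 from Finset.gcd_eq_zero_iff.2 fun _ _ => rfl, zero_smul]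
  · let i := snf.f 0
    let B := snf.bM.reindex (Equiv.swap i ⟨0, hr⟩)
    have hBi : B ⟨0, hr⟩ = snf.bM i := by simp [B]
    obtain ⟨c, hc⟩ : ∃ c : ℤ, d = c • B ⟨0, hr⟩ := by
      refine ⟨snf.bN.repr ⟨d, Submodule.mem_span_singleton_self d⟩ 0 * snf.a 0, ?_⟩
      have h := congrArg Subtype.val (snf.bN.sum_repr ⟨d, Submodule.mem_span_singleton_self d⟩)
      simp only [Fin.sum_univ_one, Submodule.coe_smul, snf.snf 0, smul_smul] at h
      rw [hBi]; exact h.symm
    have hco : B.coord ⟨0, hr⟩ d = c := by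
      rw [hc, map_smul, B.coord_apply, B.repr_self, Finsupp.single_eq_same, smul_eq_mul, mul_one]
    have h1 : Finset.univ.gcd d ∣ c := by
      rw [← hco]
      choose e he using hdvd
      have hde : d = Finset.univ.gcd d • e := funext fun j => by simpa using he j
      rw [hde, map_smul, smul_eq_mul, ← hde]
      exact dvd_mul_right _ _
    have h2 : c ∣ Finset.univ.gcd d :=
      Finset.dvd_gcd fun j _ => ⟨B ⟨0, hr⟩ j, by conv_lhs => rw [hc]; simp⟩
    obtain ⟨u, hu⟩ := associated_of_dvd_dvd h1 h2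
    let w : Fin r → ℤˣ := fun j => if j = ⟨0, hr⟩ then u else 1
    refine ⟨B.unitsSMul w, ?_⟩
    rw [Module.Basis.unitsSMul_apply, Units.smul_def, smul_smul]
    simp [w, hu, ← hc]

variable {δ g}

theorem cast_gcd_eq (a : ℤ) : ∃ x : ℤ, ((Int.gcd δ a : ℤ) : ZMod δ) = x • (a : ZMod δ) := by
  refine ⟨Int.gcdB δ a, ?_⟩
  rw [Int.gcd_eq_gcd_ab (δ : ℤ) a, Int.cast_add, Int.cast_mul, Int.cast_mul, zsmul_eq_mul]
  simp [mul_comm]

theorem zmultiples_gcd (a : ℤ) :
    AddSubgroup.zmultiples ((Int.gcd δ a : ℤ) : ZMod δ) = AddSubgroup.zmultiples (a : ZMod δ) := by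
  refine le_antisymm ?_ ?_ <;> rw [AddSubgroup.zmultiples_le, AddSubgroup.mem_zmultiples_iff]
  · obtain ⟨x, hx⟩ := cast_gcd_eq (δ := δ) a; exact ⟨x, hx.symm⟩
  · obtain ⟨y, hy⟩ := Int.gcd_dvd_right (δ : ℤ) a
    refine ⟨y, ?_⟩
    conv_rhs => rw [hy]
    rw [Int.cast_mul, zsmul_eq_mul, mul_comm]

theorem ker_cast (a : ℤ) :
    (ZMod.castHom (Int.natCast_dvd_natCast.1 (Int.gcd_dvd_left (δ : ℤ) a)) (ZMod (Int.gcd δ a))).toAddMonoidHom.ker =
      AddSubgroup.zmultiples (a : ZMod δ) := by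
  rw [← zmultiples_gcd]
  ext x
  obtain ⟨x, rfl⟩ := ZMod.intCast_surjective x
  rw [AddMonoidHom.mem_ker, AddSubgroup.mem_zmultiples_iff]
  show ZMod.castHom (Int.natCast_dvd_natCast.1 (Int.gcd_dvd_left (δ : ℤ) a)) (ZMod (Int.gcd δ a)) (x : ZMod δ) = 0 ↔ _
  rw [map_intCast, ZMod.intCast_zmod_eq_zero_iff_dvd]
  constructor
  · rintro ⟨y, rfl⟩
    exact ⟨y, by rw [Int.cast_mul, zsmul_eq_mul, mul_comm]⟩
  · rintro ⟨y, hy⟩
    rw [zsmul_eq_mul, ← Int.cast_mul, ZMod.intCast_eq_intCast_iff_dvd_sub] at hy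
    have h1 : ((Int.gcd δ a : ℕ) : ℤ) ∣ x - y * (Int.gcd δ a : ℤ) := (Int.gcd_dvd_left _ _).trans hy
    simpa using (dvd_sub h1 (dvd_neg.2 (dvd_mul_left _ y))) 

variable {d : Fin r → ℤ}

/-- The subgroup, in an adapted basis. -/
theorem closure_gen_map (hr : 0 < r) (hδ : (δ : ℤ) ∣ 2 * (g - 1)) (d : Fin r → ℤ) :
    ∃ e : ((Fin r → ℤ) →+ ZMod δ) ≃+ (Fin r → ZMod δ),
      (AddSubgroup.closure (gen δ g d)).map e.toAddMonoidHom = AddSubgroup.pi Set.univ fun i =>
        AddSubgroup.zmultiples (((if i = ⟨0, hr⟩ then Finset.univ.gcd d + 1 - g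
          else (Int.gcd (g - 1) (Finset.univ.gcd d) : ℤ)) : ℤ) : ZMod δ) := by
  classical
  obtain ⟨B, hB⟩ := exists_adapted_basis hr d
  let D := Finset.univ.gcd d
  let o : Fin r := ⟨0, hr⟩
  let e : ((Fin r → ℤ) →+ ZMod δ) ≃+ (Fin r → ZMod δ) :=
    { toFun := fun φ i => φ (B i)
      invFun := fun v => (B.constr ℤ v).toAddMonoidHom
      left_inv := fun φ => AddMonoidHom.toIntLinearMap_injective (B.ext fun i => by simp)
      right_inv := fun v => funext fun i => B.constr_basis ℤ v i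
      map_add' := fun _ _ => rfl }
  have he : ∀ φ i, e φ i = φ (B i) := fun φ i => rfl
  refine ⟨e, le_antisymm ?_ ?_⟩
  · rw [AddMonoidHom.map_closure, AddSubgroup.closure_le]
    rintro _ ⟨φ, ⟨b, hb, hφ⟩, rfl⟩ i -
    show e φ i ∈ AddSubgroup.zmultiples (((if i = o then Finset.univ.gcd d + 1 - g
      else (Int.gcd (g - 1) (Finset.univ.gcd d) : ℤ)) : ℤ) : ZMod δ)
    rw [he, hφ]
    have hbd : ∀ x, b d x = D * b (B o) x := fun x => by
      conv_lhs => rw [hB]
      rw [map_smul, LinearMap.smul_apply, smul_eq_mul]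
    rw [hbd]
    by_cases h : i = o
    · subst h
      rw [if_pos rfl, AddSubgroup.mem_zmultiples_iff]
      exact ⟨b (B o) (B o), by rw [zsmul_eq_mul, ← Int.cast_mul]; congr 1; ring⟩
    · rw [if_neg h, AddSubgroup.mem_zmultiples_iff]
      obtain ⟨s, hs⟩ := Int.gcd_dvd_left (g - 1) D
      obtain ⟨t, ht⟩ := Int.gcd_dvd_right (g - 1) D
      refine ⟨t * b (B o) (B i) - s * b (B i) (B i), ?_⟩
      rw [zsmul_eq_mul, ← Int.cast_mul]
      congr 1
      linear_combination (-(b (B o) (B i))) * ht + (b (B i) (B i)) * hs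
  · have hmem : ∀ b : LinearMap.BilinForm ℤ (Fin r → ℤ), b.IsSymm →
        (fun i => ((b d (B i) + (1 - g) * b (B i) (B i) : ℤ) : ZMod δ)) ∈
          (AddSubgroup.closure (gen δ g d)).map e.toAddMonoidHom := fun b hb => by
      let φ : (Fin r → ℤ) →+ ZMod δ := AddMonoidHom.mk' (fun x => ((b d x + (1 - g) * b x x : ℤ) : ZMod δ))
        fun x y => by
          rw [← Int.cast_add, ZMod.intCast_eq_intCast_iff_dvd_sub]
          obtain ⟨q, hq⟩ := hδ
          refine ⟨q * b x y, ?_⟩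
          have hs : b y x = b x y := hb.eq y x
          simp only [map_add, LinearMap.add_apply, hs]
          linear_combination (b x y) * hq
      exact ⟨φ, AddSubgroup.subset_closure ⟨b, hb, fun x => rfl⟩, funext fun i => he φ i⟩
    intro v hv
    rw [← Finset.univ_sum_single v]
    refine sum_mem fun i _ => ?_
    obtain ⟨k, hk⟩ := AddSubgroup.mem_zmultiples_iff.1 (hv i trivial)
    rw [← hk, ← AddMonoidHom.single_apply, map_zsmul]
    refine AddSubgroup.zsmul_mem _ ?_ k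
    -- elementary forms
    let E : Fin r → Fin r → LinearMap.BilinForm ℤ (Fin r → ℤ) := fun p q =>
      (B.coord p).smulRight (B.coord q)
    have hE : ∀ p q x y, E p q x y = B.coord p x * B.coord q y := fun p q x y => rfl
    have hsym : ∀ p q, (E p q + E q p).IsSymm := fun p q => ⟨fun x y => by simp [hE]; ring⟩
    have hsym' : ∀ p, (E p p).IsSymm := fun p => ⟨fun x y => by simp [hE]; ring⟩
    have hdc : ∀ p, B.coord p d = if p = o then D else 0 := fun p => by
      rw [hB, map_smul, B.coord_apply, B.repr_self, Finsupp.single_apply, smul_eq_mul]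
      by_cases h : p = o
      · rw [if_pos h, if_pos h.symm, mul_one]
      · rw [if_neg h, if_neg (Ne.symm h), mul_zero]
    have hBc : ∀ p q, B.coord p (B q) = if p = q then 1 else 0 := fun p q => by
      simp [Finsupp.single_apply, eq_comm]
    by_cases h : i = o
    · subst h
      rw [if_pos rfl]
      convert hmem (E o o) (hsym' o) using 1
      funext j
      simp only [AddMonoidHom.single_apply, hE, hdc, hBc, if_pos rfl]
      by_cases hj : j = o
      · subst hj; simp [D, o]; ring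
      · simp [hj, Ne.symm hj]
    · rw [if_neg h]
      have hD : (Pi.single i ((D : ℤ) : ZMod δ) : Fin r → ZMod δ) ∈
          (AddSubgroup.closure (gen δ g d)).map e.toAddMonoidHom := by
        convert hmem (E o i + E i o) (hsym o i) using 1
        funext j
        simp only [LinearMap.add_apply, hE, hdc, hBc, if_pos rfl, if_neg h]
        by_cases hj : j = i
        · subst hj; simp [h, Ne.symm h]
        · by_cases hjo : j = o <;> simp [hj, Ne.symm hj, hjo, h, Ne.symm h]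
      have hc : (Pi.single i (((g - 1 : ℤ)) : ZMod δ) : Fin r → ZMod δ) ∈
          (AddSubgroup.closure (gen δ g d)).map e.toAddMonoidHom := by
        rw [← neg_mem_iff]
        convert hmem (E i i) (hsym' i) using 1
        funext j
        simp only [hE, hdc, hBc, if_neg h]
        by_cases hj : j = i
        · subst hj; simp
        · simp [hj, Ne.symm hj]
      have hg := Int.gcd_eq_gcd_ab (g - 1) D
      have : ((AddMonoidHom.single (fun _ : Fin r => ZMod δ) i) ((Int.gcd (g - 1) D : ℤ) : ZMod δ)) =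
          Int.gcdA (g - 1) D • (Pi.single i (((g - 1 : ℤ)) : ZMod δ) : Fin r → ZMod δ) +
            Int.gcdB (g - 1) D • (Pi.single i ((D : ℤ) : ZMod δ) : Fin r → ZMod δ) := by
        rw [AddMonoidHom.single_apply, ← Pi.single_smul, ← Pi.single_smul, ← Pi.single_add, hg]
        congr 1
        push_cast [zsmul_eq_mul]
        ring
      rw [this]
      exact add_mem (AddSubgroup.zsmul_mem _ hc _) (AddSubgroup.zsmul_mem _ hD _)


theorem quotient_equiv {r : ℕ} (hr : 0 < r) (hδ : (δ : ℤ) ∣ 2 * (g - 1)) (d : Fin r → ℤ) :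
    Nonempty ((((Fin r → ℤ) →+ ZMod δ) ⧸ AddSubgroup.closure (gen δ g d)) ≃+
      (ZMod (Int.gcd δ (Finset.univ.gcd d + 1 - g)) ×
        (Fin (r - 1) → ZMod (Int.gcd δ (Int.gcd (g - 1) (Finset.univ.gcd d)))))) := by
  classical
  obtain ⟨e, he⟩ := closure_gen_map hr hδ d
  obtain ⟨r, rfl⟩ : ∃ k, r = k + 1 := ⟨r - 1, by omega⟩
  let a : ℤ := Finset.univ.gcd d + 1 - g
  let c : ℤ := (Int.gcd (g - 1) (Finset.univ.gcd d) : ℤ)
  let f0 := (ZMod.castHom (Int.natCast_dvd_natCast.1 (Int.gcd_dvd_left (δ : ℤ) a)) (ZMod (Int.gcd δ a))).toAddMonoidHom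
  let f1 := (ZMod.castHom (Int.natCast_dvd_natCast.1 (Int.gcd_dvd_left (δ : ℤ) c)) (ZMod (Int.gcd δ c))).toAddMonoidHom
  let F : (Fin (r + 1) → ZMod δ) →+ ZMod (Int.gcd δ a) × (Fin r → ZMod (Int.gcd δ c)) :=
    { toFun := fun v => (f0 (v 0), fun i => f1 (v i.succ))
      map_zero' := by ext <;> simp
      map_add' := fun v w => by ext <;> simp }
  have hF : Function.Surjective F := fun ⟨x, y⟩ => by
    obtain ⟨x', hx⟩ := ZMod.castHom_surjective (Int.natCast_dvd_natCast.1 (Int.gcd_dvd_left (δ : ℤ) a)) x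
    choose y' hy using fun i => ZMod.castHom_surjective (Int.natCast_dvd_natCast.1 (Int.gcd_dvd_left (δ : ℤ) c)) (y i)
    exact ⟨Fin.cons x' y', Prod.ext hx (funext hy)⟩
  have hker : (F.comp e.toAddMonoidHom).ker = AddSubgroup.closure (gen δ g d) := by
    refine AddSubgroup.map_injective (f := e.toAddMonoidHom) e.injective ?_
    rw [he]
    ext v
    simp only [AddSubgroup.mem_map, AddSubgroup.mem_pi, Set.mem_univ, forall_true_left, AddMonoidHom.mem_ker]
    rw [Fin.forall_fin_succ]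
    constructor
    · rintro ⟨φ, hφ, rfl⟩
      have h0 : e φ 0 ∈ f0.ker := congrArg Prod.fst hφ
      have h1 : ∀ i : Fin r, e φ i.succ ∈ f1.ker := fun i => congrFun (congrArg Prod.snd hφ) i
      rw [ker_cast] at h0
      refine ⟨by simpa [a] using h0, fun i => ?_⟩
      have := h1 i
      rw [ker_cast] at this
      simpa [c, Fin.ext_iff] using this
    · rintro ⟨h0, h1⟩
      refine ⟨e.symm v, ?_, e.apply_symm_apply v⟩
      show F (e (e.symm v)) = 0
      rw [e.apply_symm_apply]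
      refine Prod.ext ?_ (funext fun i => ?_)
      · show v 0 ∈ f0.ker
        rw [ker_cast]; simpa [a] using h0
      · show v i.succ ∈ f1.ker
        rw [ker_cast]; simpa [c, Fin.ext_iff] using h1 i
  exact ⟨((QuotientAddGroup.quotientAddEquivOfEq hker.symm).trans
    (QuotientAddGroup.quotientKerEquivOfSurjective _ (hF.comp e.surjective)))⟩

theorem zmultiples_equiv (hδ0 : 0 < δ) (a : ℤ) :
    Nonempty (AddSubgroup.zmultiples (a : ZMod δ) ≃+ ZMod (δ / Int.gcd δ a)) := by
  haveI : NeZero δ := ⟨hδ0.ne'⟩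
  have h : addOrderOf (a : ZMod δ) = δ / Int.gcd δ a := by
    rw [← Nat.card_zmultiples, ← zmultiples_gcd, Nat.card_zmultiples, Int.cast_natCast,
      ZMod.addOrderOf_coe _ hδ0.ne', Nat.gcd_eq_right (Int.natCast_dvd_natCast.1 (Int.gcd_dvd_left (δ : ℤ) a))]
  exact ⟨(zmodAddCyclicAddEquiv (G := AddSubgroup.zmultiples (a : ZMod δ)) inferInstance).symm.trans
    (ZMod.ringEquivCongr (by rw [Nat.card_zmultiples, h])).toAddEquiv⟩

theorem closure_equiv {r : ℕ} (hr : 0 < r) (hδ0 : 0 < δ) (hδ : (δ : ℤ) ∣ 2 * (g - 1)) (d : Fin r → ℤ) :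
    Nonempty (AddSubgroup.closure (gen δ g d) ≃+
      (ZMod (δ / Int.gcd δ (Finset.univ.gcd d + 1 - g)) ×
        (Fin (r - 1) → ZMod (δ / Int.gcd δ (Int.gcd (g - 1) (Finset.univ.gcd d)))))) := by
  classical
  obtain ⟨e, he⟩ := closure_gen_map hr hδ d
  obtain ⟨r, rfl⟩ : ∃ k, r = k + 1 := ⟨r - 1, by omega⟩
  let a : ℤ := Finset.univ.gcd d + 1 - g
  let c : ℤ := (Int.gcd (g - 1) (Finset.univ.gcd d) : ℤ)
  obtain ⟨ea⟩ := zmultiples_equiv hδ0 a
  obtain ⟨ec⟩ := zmultiples_equiv hδ0 c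
  refine ⟨((AddSubgroup.equivMapOfInjective _ e.toAddMonoidHom e.injective).trans (AddEquiv.addSubgroupCongr he)).trans ?_⟩
  let f : Fin (r + 1) → ZMod δ := fun i =>
    (((if i = ⟨0, hr⟩ then Finset.univ.gcd d + 1 - g else (Int.gcd (g - 1) (Finset.univ.gcd d) : ℤ)) : ℤ) : ZMod δ)
  have h0 : f 0 = (a : ZMod δ) := congrArg (Int.cast (R := ZMod δ)) (if_pos rfl)
  have h1 : ∀ i : Fin r, f i.succ = (c : ZMod δ) := fun i =>
    congrArg (Int.cast (R := ZMod δ)) (if_neg (Fin.succ_ne_zero i))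
  exact
    { toFun := fun v => (ea ⟨v.1 0, h0 ▸ v.2 0 trivial⟩, fun i => ec ⟨v.1 i.succ, h1 i ▸ v.2 i.succ trivial⟩)
      invFun := fun p => ⟨Fin.cons (ea.symm p.1).1 (fun i => (ec.symm (p.2 i)).1), fun i _ => by
        induction i using Fin.cases with
        | zero => show _ ∈ AddSubgroup.zmultiples (f 0); rw [h0, Fin.cons_zero]; exact (ea.symm p.1).2
        | succ i => show _ ∈ AddSubgroup.zmultiples (f i.succ); rw [h1, Fin.cons_succ]; exact (ec.symm (p.2 i)).2⟩
      left_inv := fun v => Subtype.ext (funext fun i => by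
        induction i using Fin.cases with
        | zero => simp
        | succ i => simp)
      right_inv := fun p => by
        refine Prod.ext ?_ (funext fun i => ?_) <;> simp
      map_add' := fun v w => by
        refine Prod.ext ?_ (funext fun i => ?_)
        · rw [Prod.fst_add, ← map_add ea]; exact congrArg ea (Subtype.ext rfl)
        · rw [Prod.snd_add, Pi.add_apply, ← map_add ec]; exact congrArg ec (Subtype.ext rfl) }

end Groth.Agent.CA2H40.WeightLattice
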