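import Mathlib
import Groth.Agent.S14856

/-! Divisibility by powers of `p` in Witt vectors over `p`-complete torsion-free rings. -/

namespace Groth.Agent.CA2H40

universe u

variable (p : ℕ) [Fact p.Prime] {R : Type u} [CommRing R]

/-- Congruence of the first `m` components modulo `p^s`. -/
noncomputable def truncMod (m s : ℕ) :
    WittVector p R →+* TruncatedWittVector p m (R ⧸ Ideal.span {(p : R) ^ s}) :=
  (WittVector.truncate m).comp (WittVector.map (Ideal.Quotient.mk (Ideal.span {(p : R) ^ s})))

lemma truncMod_eq_iff (m s : ℕ) (x y : WittVector p R) :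
    truncMod p m s x = truncMod p m s y ↔ ∀ i < m, (p : R) ^ s ∣ x.coeff i - y.coeff i := by
  constructor
  · intro h i hi
    have := congrArg (fun t => t.coeff ⟨i, hi⟩) h
    simp only [truncMod, RingHom.comp_apply, WittVector.coeff_truncate, WittVector.map_coeff,
      Ideal.Quotient.eq, Ideal.mem_span_singleton] at this
    exact this
  · intro h
    refine TruncatedWittVector.ext fun i => ?_
    simp only [truncMod, RingHom.comp_apply, WittVector.coeff_truncate, WittVector.map_coeff,
      Ideal.Quotient.eq, Ideal.mem_span_singleton]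
    exact h i i.2

lemma truncMod_eq_zero_iff (m s : ℕ) (x : WittVector p R) :
    truncMod p m s x = 0 ↔ ∀ i < m, (p : R) ^ s ∣ x.coeff i := by
  rw [← map_zero (truncMod p (R := R) m s), truncMod_eq_iff]
  simp [WittVector.zero_coeff]

lemma truncMod_mono {m m' s s' : ℕ} (hm : m' ≤ m) (hs : s' ≤ s) {x : WittVector p R}
    (h : truncMod p m s x = 0) : truncMod p m' s' x = 0 := by
  rw [truncMod_eq_zero_iff] at h ⊢
  exact fun i hi => (pow_dvd_pow _ hs).trans (h i (lt_of_lt_of_le hi hm))

variable (hR : ∀ y : R, (p : R) * y = 0 → y = 0)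
include hR

lemma truncMod_cancel {m s u : ℕ} (x : WittVector p R)
    (h : truncMod p m (s + u) ((p : WittVector p R) ^ u * x) = 0) : truncMod p m s x = 0 := by
  rw [truncMod_eq_zero_iff] at h ⊢
  intro i hi
  rcases Nat.eq_zero_or_pos s with rfl | hs
  · simp
  have h1 := (Groth.Agent.S14856.result p R hR _ i (s + u) (by omega)).mp fun j hj => h j (by omega)
  refine (Groth.Agent.S14856.result p R hR x i s hs).mpr (fun n hn => ?_) i le_rfl
  obtain ⟨c, hc⟩ := h1 n hn
  have hreg : IsLeftRegular ((p : R) ^ u) :=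
    IsLeftRegular.pow u fun a b hab => sub_eq_zero.mp (hR _ (by rw [mul_sub]; exact sub_eq_zero.mpr hab))
  refine ⟨c, hreg ?_⟩
  rw [map_mul, map_pow, map_natCast] at hc
  calc (p : R) ^ u * WittVector.ghostComponent n x = (p : R) ^ (n + (s + u)) * c := hc
    _ = (p : R) ^ u * ((p : R) ^ (n + s) * c) := by ring

variable [IsAdicComplete (Ideal.span {(p : R)}) R]

omit hR in
lemma eq_zero_of_forall_dvd {x : R} (h : ∀ s, (p : R) ^ s ∣ x) : x = 0 :=
  IsHausdorff.haus (I := Ideal.span {(p : R)}) inferInstance x fun n => by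
    rw [SModEq.zero, Ideal.smul_eq_mul, Ideal.mul_top, Ideal.span_singleton_pow, Ideal.mem_span_singleton]
    exact h n

lemma exists_sol_trunc (a : WittVector p R) (m u : ℕ)
    (h : ∀ s : ℕ, ∃ z : WittVector p R, truncMod p m s ((p : WittVector p R) ^ u * z) = truncMod p m s a) :
    ∃ x : WittVector p R, ∀ i < m, ((p : WittVector p R) ^ u * x - a).coeff i = 0 := by
  choose z hz using h
  have hz' : ∀ {s t : ℕ}, s ≤ t → truncMod p m s ((p : WittVector p R) ^ u * z t) = truncMod p m s a := fun {s t} hst => by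
    rw [← sub_eq_zero, ← map_sub]
    exact truncMod_mono p le_rfl hst (by rw [map_sub, hz, sub_self])
  have hcauchy : ∀ i < m, ∀ {s t : ℕ}, s ≤ t → (p : R) ^ s ∣ (z (s + u)).coeff i - (z (t + u)).coeff i := by
    intro i hi s t hst
    refine (truncMod_eq_iff p m s _ _).mp ?_ i hi
    rw [← sub_eq_zero, ← map_sub]
    refine truncMod_cancel p hR (u := u) _ ?_
    rw [mul_sub, map_sub, hz' le_rfl, hz' (by omega), sub_self]
  have hlim : ∀ i, ∃ l : R, i < m → ∀ s, (p : R) ^ s ∣ (z (s + u)).coeff i - l := by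
    intro i
    by_cases hi : i < m
    · obtain ⟨l, hl⟩ := IsPrecomplete.prec (I := Ideal.span {(p : R)}) inferInstance
        (f := fun s => (z (s + u)).coeff i) (fun {s t} hst => by
          rw [SModEq.sub_mem, Ideal.smul_eq_mul, Ideal.mul_top, Ideal.span_singleton_pow, Ideal.mem_span_singleton]
          exact hcauchy i hi hst)
      refine ⟨l, fun _ s => ?_⟩
      have := hl s
      rwa [SModEq.sub_mem, Ideal.smul_eq_mul, Ideal.mul_top, Ideal.span_singleton_pow, Ideal.mem_span_singleton] at this
    · exact ⟨0, fun h => absurd h hi⟩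
  choose l hl using hlim
  refine ⟨WittVector.mk p l, fun i hi => eq_zero_of_forall_dvd p fun s => ?_⟩
  refine (truncMod_eq_zero_iff p m s _).mp ?_ i hi
  have hx : truncMod p m s (WittVector.mk p l) = truncMod p m s (z (s + u)) :=
    (truncMod_eq_iff p m s _ _).mpr fun j hj => by rw [WittVector.coeff_mk]; exact dvd_sub_comm.mp (hl j hj s)
  rw [map_sub, map_mul, hx, ← map_mul, hz' (by omega), sub_self]

end Groth.Agent.CA2H40
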